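import Groth.Agent.AlgSp.K632.IntThickA
import Groth.Agent.AlgSp.K597.EffDesc
import Groth.Agent.AlgSp.K597.Affine
import Groth.Agent.AlgSp.K595.DescInst
import Groth.Agent.AlgSp.K613.Chart
import Groth.Agent.EtCore.K300.IntProps
import Groth.Agent.S1305

/-!
# Integral morphisms and thickenings of algebraic spaces

Let `(f, f')` be a morphism of thickenings `X ⊂ X'`, `Y ⊂ Y'` of algebraic spaces. If `f` is integral (representable),
then so is `f'`: étale locally on a test scheme `T' → Y'` the étale charts of `X' ×_{Y'} T'` have a section over the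
thin part, so that `X' ×_{Y'} T'` is an open subscheme of a chart; conclude by effective étale descent.
-/

set_option autoImplicit false
universe u
open CategoryTheory CategoryTheory.Limits AlgebraicGeometry Opposite

namespace K632.IntThick

open AlgSp K632.Basic K632.Chart K632.IntThickA

variable {S : Scheme.{u}}

/-- étale covers of `X`, integral over `Y`, have sections over affine étale neighbourhoods of points of `Y`. -/
theorem exists_factor_over {P T U : Over S} (p : P ⟶ T) (hp : IsIntegralHom p.left) (q : U ⟶ P) (hq : Etale q.left)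
    (hqs : Surjective q.left) (t : T.left) :
    ∃ (V : Over S) (v : V ⟶ T) (σ : pullback p v ⟶ U), Etale v.left ∧ IsAffine V.left ∧ t ∈ Set.range v.left ∧
      σ ≫ q = pullback.fst p v := by
  obtain ⟨V₀, v₀, hv₀, y', hy', σ₀, hσ₀⟩ := K300.IntProps.exists_factor p.left q.left t (fun x _ => hqs.surj x)
  obtain ⟨O, hO, hyO⟩ : ∃ O : V₀.Opens, IsAffineOpen O ∧ y' ∈ O := by
    obtain ⟨_, ⟨O, hO, rfl⟩, hyO, -⟩ :=
      V₀.isBasis_affineOpens.exists_subset_of_mem_open (Set.mem_univ y') isOpen_univ
    exact ⟨O, hO, hyO⟩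
  let V : Over S := Over.mk ((O.ι ≫ v₀) ≫ T.hom)
  let v : V ⟶ T := Over.homMk (O.ι ≫ v₀) rfl
  have hw : (pullback.fst p v).left ≫ p.left = ((pullback.snd p v).left ≫ O.ι) ≫ v₀ := by
    have := congrArg (·.left) (pullback.condition (f := p) (g := v))
    simpa [v] using this
  let l : (pullback p v).left ⟶ pullback p.left v₀ := pullback.lift _ _ hw
  have e1 : (l ≫ σ₀) ≫ q.left = (pullback.fst p v).left := by
    rw [Category.assoc, hσ₀]
    exact pullback.lift_fst _ _ _
  have e2 : (l ≫ σ₀) ≫ U.hom = (pullback p v).hom := by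
    rw [← Over.w q, ← Category.assoc, e1, Over.w]
  refine ⟨V, v, Over.homMk (l ≫ σ₀) e2, ?_, hO, ?_, ?_⟩
  · exact (inferInstance : Etale (O.ι ≫ v₀))
  · refine ⟨⟨y', hyO⟩, ?_⟩
    exact hy'
  · apply Over.OverMorphism.ext
    exact e1

theorem exists_local {P' : Sp S} (hP' : IsAlgSpace P') {P T : Over S} {i : (yon S).obj P ⟶ P'}
    (hi : IsThickMor i) (p : P ⟶ T) (p' : P' ⟶ (yon S).obj T) (w : i ≫ p' = (yon S).map p)
    (hp : IsIntegralHom p.left) (t : T.left) :
    ∃ (V : Over S) (v : V ⟶ T) (W' : Over S) (w' : W' ⟶ V) (b : (yon S).obj W' ⟶ P'),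
      Etale v.left ∧ IsAffine V.left ∧ t ∈ Set.range v.left ∧
      IsPullback b ((yon S).map w') p' ((yon S).map v) ∧ IsIntegralHom w'.left := by
  obtain ⟨U', a, ha, has⟩ := hP'.atlas
  obtain ⟨U, iU, aU, hU⟩ := hi.1 a
  obtain ⟨q, rfl⟩ := (yon S).map_surjective aU
  have hq : Etale q.left := ha.2 _ _ _ hU.flip
  have hqs : Surjective q.left := has.2 _ _ _ hU.flip
  obtain ⟨V, v, σ, hv, hVa, ht, hσ⟩ := exists_factor_over p hp q hq hqs t
  obtain ⟨u', hu'⟩ := (yon S).map_surjective (a ≫ p')
  have huc : iU ≫ u' = q ≫ p := by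
    apply (yon S).map_injective
    rw [Functor.map_comp, hu', Functor.map_comp, ← w, ← Category.assoc, ← hU.w, Category.assoc]
  -- the fibre product `P' ×_T V` and its charts
  have sq1 : IsPullback (pullback.fst p' ((yon S).map v)) (pullback.snd p' ((yon S).map v)) p' ((yon S).map v) :=
    IsPullback.of_hasPullback _ _
  have sqU' : IsPullback ((yon S).map (pullback.fst u' v)) ((yon S).map (pullback.snd u' v)) ((yon S).map u')
      ((yon S).map v) := (IsPullback.of_hasPullback u' v).map (yon S)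
  have sqP : IsPullback ((yon S).map (pullback.fst p v)) ((yon S).map (pullback.snd p v)) ((yon S).map p)
      ((yon S).map v) := (IsPullback.of_hasPullback p v).map (yon S)
  rw [hu'] at sqU'
  rw [← w] at sqP
  let aV : (yon S).obj (pullback u' v) ⟶ pullback p' ((yon S).map v) :=
    sq1.lift ((yon S).map (pullback.fst u' v) ≫ a) ((yon S).map (pullback.snd u' v)) (by
      rw [Category.assoc, sqU'.w])
  let iV : (yon S).obj (pullback p v) ⟶ pullback p' ((yon S).map v) :=
    sq1.lift ((yon S).map (pullback.fst p v) ≫ i) ((yon S).map (pullback.snd p v)) (by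
      rw [Category.assoc, sqP.w])
  have haV1 : aV ≫ pullback.fst p' ((yon S).map v) = (yon S).map (pullback.fst u' v) ≫ a := sq1.lift_fst _ _ _
  have haV2 : aV ≫ pullback.snd p' ((yon S).map v) = (yon S).map (pullback.snd u' v) := sq1.lift_snd _ _ _
  have hiV1 : iV ≫ pullback.fst p' ((yon S).map v) = (yon S).map (pullback.fst p v) ≫ i := sq1.lift_fst _ _ _
  have hiV2 : iV ≫ pullback.snd p' ((yon S).map v) = (yon S).map (pullback.snd p v) := sq1.lift_snd _ _ _
  have sqa : IsPullback ((yon S).map (pullback.fst u' v)) aV a (pullback.fst p' ((yon S).map v)) :=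
    IsPullback.of_bot (by rw [haV2]; exact sqU') haV1.symm sq1
  have sqi : IsPullback ((yon S).map (pullback.fst p v)) iV i (pullback.fst p' ((yon S).map v)) :=
    IsPullback.of_bot (by rw [hiV2]; exact sqP) hiV1.symm sq1
  have hiVt : IsThickMor iV := IsThickMor.of_isPullback sqi hi
  have haVe : RepWith @Etale aV := repWith_of_isPullback sqa ha
  obtain ⟨UV, iUV, aUV, hUV⟩ := hiVt.1 aV
  obtain ⟨qV, rfl⟩ := (yon S).map_surjective aUV
  -- the section
  let m : pullback p v ⟶ pullback u' v := pullback.lift (σ ≫ iU) (pullback.snd p v) (by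
    rw [Category.assoc, huc, ← Category.assoc, hσ, pullback.condition])
  have hm1 : m ≫ pullback.fst u' v = σ ≫ iU := pullback.lift_fst _ _ _
  have hm2 : m ≫ pullback.snd u' v = pullback.snd p v := pullback.lift_snd _ _ _
  have hm : (𝟙 _) ≫ iV = (yon S).map m ≫ aV := by
    apply sq1.hom_ext
    · rw [Category.id_comp, hiV1, Category.assoc, haV1, ← Category.assoc, ← Functor.map_comp, hm1,
        Functor.map_comp, Category.assoc, ← hU.w, ← Category.assoc, ← Functor.map_comp, hσ]
    · rw [Category.id_comp, hiV2, Category.assoc, haV2, ← Functor.map_comp, hm2]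
  obtain ⟨σV, hσV⟩ := (yon S).map_surjective (hUV.lift (𝟙 _) ((yon S).map m) hm)
  have hσV1 : σV ≫ qV = 𝟙 _ := by
    apply (yon S).map_injective
    rw [Functor.map_comp, hσV, hUV.lift_fst, (yon S).map_id]
  obtain ⟨W', b, hb⟩ := exists_iso_of_section hiVt haVe hUV σV hσV1
  obtain ⟨w', hw'⟩ := (yon S).map_surjective (b ≫ pullback.snd p' ((yon S).map v))
  obtain ⟨j, hj⟩ := (yon S).map_surjective (iV ≫ inv b)
  refine ⟨V, v, W', w', b ≫ pullback.fst p' ((yon S).map v), hv, hVa, ht, ?_, ?_⟩
  · rw [hw']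
    exact IsPullback.of_iso sq1 (asIso b).symm (Iso.refl _) (Iso.refl _) (Iso.refl _) (by simp) (by simp) (by simp)
      (by simp)
  · have hjt : IsThickMor ((yon S).map j) := by
      rw [hj]
      have hR : (RepWith (S := S) thick).RespectsIso := MorphismProperty.relative_respectsIso _
      exact (MorphismProperty.cancel_right_of_respectsIso (RepWith (S := S) thick) iV (inv b)).2 hiVt
    have hjt' : MoreMor.IsThickening j.left := (repWith_yon_map_iff thick j).1 hjt
    have hid : MoreMor.IsThickening (𝟙 V.left) := ⟨inferInstance, inferInstance⟩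
    have hjw : j ≫ w' = pullback.snd p v ≫ 𝟙 V := by
      apply (yon S).map_injective
      rw [Functor.map_comp, hj, hw', Category.assoc, IsIso.inv_hom_id_assoc, hiV2, Category.comp_id]
    have hint : IsIntegralHom (pullback.snd p v).left := by
      have h1 := (IsPullback.of_hasPullback p v).map (Over.forget S)
      exact MorphismProperty.of_isPullback (P := @IsIntegralHom) h1 hp
    exact (Groth.Agent.S1305.result j.left (𝟙 _) (pullback.snd p v).left w'.left hjt' hid
      (congrArg (·.left) hjw)).1 hint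

/-- A test scheme `T' ⟶ Y'` for a morphism of thickenings with `f` representable: `P = X ×_{Y'} T'` is a scheme, a
thickening of `X' ×_{Y'} T'`, and `P ⟶ T'` is the composition of a base change of `f` and a thickening. -/
theorem exists_thin_pullback {X X' Y Y' : Sp S} {i : X ⟶ X'} {j : Y ⟶ Y'} {f : X ⟶ Y} {f' : X' ⟶ Y'}
    (hi : IsThickMor i) (hj : IsThickMor j) (w : i ≫ f' = f ≫ j) (hf : Representable f)
    {T' : Over S} (g : (yon S).obj T' ⟶ Y') {P' : Sp S} {x : P' ⟶ X'} {p' : P' ⟶ (yon S).obj T'}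
    (sq : IsPullback x p' f' g) :
    ∃ (T P : Over S) (τ : T ⟶ T') (k : (yon S).obj T ⟶ Y) (π : P ⟶ T) (e : (yon S).obj P ⟶ X)
      (ι : (yon S).obj P ⟶ P'), IsPullback k ((yon S).map τ) j g ∧ IsPullback e ((yon S).map π) f k ∧
      IsPullback e ι i x ∧ IsThickMor ι ∧ ι ≫ p' = (yon S).map (π ≫ τ) ∧ MoreMor.IsThickening τ.left := by
  obtain ⟨T, τ, k, hT⟩ := hj.1 g
  obtain ⟨P, π, e, hP⟩ := hf k
  have h1 : IsPullback e ((yon S).map π ≫ (yon S).map τ) (i ≫ f') g := by
    rw [w]
    exact hP.paste_vert hT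
  have h2 : (e ≫ i) ≫ f' = ((yon S).map π ≫ (yon S).map τ) ≫ g := by
    rw [Category.assoc, h1.w]
  have h3 : IsPullback e (sq.lift (e ≫ i) _ h2) i x := by
    refine IsPullback.of_bot ?_ (sq.lift_fst _ _ _).symm sq
    rw [sq.lift_snd]
    exact h1
  refine ⟨T, P, τ, k, π, e, sq.lift (e ≫ i) _ h2, hT, hP, h3, IsThickMor.of_isPullback h3 hi, ?_, hj.2 _ _ _ hT⟩
  rw [sq.lift_snd, Functor.map_comp]

/-- **Integral morphisms and thickenings.** In a morphism `(f, f')` of thickenings of algebraic spaces, if `f` is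
integral (representable) then so is `f'`. -/
theorem repWith_isIntegralHom {X X' Y Y' : Sp S} (hX' : IsAlgSpace X') (hY' : IsAlgSpace Y')
    {i : X ⟶ X'} {j : Y ⟶ Y'} {f : X ⟶ Y} {f' : X' ⟶ Y'}
    (hi : IsThickMor i) (hj : IsThickMor j) (w : i ≫ f' = f ≫ j) (hf : RepWith @IsIntegralHom f) :
    RepWith @IsIntegralHom f' := by
  have := K595.DescInst.isIntegralHom.{u}
  refine K597.EffDesc.repWith_of_etale_local @IsIntegralHom fun U y t => ?_
  let g : (yon S).obj U ⟶ Y' := K594.Elem.secEquiv.symm y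
  have sq : IsPullback (pullback.fst f' g) (pullback.snd f' g) f' g := IsPullback.of_hasPullback _ _
  obtain ⟨T, P, τ, k, π, e, ι, h1, h2, h3, h4, h5, h6⟩ := exists_thin_pullback hi hj w hf.1 g sq
  have hτ : IsClosedImmersion τ.left := h6.1
  have hπ : IsIntegralHom π.left := hf.2 _ _ _ h2
  have hp : IsIntegralHom (π ≫ τ).left := (inferInstance : IsIntegralHom (π.left ≫ τ.left))
  obtain ⟨V, v, W', w', b, hv, hVa, ht, hb, hw'⟩ := exists_local
    (K613.Chart.isAlgSpace_pullback hX' (IsAlgSpace.yon_obj _) hY' f' g) h4 (π ≫ τ) (pullback.snd f' g) h5 hp t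
  have hsq : IsPullback (b ≫ pullback.fst f' g) ((yon S).map w') f' ((yon S).map v ≫ g) :=
    hb.paste_horiz sq
  have hr := K594.Elem.isRep_of_isPullback hsq
  have hy : K594.Elem.secEquiv ((yon S).map v ≫ g) = Y'.obj.map v.op y := by
    rw [K597.Affine.secEquiv_precomp, Equiv.apply_symm_apply]
  rw [hy] at hr
  refine ⟨V, v, W', w', _, hv, ht, hr, hw', fun O hO => ?_⟩
  have : IsAffine W'.left := isAffine_of_isAffineHom w'.left
  exact K597.EffDesc.isQuasiAffine_open O hO

end K632.IntThick
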