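import Groth.Agent.Flat2C.ThickAlg

set_option autoImplicit false
universe u

open CategoryTheory Limits AlgebraicGeometry

namespace K632.SrcNil

open Groth.Agent.Flat2C.Thick

/-- Finite type lifts along a base change of a surjection whose kernel becomes nilpotent on the source. -/
theorem finiteType_of_isNilpotent {R' A' R A : Type*} [CommRing R'] [CommRing A'] [CommRing R]
    [CommRing A] (φ' : R' →+* A') (π : R' →+* R) (ρ : A' →+* A) (φ : R →+* A)
    (comm : ρ.comp φ' = φ.comp π) (hπ : Function.Surjective π) (hρ : Function.Surjective ρ)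
    (hker : RingHom.ker ρ = (RingHom.ker π).map φ') (hn : IsNilpotent (RingHom.ker ρ))
    (h : φ.FiniteType) : φ'.FiniteType := by
  obtain ⟨n, hn⟩ := hn
  let I := RingHom.ker π
  have h0 : I ^ n ≤ RingHom.ker φ' := by
    have : (I ^ n).map φ' = ⊥ := by rw [Ideal.map_pow, ← hker, hn]; rfl
    intro x hx
    have := Ideal.mem_map_of_mem φ' hx
    rwa [‹(I ^ n).map φ' = ⊥›, Ideal.mem_bot] at this
  let q : R' →+* R' ⧸ I ^ n := Ideal.Quotient.mk (I ^ n)
  let φ'' : R' ⧸ I ^ n →+* A' := Ideal.Quotient.lift (I ^ n) φ' fun a ha => h0 ha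
  have hφ : φ''.comp q = φ' := Ideal.Quotient.lift_comp_mk _ _ _
  by_cases hn0 : n = 0
  · subst hn0
    have : Subsingleton A' := by
      have h1 : RingHom.ker ρ ^ 0 = (⊤ : Ideal A') := by rw [pow_zero]; exact Ideal.one_eq_top
      rw [h1] at hn
      exact (Submodule.subsingleton_iff A').mp (subsingleton_of_bot_eq_top hn.symm)
    exact RingHom.FiniteType.of_surjective _ fun a => ⟨0, Subsingleton.elim _ _⟩
  have h1 : I ^ n ≤ RingHom.ker π := Ideal.pow_le_self hn0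
  let π' : R' ⧸ I ^ n →+* R := Ideal.Quotient.lift (I ^ n) π fun a ha => h1 ha
  have hπ' : π'.comp q = π := Ideal.Quotient.lift_comp_mk _ _ _
  have hq : Function.Surjective q := Ideal.Quotient.mk_surjective
  have hkπ' : RingHom.ker π' = I.map q := by
    rw [← Ideal.map_comap_of_surjective q hq (RingHom.ker π'), RingHom.comap_ker, hπ']
  have h2 : φ''.FiniteType := by
    refine Groth.Agent.Flat2C.ThickAlg.finiteType_of_isNilpotent φ'' π' ρ φ ?_ ?_ hρ ?_ ?_ h
    · apply Ideal.Quotient.ringHom_ext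
      change (ρ.comp φ'').comp q = (φ.comp π').comp q
      rw [RingHom.comp_assoc, hφ, RingHom.comp_assoc, hπ', comm]
    · exact Function.Surjective.of_comp (g := q) (by rw [← RingHom.coe_comp, hπ']; exact hπ)
    · rw [hkπ', Ideal.map_map, hφ, hker]
    · refine ⟨n, ?_⟩
      rw [hkπ', ← Ideal.map_pow]
      exact Ideal.map_quotient_self _
  rw [← hφ]
  exact h2.comp (RingHom.FiniteType.of_surjective q hq)

/-- Locally of finite type lifts along a cartesian square over a thickening, when the ideal of the upper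
thickening is nilpotent. -/
theorem locallyOfFiniteType {X X' S S' : Scheme.{u}} (iX : X ⟶ X') (iS : S ⟶ S') (f : X ⟶ S) (f' : X' ⟶ S')
    (hS : MoreMor.IsThickening iS) (hc : IsPullback iX f f' iS) (hn : IsNilpotent iX.ker)
    (hf : LocallyOfFiniteType f) : LocallyOfFiniteType f' := by
  obtain ⟨hS1, hS2⟩ := hS
  refine ⟨fun {U} hU {V} hV e => ?_⟩
  have e' : iX ⁻¹ᵁ V ≤ f ⁻¹ᵁ (iS ⁻¹ᵁ U) := by
    rw [← Scheme.Hom.comp_preimage, ← hc.w, Scheme.Hom.comp_preimage]
    exact iX.preimage_mono e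
  have : IsClosedImmersion iX := MorphismProperty.of_isPullback hc.flip ‹_›
  obtain ⟨h1, h2⟩ := surjective_app_and_ker_app hc hU hV e
  have h3 := isPushout_appLE hc hU hV e
  have h4 : (f.appLE (iS ⁻¹ᵁ U) (iX ⁻¹ᵁ V) e').hom.FiniteType :=
    hf.finiteType_appLE (hU.preimage iS) (hV.preimage iX) e'
  refine finiteType_of_isNilpotent (f'.appLE U V e).hom (iS.app U).hom (iX.app V).hom
    (f.appLE (iS ⁻¹ᵁ U) (iX ⁻¹ᵁ V) e').hom ?_ (iS.app_surjective U hU) h1 h2
    (isNilpotent_ker_app iX hn hV) h4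
  rw [← CommRingCat.hom_comp, ← CommRingCat.hom_comp, h3.w]

/-- Formally unramified lifts along a cartesian square over a thickening, when the ideal of the upper
thickening is nilpotent. -/
theorem formallyUnramified {X X' S S' : Scheme.{u}} (iX : X ⟶ X') (iS : S ⟶ S') (f : X ⟶ S) (f' : X' ⟶ S')
    (hS : MoreMor.IsThickening iS) (hc : IsPullback iX f f' iS) (hn : IsNilpotent iX.ker)
    (hf : FormallyUnramified f) : FormallyUnramified f' := by
  obtain ⟨hS1, hS2⟩ := hS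
  refine ⟨fun {U} hU {V} hV e => ?_⟩
  have e' : iX ⁻¹ᵁ V ≤ f ⁻¹ᵁ (iS ⁻¹ᵁ U) := by
    rw [← Scheme.Hom.comp_preimage, ← hc.w, Scheme.Hom.comp_preimage]
    exact iX.preimage_mono e
  have : IsClosedImmersion iX := MorphismProperty.of_isPullback hc.flip ‹_›
  obtain ⟨h1, h2⟩ := surjective_app_and_ker_app hc hU hV e
  have h3 := isPushout_appLE hc hU hV e
  have h4 : (f.appLE (iS ⁻¹ᵁ U) (iX ⁻¹ᵁ V) e').hom.FormallyUnramified :=
    hf.formallyUnramified_appLE (hU.preimage iS) (hV.preimage iX) e'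
  have hn' : IsNilpotent (RingHom.ker (iX.app V).hom) := isNilpotent_ker_app iX hn hV
  algebraize [(f'.appLE U V e).hom, (iS.app U).hom, (iX.app V).hom,
    (f.appLE (iS ⁻¹ᵁ U) (iX ⁻¹ᵁ V) e').hom, (f'.appLE U V e ≫ iX.app V).hom]
  have : IsScalarTower Γ(S', U) Γ(S, iS ⁻¹ᵁ U) Γ(X, iX ⁻¹ᵁ V) := by
    refine .of_algebraMap_eq' ?_
    change (f'.appLE U V e ≫ iX.app V).hom = (iS.app U ≫ f.appLE (iS ⁻¹ᵁ U) (iX ⁻¹ᵁ V) e').hom
    rw [h3.w]
  have : IsScalarTower Γ(S', U) Γ(X', V) Γ(X, iX ⁻¹ᵁ V) := .of_algebraMap_eq' rfl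
  have hpush : Algebra.IsPushout Γ(S', U) Γ(S, iS ⁻¹ᵁ U) Γ(X', V) Γ(X, iX ⁻¹ᵁ V) :=
    (CommRingCat.isPushout_iff_isPushout (R := Γ(S', U)) (S := Γ(X', V)) (R' := Γ(S, iS ⁻¹ᵁ U))
      (S' := Γ(X, iX ⁻¹ᵁ V))).mp h3.flip
  exact Groth.Agent.Flat2C.ThickAlg.formallyUnramified_of_isNilpotent (R' := Γ(S', U)) (R := Γ(S, iS ⁻¹ᵁ U))
    (A' := Γ(X', V)) (A := Γ(X, iX ⁻¹ᵁ V)) h1 hn'

end K632.SrcNil
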