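import Groth.Agent.AlgSp.K632.Basic
import Groth.Agent.AlgSp.K609.Points
import Groth.Agent.AlgSp.K613.Basic
import Groth.Agent.AlgSp.K613.Chart
import Groth.Agent.AlgSp.K616.Refine
import Groth.Agent.S10587
import Groth.Agent.S10261

/-!
# Isomorphisms, open immersions and monomorphisms in deformation problems

* `injective_of_mono`, `isUnivInjectiveMor_of_mono`: monomorphisms are (universally) injective on points.
* `isIso_of_repWith_isIso`, `isIso_of_open_of_surj`.
* `open_of_thick`, `iso_of_thick`: over thickenings `X ⊂ X'`, `Y ⊂ Y'`, if étaleness of `f` implies that of `f'`,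
  then so it is for open immersions and isomorphisms.
* `mono_of_thick`: the same for monomorphisms, in terms of the diagonals.
-/

set_option autoImplicit false
universe u
open CategoryTheory CategoryTheory.Limits AlgebraicGeometry Opposite

namespace K632.DeformIso

open AlgSp K632.Basic

variable {S : Scheme.{u}}

theorem injective_of_mono {F G : Sp S} (f : F ⟶ G) [Mono f] : Function.Injective (Points.map f) := by
  intro x y h
  obtain ⟨z, h1, h2⟩ := K616.Refine.exists_point_of_isPullback (IsKernelPair.id_of_mono f) x y h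
  rw [← h1, ← h2]

theorem isUnivInjectiveMor_of_mono {F G : Sp S} (f : F ⟶ G) [Mono f] : IsUnivInjectiveMor f := by
  intro Z Z' _ g fst snd sq
  have : Mono snd := MorphismProperty.of_isPullback (P := MorphismProperty.monomorphisms _) sq ‹_›
  exact injective_of_mono snd

theorem isOpenImmersion_le_mono : @IsOpenImmersion.{u} ≤ MorphismProperty.monomorphisms Scheme.{u} := by
  intro X Y f hf
  have : IsOpenImmersion f := hf
  exact (inferInstance : Mono f)

theorem isIso_of_repWith_isIso {F G : Sp S} {f : F ⟶ G}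
    (h : RepWith (MorphismProperty.isomorphisms Scheme.{u}) f) : IsIso f := by
  refine K613.Basic.isIso_of_bijective fun T y => ?_
  obtain ⟨W, w, k, sq⟩ := h.1 y
  have h1 : IsIso w.left := h.2 _ _ _ sq
  have h2 : IsIso ((Over.forget S).map w) := h1
  have h3 : IsIso w := isIso_of_reflects_iso w (Over.forget S)
  refine ⟨(yon S).map (inv w) ≫ k, ?_, ?_⟩
  · dsimp only
    rw [Category.assoc, sq.w, ← Category.assoc, ← Functor.map_comp, IsIso.inv_hom_id, (yon S).map_id,
      Category.id_comp]
  · intro x hx
    have h4 : sq.lift x (𝟙 _) (by rw [hx, Category.id_comp]) = (yon S).map (inv w) := by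
      rw [← cancel_mono ((yon S).map w), sq.lift_snd, ← Functor.map_comp, IsIso.inv_hom_id, (yon S).map_id]
    rw [← h4, sq.lift_fst]

theorem isIso_of_open_of_surj {F G : Sp S} {f : F ⟶ G} (h : RepWith @IsOpenImmersion f)
    (hs : Function.Surjective (Points.map f)) : IsIso f := by
  refine isIso_of_repWith_isIso ⟨h.1, fun U V g fst snd sq => ?_⟩
  have h1 : IsOpenImmersion snd.left := h.2 _ _ _ sq
  have h2 : Surjective snd.left := ((K609.Points.repWith_surjective_iff h.1).2 hs).2 _ _ _ sq
  exact (isIso_iff_isOpenImmersion_and_surjective _).2 ⟨h1, h2⟩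

theorem isEtaleMor_of_open {F G : Sp S} {f : F ⟶ G} (h : RepWith @IsOpenImmersion f) : IsEtaleMor f := by
  intro U φ hφ
  have h1 : RepWith @Etale f := ⟨h.1, fun U V g fst snd sq => by
    have : IsOpenImmersion snd.left := h.2 _ _ _ sq
    exact (inferInstance : Etale snd.left)⟩
  exact (RepWith (S := S) @Etale).comp_mem _ _ hφ h1

theorem repWith_open_of_isIso {F G : Sp S} (f : F ⟶ G) [IsIso f] : RepWith @IsOpenImmersion f := by
  have hR : (RepWith (S := S) @IsOpenImmersion).RespectsIso := MorphismProperty.relative_respectsIso _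
  have h : RepWith @IsOpenImmersion (𝟙 F) := MorphismProperty.id_mem _ _
  have := (MorphismProperty.cancel_right_of_respectsIso (RepWith (S := S) @IsOpenImmersion) (𝟙 F) f).2 h
  rwa [Category.id_comp] at this

theorem open_of_thick {X X' Y Y' : Space S} {i : X ⟶ X'} {j : Y ⟶ Y'} {f : X ⟶ Y} {f' : X' ⟶ Y'}
    (hi : IsThickMor i.hom) (hj : IsThickMor j.hom) (w : i ≫ f' = f ≫ j)
    (het : IsEtaleMor f.hom → IsEtaleMor f'.hom) (h : RepWith @IsOpenImmersion f.hom) :
    RepWith @IsOpenImmersion f'.hom := by
  have hm : Mono f.hom := mono_of_repWith isOpenImmersion_le_mono h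
  have h1 := (Groth.Agent.S10587.result i j f f' hi hj w).2.2.2.1.1 (isUnivInjectiveMor_of_mono f.hom)
  exact Groth.Agent.S10261.result f' (het (isEtaleMor_of_open h)) h1

theorem iso_of_thick {X X' Y Y' : Space S} {i : X ⟶ X'} {j : Y ⟶ Y'} {f : X ⟶ Y} {f' : X' ⟶ Y'}
    (hi : IsThickMor i.hom) (hj : IsThickMor j.hom) (w : i ≫ f' = f ≫ j)
    (het : IsEtaleMor f.hom → IsEtaleMor f'.hom) (h : IsIso f.hom) : IsIso f'.hom := by
  have h1 : RepWith @IsOpenImmersion f'.hom := open_of_thick hi hj w het (repWith_open_of_isIso _)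
  refine isIso_of_open_of_surj h1 ((Groth.Agent.S10587.result i j f f' hi hj w).1.1 ?_)
  exact fun y => ⟨Points.map (inv f.hom) y, by rw [← Points.map_comp, IsIso.inv_hom_id, Points.map_id]⟩

end K632.DeformIso
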