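import Groth.Agent.AlgSp.K598.Charts
import Groth.Agent.AlgSp.K597.FlatKer
import Groth.Agent.AlgSp.K597.LocP
import Groth.Agent.AlgSp.K597.EtLoc
import Groth.Agent.AlgSp.K613.Chart
import Groth.Agent.AlgSp.K650.DedAlg
import Groth.Agent.AlgSp.K647.QcIdl
import Groth.Agent.AlgSp.K596.QC2
import Groth.Agent.AlgSp.K608.GpdSq
import Groth.Prelude.Def_AlgSpGpd

/-!
# Flat closures of the generic fibre of an algebraic space over a Dedekind base

`IsDed E`: `E ⟶ S` is quasi-compact, schematically dominant, and every `T ⟶ S` such that `T ×_S E ⟶ T` is schematically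
dominant is flat (example: `Spec K ⟶ Spec R`, `R` a Dedekind domain with fraction field `K`, `isDed_spec`).

`exists_flatClos`: an algebraic space `Y` over `S` has a closed subspace, flat over `S`, through which every map from a
flat `S`-scheme factors.
-/

set_option autoImplicit false
universe u
open CategoryTheory CategoryTheory.Limits AlgebraicGeometry Opposite
open AlgSp K598.ClFam K598.Charts K598.RepKit

namespace K632.FlatClos

variable {S : Scheme.{u}}

section scheme

variable (E : Over S)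

/-- The kernel of `T ×_S E ⟶ T`. -/
noncomputable def Kr (T : Over S) : T.left.IdealSheafData := (pullback.fst T.hom E.hom).ker

/-- The base change of a morphism. -/
noncomputable def bc {T' T : Over S} (φ : T' ⟶ T) : pullback T'.hom E.hom ⟶ pullback T.hom E.hom :=
  pullback.lift (pullback.fst T'.hom E.hom ≫ φ.left) (pullback.snd T'.hom E.hom) (by
    rw [Category.assoc, Over.w, pullback.condition])

theorem isPullback_bc {T' T : Over S} (φ : T' ⟶ T) :
    IsPullback (bc E φ) (pullback.fst T'.hom E.hom) (pullback.fst T.hom E.hom) φ.left := by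
  refine IsPullback.of_right (h₁₂ := pullback.snd T.hom E.hom) (v₁₃ := E.hom) (h₂₂ := T.hom) ?_ ?_
    (IsPullback.of_hasPullback T.hom E.hom).flip
  · have h1 : bc E φ ≫ pullback.snd T.hom E.hom = pullback.snd T'.hom E.hom := pullback.lift_snd _ _ _
    rw [h1, Over.w]
    exact (IsPullback.of_hasPullback T'.hom E.hom).flip
  · exact pullback.lift_fst _ _ _

theorem Kr_comap_flat [QuasiCompact E.hom] {T' T : Over S} (φ : T' ⟶ T) (h : Flat φ.left) :
    (Kr E T).comap φ.left = Kr E T' :=
  (K597.FlatKer.ker_of_isPullback_flat (isPullback_bc E φ)).symm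

theorem Kr_comap_le {T' T : Over S} (φ : T' ⟶ T) : (Kr E T).comap φ.left ≤ Kr E T' := by
  rw [← Scheme.IdealSheafData.le_map_iff_comap_le]
  change _ ≤ (pullback.fst T'.hom E.hom).ker.map φ.left
  rw [← Scheme.Hom.ker_comp, ← (isPullback_bc E φ).w]
  exact Scheme.Hom.le_ker_comp _ _

theorem Kr_eq_bot_of_flat [QuasiCompact E.hom] (hE : E.hom.ker = ⊥) (T : Over S) (h : Flat T.hom) :
    Kr E T = ⊥ := by
  have h1 := K597.FlatKer.ker_of_isPullback_flat (IsPullback.of_hasPullback T.hom E.hom).flip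
  change (pullback.fst T.hom E.hom).ker = ⊥
  rw [h1, hE, Scheme.IdealSheafData.comap_bot]

/-- The closed subscheme cut out by `Kr T`. -/
noncomputable abbrev cl (T : Over S) : Over S := Over.mk ((Kr E T).subschemeι ≫ T.hom)

theorem Kr_cl [QuasiCompact E.hom] (T : Over S) : Kr E (cl E T) = ⊥ := by
  let j : cl E T ⟶ T := Over.homMk (Kr E T).subschemeι rfl
  -- `T_E ⟶ T` factors through `cl T`
  let f := pullback.fst T.hom E.hom
  let g : pullback T.hom E.hom ⟶ (cl E T).left := f.toImage
  have hg : g ≫ (Kr E T).subschemeι = f := f.toImage_imageι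
  have hgk : g.ker = ⊥ := K597.FlatKer.ker_toImage f
  -- and then through `cl T ×_S E`
  let l : pullback T.hom E.hom ⟶ pullback (cl E T).hom E.hom := pullback.lift g (pullback.snd T.hom E.hom) (by
    change g ≫ (Kr E T).subschemeι ≫ T.hom = _
    rw [← Category.assoc, hg, pullback.condition])
  have hl : l ≫ pullback.fst (cl E T).hom E.hom = g := pullback.lift_fst _ _ _
  rw [← le_bot_iff, ← hgk, ← hl]
  exact Scheme.Hom.le_ker_comp _ _

end scheme

/-- The properties of the inclusion of the generic point of a Dedekind scheme. -/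
structure IsDed (E : Over S) : Prop where
  qc : QuasiCompact E.hom
  ker : E.hom.ker = ⊥
  flat : ∀ T : Over S, Kr E T = ⊥ → Flat T.hom

theorem flat_of_Kr_eq_bot {R K B : CommRingCat.{u}} [IsDedekindDomain R] (ι : R ⟶ K)
    (hι : ∀ r : R, r ≠ 0 → IsUnit (ι.hom r)) (ψ : R ⟶ B) (h : Kr (Over.mk (Spec.map ι)) (Over.mk (Spec.map ψ)) = ⊥) :
    ψ.hom.Flat := by
  let π : pullback (Spec.map ψ) (Spec.map ι) ⟶ Spec B := pullback.fst _ _
  let σ : pullback (Spec.map ψ) (Spec.map ι) ⟶ Spec K := pullback.snd _ _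
  have hw : π ≫ Spec.map ψ = σ ≫ Spec.map ι := pullback.condition
  have hπ : π.ker = ⊥ := h
  have hinj : Function.Injective π.appTop.hom := by
    rw [RingHom.injective_iff_ker_eq_bot]
    have h1 : π.ker.ideal ⟨⊤, isAffineOpen_top _⟩ = RingHom.ker π.appTop.hom :=
      Scheme.Hom.ker_apply π ⟨⊤, isAffineOpen_top _⟩
    rw [← h1, hπ]
    rfl
  refine K650.DedAlg.flat_of_torsionFree _ fun r b hr hb => ?_
  have hu : IsUnit (π.appTop.hom ((Scheme.ΓSpecIso B).inv.hom (ψ.hom r))) := by
    have e1 : (Scheme.ΓSpecIso B).inv.hom (ψ.hom r) = (Spec.map ψ).appTop.hom ((Scheme.ΓSpecIso R).inv.hom r) :=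
      congrArg (fun f => f.hom r) (Scheme.ΓSpecIso_inv_naturality ψ)
    have e2 : (Scheme.ΓSpecIso K).inv.hom (ι.hom r) = (Spec.map ι).appTop.hom ((Scheme.ΓSpecIso R).inv.hom r) :=
      congrArg (fun f => f.hom r) (Scheme.ΓSpecIso_inv_naturality ι)
    have e3 : π.appTop.hom ((Spec.map ψ).appTop.hom ((Scheme.ΓSpecIso R).inv.hom r)) =
        σ.appTop.hom ((Spec.map ι).appTop.hom ((Scheme.ΓSpecIso R).inv.hom r)) := by
      have := congrArg (fun f => f.appTop.hom ((Scheme.ΓSpecIso R).inv.hom r)) hw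
      rw [Scheme.Hom.comp_appTop, Scheme.Hom.comp_appTop] at this
      exact this
    rw [e1, e3, ← e2]
    exact ((hι r hr).map _).map _
  have h2 : π.appTop.hom ((Scheme.ΓSpecIso B).inv.hom b) = 0 := by
    refine (hu.mul_right_eq_zero).1 ?_
    rw [← map_mul, ← map_mul, hb, map_zero, map_zero]
  have h3 : (Scheme.ΓSpecIso B).inv.hom b = 0 := hinj (h2.trans (map_zero _).symm)
  exact (ConcreteCategory.bijective_of_isIso (Scheme.ΓSpecIso B).inv).1 (h3.trans (map_zero _).symm)

/-- The spectrum of the fraction field of a Dedekind domain. -/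
theorem isDed_spec (R K : Type u) [CommRing R] [IsDedekindDomain R] [Field K] [Algebra R K] [IsFractionRing R K] :
    IsDed (Over.mk (Spec.map (CommRingCat.ofHom (algebraMap R K))) : Over (Spec (CommRingCat.of R))) := by
  let g : Spec (CommRingCat.of K) ⟶ Spec (CommRingCat.of R) := Spec.map (CommRingCat.ofHom (algebraMap R K))
  refine ⟨(inferInstance : QuasiCompact g), ?_, fun T hT => ?_⟩
  · change g.ker = ⊥
    refine Scheme.IdealSheafData.ext_of_isAffine ?_
    have h1 : g.ker.ideal ⟨⊤, isAffineOpen_top _⟩ = RingHom.ker g.appTop.hom :=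
      Scheme.Hom.ker_apply g ⟨⊤, isAffineOpen_top _⟩
    rw [h1, Scheme.IdealSheafData.ideal_bot]
    change _ = ⊥
    rw [← RingHom.injective_iff_ker_eq_bot]
    have h2 := Scheme.ΓSpecIso_inv_naturality (CommRingCat.ofHom (algebraMap R K))
    intro x y hxy
    have h3 : ∀ z : Γ(Spec (CommRingCat.of R), ⊤), (Scheme.ΓSpecIso (CommRingCat.of K)).hom.hom (g.appTop.hom z) =
        algebraMap R K ((Scheme.ΓSpecIso (CommRingCat.of R)).hom.hom z) := fun z =>
      congrArg (fun f => f.hom z) (Scheme.ΓSpecIso_naturality (CommRingCat.ofHom (algebraMap R K)))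
    have h4 : (Scheme.ΓSpecIso (CommRingCat.of R)).hom.hom x = (Scheme.ΓSpecIso (CommRingCat.of R)).hom.hom y :=
      IsFractionRing.injective R K (by rw [← h3, ← h3, hxy])
    exact (ConcreteCategory.bijective_of_isIso (Scheme.ΓSpecIso (CommRingCat.of R)).hom).1 h4
  · -- flatness is checked on affine opens
    rw [IsZariskiLocalAtSource.iff_of_openCover (P := @Flat) T.left.affineCover]
    intro i
    obtain ⟨ψ, hψ⟩ := Spec.map_surjective (T.left.affineCover.f i ≫ T.hom)
    suffices key : Flat (Spec.map ψ) by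
      rw [hψ] at key
      exact key
    rw [Flat.SpecMap_iff]
    refine flat_of_Kr_eq_bot (CommRingCat.ofHom (algebraMap R K)) (fun r hr => isUnit_iff_ne_zero.2 fun h0 =>
      hr (IsFractionRing.injective R K (h0.trans (map_zero _).symm))) ψ ?_
    let φ : Over.mk (Spec.map ψ) ⟶ T := Over.homMk (T.left.affineCover.f i) hψ.symm
    have h1 : QuasiCompact (Over.mk g : Over (Spec (CommRingCat.of R))).hom := (inferInstance : QuasiCompact g)
    have h2 := Kr_comap_flat (Over.mk g) φ (inferInstanceAs (Flat (T.left.affineCover.f i)))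
    rw [hT, Scheme.IdealSheafData.comap_bot] at h2
    exact h2.symm

variable {E : Over S} {Y Z F : Sp S}

/-- The family of ideals of the flat closure. -/
theorem exists_fam [QuasiCompact E.hom] (hY : IsAlgSpace Y) : ∃ A : Fam Y, ∀ (T : Over S) (g : (yon S).obj T ⟶ Y),
    RepWith @Flat g → A.I g = Kr E T := by
  obtain ⟨U, p, hp, hps⟩ := hY.atlas
  have hc := ChartFam.single hp hps
  obtain ⟨A, hA⟩ := hc.exists_fam (fun _ => Kr E U) (by
    intro _ _ R a b hab
    obtain ⟨P, c, c', sq, hc'⟩ := K597.exists_sq2 hp p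
    have hce : Etale c.left := K597.repWith_prop' hp sq
    have hce' : Etale c'.left := hc'
    obtain ⟨l, hl⟩ := (yon S).map_surjective (sq.lift _ _ hab)
    have h1 : l ≫ c = a := (yon S).map_injective (by rw [Functor.map_comp, hl, sq.lift_fst])
    have h2 : l ≫ c' = b := (yon S).map_injective (by rw [Functor.map_comp, hl, sq.lift_snd])
    rw [← h1, ← h2, Over.comp_left, Over.comp_left, Scheme.IdealSheafData.comap_comp,
      Scheme.IdealSheafData.comap_comp, Kr_comap_flat E c inferInstance, Kr_comap_flat E c' inferInstance])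
  refine ⟨A, fun T g hg => ?_⟩
  obtain ⟨P, r, q, sq, hq⟩ := K597.exists_sq2 hp g
  have hqe : Etale q.left := hq
  have hqs : Surjective q.left := K597.repWith_prop hps sq
  have hr : Flat r.left := K597.repWith_prop' hg sq
  have hA' : A.I p = Kr E U := hA PUnit.unit
  refine K647.QcIdl.ideal_ext₂ q.left q.left (fun y => Or.inl (q.left.surjective y)) ?_ ?_ <;>
  · rw [← A.comap, ← sq.w, A.comap, hA', Kr_comap_flat E r hr, Kr_comap_flat E q inferInstance]

/-- The family of ideals of the flat closure vanishes on flat schemes over the base. -/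
theorem eq_bot_of_flat (hE : IsDed E) (hY : IsAlgSpace Y) {A : Fam Y}
    (hA : ∀ (T : Over S) (g : (yon S).obj T ⟶ Y), RepWith @Flat g → A.I g = Kr E T) (T : Over S) (hT : Flat T.hom)
    (g : (yon S).obj T ⟶ Y) : A.I g = ⊥ := by
  have := hE.qc
  obtain ⟨U, p, hp, hps⟩ := hY.atlas
  obtain ⟨P, r, q, sq, hq⟩ := K597.exists_sq2 hp g
  have hqe : Etale q.left := hq
  have hqs : Surjective q.left := K597.repWith_prop hps sq
  have hP : Flat P.hom := by
    rw [← Over.w q]
    infer_instance
  have h1 : (A.I g).comap q.left = ⊥ := by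
    rw [← A.comap, ← sq.w, A.comap, hA U p (repWith_flat_of_etale hp), eq_bot_iff,
      ← Kr_eq_bot_of_flat E hE.ker P hP]
    exact Kr_comap_le E r
  refine K647.QcIdl.ideal_ext₂ q.left q.left (fun y => Or.inl (q.left.surjective y)) ?_ ?_ <;>
  · rw [h1, Scheme.IdealSheafData.comap_bot]

/-- `F` is flat over the base scheme `S`. -/
def FlatSp (F : Sp S) : Prop := ∀ ⦃T : Over S⦄ (a : (yon S).obj T ⟶ F), RepWith @Etale a → Flat T.hom

theorem flatSp_iff (t : F ⟶ (yon S).obj (Over.mk (𝟙 S))) : FlatSp F ↔ LocP @Flat t := by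
  constructor
  · intro h U V a b k ha hb _
    have h1 : Flat U.hom := h a ha
    obtain ⟨b', rfl⟩ := (yon S).map_surjective b
    have hb' : Etale b'.left := (repWith_yon_map_iff _ _).1 hb
    have h2 : V.hom = b'.left := by
      have := Over.w b'
      rw [← this]
      exact (Category.comp_id _).symm
    have h3 : Flat (k.left ≫ V.hom) := by rw [Over.w]; exact h1
    rw [h2] at h3
    exact K597.etLoc_flat.cancel _ _ hb' h3
  · intro h T a ha
    have h1 := h a (𝟙 _) (Over.homMk T.hom (Category.comp_id _)) ha (repWith_id _ _) ((K596.QC2.isTerminalYon S).hom_ext _ _)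
    exact h1

theorem FlatSp.of_chart {U : Over S} {p : (yon S).obj U ⟶ F} (hp : RepWith @Etale p) (hps : RepWith @Surjective p)
    (hU : Flat U.hom) : FlatSp F :=
  (flatSp_iff ((K596.QC2.isTerminalYon S).from F)).2 (K597.locP_of_chart K597.etLoc_flat _ p (𝟙 _)
    (Over.homMk U.hom (Category.comp_id _)) hp hps (repWith_id _ _) ((K596.QC2.isTerminalYon S).hom_ext _ _) hU)

theorem flatSp_yon {T : Over S} (hT : Flat T.hom) : FlatSp ((yon S).obj T) :=
  FlatSp.of_chart (p := 𝟙 _) (repWith_id _ _) (repWith_id _ _) hT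

/-- Fibre products over the base of flat spaces are flat. -/
theorem FlatSp.of_isPullback {G P : Sp S} (hF : IsAlgSpace F) (hG : IsAlgSpace G) (hF' : FlatSp F) (hG' : FlatSp G)
    {f : F ⟶ (yon S).obj (Over.mk (𝟙 S))} {g : G ⟶ (yon S).obj (Over.mk (𝟙 S))} {a : P ⟶ F} {b : P ⟶ G}
    (sq : IsPullback a b f g) : FlatSp P := by
  have hP : IsAlgSpace P := K613.Chart.isAlgSpace_of_isPullback (IsAlgSpace.yon_obj _).diag hF hG sq
  have hS : IsAlgSpace ((yon S).obj (Over.mk (𝟙 S))) := IsAlgSpace.yon_obj _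
  have h1 : LocP @Flat b := K597.locP_bc K597.etLoc_flat sq hF.hasAtlas hS.hasAtlas hG.hasAtlas
    ((flatSp_iff f).1 hF')
  exact (flatSp_iff (b ≫ g)).2 (K597.locP_comp K597.etLoc_flat hP.hasAtlas hG.hasAtlas hS.hasAtlas h1
    ((flatSp_iff g).1 hG'))

theorem Kr_eq_bot_of_hom {T : Over S} (t : T ⟶ E) : Kr E T = ⊥ := by
  let l : T.left ⟶ pullback T.hom E.hom := pullback.lift (𝟙 _) t.left (by rw [Category.id_comp, Over.w])
  have hl : l ≫ pullback.fst T.hom E.hom = 𝟙 _ := pullback.lift_fst _ _ _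
  rw [← le_bot_iff, ← K598.ClFam.ker_id (Y := T.left), ← hl]
  exact Scheme.Hom.le_ker_comp _ _

/-- Schemes over the generic point are flat. -/
theorem IsDed.flat_of_hom (hE : IsDed E) {T : Over S} (t : T ⟶ E) : Flat T.hom := hE.flat T (Kr_eq_bot_of_hom t)

/-- **The flat closure.** -/
theorem exists_flatClos (hE : IsDed E) (hY : IsAlgSpace Y) : ∃ (Z : Sp S) (c : Z ⟶ Y), IsAlgSpace Z ∧
    RepWith @IsClosedImmersion c ∧ Mono c ∧ FlatSp Z ∧
    (∀ (F : Sp S), IsAlgSpace F → FlatSp F → ∀ f : F ⟶ Y, ∃ k : F ⟶ Z, k ≫ c = f) ∧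
    (∀ (F : Sp S) (_ : F ⟶ (yon S).obj E) (f : F ⟶ Y), ∃ k : F ⟶ Z, k ≫ c = f) ∧
    (∀ (T : Over S) (g : (yon S).obj T ⟶ Y), RepWith @Flat g →
      ∃ fst : (yon S).obj (cl E T) ⟶ Z,
        IsPullback fst ((yon S).map (Over.homMk (Kr E T).subschemeι rfl : cl E T ⟶ T)) c g) := by
  have := hE.qc
  obtain ⟨A, hA⟩ := exists_fam (E := E) hY
  have hbc : ∀ (T : Over S) (g : (yon S).obj T ⟶ Y), RepWith @Flat g →
      ∃ fst : (yon S).obj (cl E T) ⟶ A.sheaf,
        IsPullback fst ((yon S).map (Over.homMk (Kr E T).subschemeι rfl : cl E T ⟶ T)) A.ι g := by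
    intro T g hg
    have h1 := A.exists_isPullback g
    rw [hA T g hg] at h1
    exact h1
  refine ⟨A.sheaf, A.ι, A.isAlgSpace_sheaf hY, A.repWith_ι, inferInstance, ?_, ?_, ?_, hbc⟩
  · obtain ⟨U, p, hp, hps⟩ := hY.atlas
    obtain ⟨fst, sq⟩ := hbc U p (repWith_flat_of_etale hp)
    exact FlatSp.of_chart (MorphismProperty.of_isPullback sq.flip hp) (MorphismProperty.of_isPullback sq.flip hps)
      (hE.flat _ (Kr_cl E U))
  · intro F hF hFf f
    obtain ⟨U, p, hp, hps⟩ := hF.atlas
    exact (A.factors_iff' f).2 ((ChartFam.single hp hps).vanish A f fun _ =>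
      eq_bot_of_flat hE hY hA U (hFf p hp) _)
  · intro F t f
    refine (A.factors_iff' f).2 fun T g => ?_
    obtain ⟨t', _⟩ := (yon S).map_surjective (g ≫ t)
    exact eq_bot_of_flat hE hY hA T (hE.flat_of_hom t') _

theorem isSeparatedSp_of_mono {X Z : Sp S} (hsep : IsSeparatedSp X) (i : Z ⟶ X) [Mono i] : IsSeparatedSp Z := by
  have sq : IsPullback i (Limits.diag Z) (Limits.diag X) (prod.map i i) := by
    refine K608.Gpd.isPullback_of_exists_unique ?_ ?_ ?_
    · apply Limits.prod.hom_ext <;> simp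
    · intro T a b h
      have h1 : a = (b ≫ prod.fst) ≫ i := by
        have := congrArg (· ≫ prod.fst) h
        simpa [prod.lift_fst] using this
      have h2 : a = (b ≫ prod.snd) ≫ i := by
        have := congrArg (· ≫ prod.snd) h
        simpa [prod.lift_snd] using this
      have h3 : b ≫ prod.fst = b ≫ prod.snd := by rw [← cancel_mono i, ← h1, ← h2]
      refine ⟨b ≫ prod.fst, h1.symm, ?_⟩
      apply Limits.prod.hom_ext
      · rw [Category.assoc, prod.lift_fst, Category.comp_id]
      · rw [Category.assoc, prod.lift_snd, Category.comp_id, h3]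
    · intro T l l' h1 _
      exact (cancel_mono i).1 h1
  exact MorphismProperty.of_isPullback (P := RepWith @IsClosedImmersion) sq hsep

/-- A quasi-compact chart of `Y` gives one of the flat closure. -/
theorem exists_chart [IsLocallyNoetherian S] {c : Z ⟶ Y}
    (hbc : ∀ (T : Over S) (g : (yon S).obj T ⟶ Y), RepWith @Flat g → ∃ fst : (yon S).obj (cl E T) ⟶ Z,
        IsPullback fst ((yon S).map (Over.homMk (Kr E T).subschemeι rfl : cl E T ⟶ T)) c g)
    {U : Over S} {p : (yon S).obj U ⟶ Y} (hp : RepWith @Etale p) (hps : RepWith @Surjective p)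
    (hpq : RepWith @QuasiCompact p) (hU : LocallyOfFiniteType U.hom) : ∃ (V : Over S) (q : (yon S).obj V ⟶ Z),
      RepWith @Etale q ∧ RepWith @Surjective q ∧ RepWith @QuasiCompact q ∧ LocallyOfFinitePresentation V.hom := by
  obtain ⟨fst, sq⟩ := hbc U p (repWith_flat_of_etale hp)
  refine ⟨cl E U, fst, MorphismProperty.of_isPullback sq.flip hp, MorphismProperty.of_isPullback sq.flip hps,
    MorphismProperty.of_isPullback sq.flip hpq, ?_⟩
  have h1 : LocallyOfFiniteType (cl E U).hom :=
    (inferInstance : LocallyOfFiniteType ((Kr E U).subschemeι ≫ U.hom))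
  exact (LocallyOfFinitePresentation.iff_locallyOfFiniteType).2 h1

/-! ### Group spaces -/

section sub

open MonoidalCategory CartesianMonoidalCategory MonObj

universe v w
variable {C : Type v} [Category.{w} C] [CartesianMonoidalCategory C] {G H : C} [GrpObj G]

/-- The group structure on a subobject stable under the operations. -/
abbrev subGrp (i : H ⟶ G) [Mono i] (m : H ⊗ H ⟶ H) (hm : m ≫ i = (i ⊗ₘ i) ≫ μ[G]) (e : 𝟙_ C ⟶ H)
    (he : e ≫ i = η[G]) (v : H ⟶ H) (hv : v ≫ i = i ≫ ι[G]) : GrpObj H where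
  one := e
  mul := m
  inv := v
  one_mul := by
    rw [← cancel_mono i, Category.assoc, hm, ← tensorHom_id, tensorHom_comp_tensorHom_assoc, he,
      Category.id_comp, tensorHom_def', Category.assoc, MonObj.one_mul, leftUnitor_naturality]
  mul_one := by
    rw [← cancel_mono i, Category.assoc, hm, ← id_tensorHom, tensorHom_comp_tensorHom_assoc, he,
      Category.id_comp, MonoidalCategory.tensorHom_def, Category.assoc, MonObj.mul_one, rightUnitor_naturality]
  mul_assoc := by
    rw [← cancel_mono i, Category.assoc, hm, ← tensorHom_id, tensorHom_comp_tensorHom_assoc, hm, Category.assoc,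
      Category.assoc, hm, ← id_tensorHom, tensorHom_comp_tensorHom_assoc, hm, Category.id_comp]
    have h1 : ((i ⊗ₘ i) ≫ μ[G]) ⊗ₘ i = ((i ⊗ₘ i) ⊗ₘ i) ≫ (μ[G] ▷ G) := by
      rw [← tensorHom_id, tensorHom_comp_tensorHom, Category.comp_id]
    have h2 : i ⊗ₘ ((i ⊗ₘ i) ≫ μ[G]) = (i ⊗ₘ (i ⊗ₘ i)) ≫ (G ◁ μ[G]) := by
      rw [← id_tensorHom, tensorHom_comp_tensorHom, Category.comp_id]
    rw [h1, h2, Category.assoc, MonObj.mul_assoc, associator_naturality_assoc, Category.assoc]
  left_inv := by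
    rw [← cancel_mono i, Category.assoc, Category.assoc, hm, he, lift_map_assoc, hv, Category.id_comp]
    have h1 : lift (i ≫ ι[G]) i = i ≫ lift ι[G] (𝟙 G) := by rw [comp_lift, Category.comp_id]
    rw [h1, Category.assoc, GrpObj.left_inv, ← Category.assoc, toUnit_unique (i ≫ toUnit G) (toUnit H)]
  right_inv := by
    rw [← cancel_mono i, Category.assoc, Category.assoc, hm, he, lift_map_assoc, hv, Category.id_comp]
    have h1 : lift i (i ≫ ι[G]) = i ≫ lift (𝟙 G) ι[G] := by rw [comp_lift, Category.comp_id]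
    rw [h1, Category.assoc, GrpObj.right_inv, ← Category.assoc, toUnit_unique (i ≫ toUnit G) (toUnit H)]

end sub

section grp

open MonoidalCategory CartesianMonoidalCategory MonObj

/-- **The flat closure of a group algebraic space** over a Dedekind scheme. -/
theorem exists_grp (hE : IsDed E) (G : Over ((yon S).obj (Over.mk (𝟙 S)))) [GrpObj G] (hG : IsAlgSpace G.left) :
    ∃ (H : Over ((yon S).obj (Over.mk (𝟙 S)))) (_ : GrpObj H) (i : H ⟶ G) (_ : IsMonHom i), Mono i ∧ Mono i.left ∧
      IsAlgSpace H.left ∧ RepWith @IsClosedImmersion i.left ∧ FlatSp H.left ∧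
      (IsSeparatedSp G.left → IsSeparatedSp H.left) ∧
      (∀ (F : Sp S), IsAlgSpace F → FlatSp F → ∀ f : F ⟶ G.left, ∃ k : F ⟶ H.left, k ≫ i.left = f) ∧
      (∀ (F : Sp S) (_ : F ⟶ (yon S).obj E) (f : F ⟶ G.left), ∃ k : F ⟶ H.left, k ≫ i.left = f) ∧
      (∀ (T : Over S) (g : (yon S).obj T ⟶ G.left), RepWith @Flat g →
        ∃ fst : (yon S).obj (cl E T) ⟶ H.left,
          IsPullback fst ((yon S).map (Over.homMk (Kr E T).subschemeι rfl : cl E T ⟶ T)) i.left g) ∧
      (∀ (_ : IsLocallyNoetherian S) (U : Over S) (p : (yon S).obj U ⟶ G.left), RepWith @Etale p →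
        RepWith @Surjective p → RepWith @QuasiCompact p → LocallyOfFiniteType U.hom →
        ∃ (V : Over S) (q : (yon S).obj V ⟶ H.left), RepWith @Etale q ∧ RepWith @Surjective q ∧
          RepWith @QuasiCompact q ∧ LocallyOfFinitePresentation V.hom) := by
  obtain ⟨Z, c, hZ, hc, hcm, hZf, huniv, hgen, hbc⟩ := exists_flatClos hE hG
  let H : Over ((yon S).obj (Over.mk (𝟙 S))) := Over.mk (c ≫ G.hom)
  let i : H ⟶ G := Over.homMk c rfl
  have hi : Mono i.left := hcm
  have hi' : Mono i := Over.mono_of_mono_left i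
  have key : ∀ (F : Over ((yon S).obj (Over.mk (𝟙 S)))), IsAlgSpace F.left → FlatSp F.left → ∀ f : F ⟶ G,
      ∃ k : F ⟶ H, k ≫ i = f := by
    intro F hF hFf f
    obtain ⟨k, hk⟩ := huniv F.left hF hFf f.left
    refine ⟨Over.homMk k ?_, ?_⟩
    · change k ≫ c ≫ G.hom = F.hom
      rw [← Category.assoc, hk, Over.w]
    · ext1
      exact hk
  have hHH : IsAlgSpace (H ⊗ H).left :=
    K613.Chart.isAlgSpace_of_isPullback (IsAlgSpace.yon_obj _).diag hZ hZ (IsPullback.of_hasPullback H.hom H.hom)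
  have hHHf : FlatSp (H ⊗ H).left :=
    FlatSp.of_isPullback hZ hZ hZf hZf (IsPullback.of_hasPullback H.hom H.hom)
  obtain ⟨m, hm⟩ := key (H ⊗ H) hHH hHHf ((i ⊗ₘ i) ≫ μ[G])
  obtain ⟨e, he⟩ := key (𝟙_ _) (IsAlgSpace.yon_obj _) (flatSp_yon (T := Over.mk (𝟙 S)) (inferInstanceAs (Flat (𝟙 S))))
    η[G]
  obtain ⟨v, hv⟩ := key H hZ hZf (i ≫ ι[G])
  let _ : GrpObj H := subGrp i m hm e he v hv
  refine ⟨H, inferInstance, i, ⟨he, hm⟩, hi', hi, hZ, hc, hZf, fun h => isSeparatedSp_of_mono h c, huniv, hgen, hbc, ?_⟩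
  intro _ U p hp hps hpq hU
  exact exists_chart hbc hp hps hpq hU

end grp

end K632.FlatClos
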