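import Groth.Agent.AlgSp.K632.FinThickAffine
import Groth.Agent.AlgSp.K631.ThickOpen
import Groth.Agent.AlgSp.K610.SchLocus

/-!
# Finite order thickenings of schemes are schemes
-/

set_option autoImplicit false
universe u
open CategoryTheory CategoryTheory.Limits AlgebraicGeometry Opposite

namespace K632.FinThickSch

open AlgSp K632.Basic K632.Chart

variable {S : Scheme.{u}}

/-- Small affine neighbourhoods of a point of a scheme over `S`. -/
theorem exists_small {P : Over S} (x : P.left) : ∃ (V : Over S) (v : V ⟶ P) (S₀ : S.Opens), IsAffine V.left ∧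
    IsOpenImmersion v.left ∧ x ∈ Set.range v.left ∧ IsAffineOpen S₀ ∧ ∀ y, V.hom y ∈ S₀ := by
  obtain ⟨W, hW, hxW⟩ : ∃ W : S.Opens, IsAffineOpen W ∧ P.hom x ∈ W := by
    obtain ⟨_, ⟨W, hW, rfl⟩, hxW, -⟩ :=
      S.isBasis_affineOpens.exists_subset_of_mem_open (Set.mem_univ (P.hom x)) isOpen_univ
    exact ⟨W, hW, hxW⟩
  obtain ⟨O, hO, hxO, e⟩ : ∃ O : P.left.Opens, IsAffineOpen O ∧ x ∈ O ∧ O ≤ P.hom ⁻¹ᵁ W := by
    obtain ⟨_, ⟨O, hO, rfl⟩, hxO, e : O ≤ P.hom ⁻¹ᵁ W⟩ :=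
      P.left.isBasis_affineOpens.exists_subset_of_mem_open (a := x) hxW (P.hom ⁻¹ᵁ W).isOpen
    exact ⟨O, hO, hxO, e⟩
  refine ⟨Over.mk (O.ι ≫ P.hom), Over.homMk O.ι rfl, W, hO, (inferInstance : IsOpenImmersion O.ι), ?_, hW, ?_⟩
  · change x ∈ Set.range O.ι
    rw [Scheme.Opens.range_ι]
    exact hxO
  · intro y
    change (O.ι ≫ P.hom) y ∈ W
    rw [Scheme.Hom.comp_apply]
    exact e y.2

/-- Representability of a thickening of a scheme can be checked locally. -/
theorem isRepresentable_of_local {X' : Space S} {P : Over S} {i : (yon S).obj P ⟶ X'.obj} (hi : IsThickMor i)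
    (H : ∀ (V : Over S) (v : V ⟶ P) (Z : Space S) (k : (yon S).obj V ⟶ Z.obj) (z : Z ⟶ X') (S₀ : S.Opens),
      IsAffine V.left → IsOpenImmersion v.left → IsAffineOpen S₀ → (∀ y, V.hom y ∈ S₀) →
      RepWith @IsOpenImmersion z.hom → IsPullback ((yon S).map v) k i z.hom → Z.obj.obj.IsRepresentable) :
    X'.obj.obj.IsRepresentable := by
  rw [K610.SchLocus.isRepresentable_iff_forall]
  intro x'
  obtain ⟨x, rfl⟩ := (K631.Thick.isHomeomorph_map_of_isThickMor hi).surjective x'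
  obtain ⟨p, rfl⟩ := K631.Base.exists_ofScheme x
  obtain ⟨V, v, S₀, h1, h2, ⟨y, rfl⟩, h4, h5⟩ := exists_small p
  have hv : RepWith @IsOpenImmersion ((yon S).map v) := (repWith_yon_map_iff _ _).2 h2
  have ho : IsOpen (Points.map i '' Set.range (Points.map ((yon S).map v))) :=
    (K631.Thick.isHomeomorph_map_of_isThickMor hi).isOpenMap _ (K631.ThickOpen.isOpen_range hv)
  obtain ⟨Z, z, hz, hr⟩ := K610.Sub.exists_open_subspace X' _ ho
  obtain ⟨k, hk⟩ := K631.ThickOpen.isPullback_of_range hi hv hz hr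
  refine ⟨Set.range (Points.map z.hom), (K610.SchLocus.isSch_iff hz).2 (H V v Z k z S₀ h1 h2 h4 h5 hz hk), ?_⟩
  rw [hr]
  refine ⟨_, ⟨Points.ofScheme V y, rfl⟩, ?_⟩
  have e1 := K631.Base.ofPt_map_comp v (𝟙 ((yon S).obj P)) y
  rw [Category.comp_id, Points.ofPt_eq_map_ofScheme, Points.ofPt_eq_map_ofScheme, Points.map_id] at e1
  rw [e1]

/-- Base change of finite order thickenings along open immersions (étale morphisms). -/
theorem isFinThickMor_of_isPullback {X X' Z Z' : Sp S} {i : X ⟶ X'} {k : Z ⟶ Z'} {v : Z ⟶ X} {z : Z' ⟶ X'}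
    (hi : IsFinThickMor i) (sq : IsPullback v k i z) (hz : RepWith @Etale z) : IsFinThickMor k := by
  obtain ⟨n, h1, h2⟩ := hi
  refine ⟨n, IsThickMor.of_isPullback sq.flip.flip h1, ?_⟩
  intro V W b fst snd hV hb sq'
  exact h2 (b ≫ z) (fst ≫ v) snd hV (repWith_comp hb hz) (sq'.paste_horiz sq)

/-- **A finite order thickening of a scheme is a scheme.** -/
theorem isRepresentable {X' : Space S} {P : Over S} {i : (yon S).obj P ⟶ X'.obj} (hi : IsFinThickMor i) :
    X'.obj.obj.IsRepresentable := by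
  obtain ⟨n, hn⟩ := id hi
  refine isRepresentable_of_local hn.1 fun V v Z k z S₀ h1 _ h3 h4 hz sq => ?_
  obtain ⟨Q, -, ⟨e⟩⟩ := K632.FinThickAffine.exists_affine_of_base Z.property h1 S₀ h3 h4
    (isFinThickMor_of_isPullback hi sq (K610.OpenImm.repWith_etale_of_open hz))
  exact K610.ZarGlue.isRepresentable_iff.2 ⟨Q, ⟨e⟩⟩

/-- A finite order thickening of an affine scheme is an affine scheme. -/
theorem exists_affine {X' : Space S} {P : Over S} (hP : IsAffine P.left) {i : (yon S).obj P ⟶ X'.obj}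
    (hi : IsFinThickMor i) : ∃ Q : Over S, IsAffine Q.left ∧ Nonempty ((yon S).obj Q ≅ X'.obj) := by
  obtain ⟨Q, ⟨e⟩⟩ := K610.ZarGlue.isRepresentable_iff.1 (isRepresentable hi)
  refine ⟨Q, ?_, ⟨e⟩⟩
  obtain ⟨j, hj⟩ := (yon S).map_surjective (i ≫ e.inv)
  obtain ⟨n, hn, -⟩ := hi
  have h1 : IsThickMor ((yon S).map j) := by
    rw [hj]
    exact IsThickMor.comp hn (IsThickMor.of_isPullback (i := e.inv) (i' := 𝟙 _) (a := e.inv) (b := 𝟙 _)
      (IsPullback.of_horiz_isIso ⟨by simp⟩) (K631.ThickMor.isThickMor_id _))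
  exact K632.FinThickAffine.isAffine_of_thick ((repWith_yon_map_iff thick j).1 h1)

end K632.FinThickSch
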