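import Mathlib

/-!
# Localization of a ring at finitely many primes
-/

set_option autoImplicit false
universe u
open CategoryTheory CategoryTheory.Limits AlgebraicGeometry Topology TopologicalSpace Opposite

namespace K632.SemiLocRing

section ring

variable {A : Type u} [CommRing A]

/-- The complement of a union of primes. -/
def away (s : Set (PrimeSpectrum A)) : Submonoid A where
  carrier := {a | ∀ p ∈ s, a ∉ p.asIdeal}
  one_mem' := fun p _ h => p.2.ne_top ((Ideal.eq_top_iff_one _).2 h)
  mul_mem' := fun ha hb p hp h => (p.2.mem_or_mem h).elim (ha p hp) (hb p hp)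

theorem map_ne_top {s : Set (PrimeSpectrum A)} {p : PrimeSpectrum A} (hp : p ∈ s) :
    p.asIdeal.map (algebraMap A (Localization (away s))) ≠ ⊤ :=
  (IsLocalization.isPrime_of_isPrime_disjoint (away s) (Localization (away s)) p.asIdeal p.2
    (Set.disjoint_left.2 fun _ ha hap => ha p hp hap)).ne_top

theorem mem_range {s : Set (PrimeSpectrum A)} {p : PrimeSpectrum A} (hp : p ∈ s) :
    p ∈ Set.range (PrimeSpectrum.comap (algebraMap A (Localization (away s)))) := by
  rw [PrimeSpectrum.localization_comap_range (Localization (away s)) (away s)]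
  exact Set.disjoint_left.2 fun _ ha hap => ha p hp hap

theorem exists_eq_map {s : Set (PrimeSpectrum A)} (hs : s.Finite) (m : Ideal (Localization (away s)))
    [hm : m.IsMaximal] : ∃ p ∈ s, m = p.asIdeal.map (algebraMap A (Localization (away s))) := by
  have h1 : ∃ I ∈ PrimeSpectrum.asIdeal '' s, m.under A ≤ id I := by
    rw [← Ideal.subset_union_prime_finite (hs.image _) (f := id) ⊥ ⊥ (by
      rintro _ ⟨p, _, rfl⟩ _ _
      exact p.2)]
    intro a ha
    by_contra h
    have h2 : a ∈ away s := fun p hp hap => h (Set.mem_biUnion (Set.mem_image_of_mem _ hp) hap)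
    exact hm.ne_top (Ideal.eq_top_of_isUnit_mem _ ha (IsLocalization.map_units _ (⟨a, h2⟩ : away s)))
  obtain ⟨_, ⟨p, hp, rfl⟩, hle⟩ := h1
  refine ⟨p, hp, hm.eq_of_le (map_ne_top hp) ?_⟩
  rw [← IsLocalization.map_under (away s) (Localization (away s)) m]
  exact Ideal.map_mono hle

theorem finite_maximalSpectrum {s : Set (PrimeSpectrum A)} (hs : s.Finite) :
    Finite (MaximalSpectrum (Localization (away s))) := by
  have h1 : {m : Ideal (Localization (away s)) | m.IsMaximal}.Finite :=
    (hs.image fun p => p.asIdeal.map (algebraMap A (Localization (away s)))).subset fun m hm => by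
      have : m.IsMaximal := hm
      obtain ⟨p, hp, h⟩ := exists_eq_map hs m
      exact ⟨p, hp, h.symm⟩
  have := h1.to_subtype
  exact Finite.of_injective (fun m : MaximalSpectrum (Localization (away s)) =>
    (⟨m.asIdeal, m.isMaximal⟩ : {m : Ideal (Localization (away s)) | m.IsMaximal})) fun m m' h =>
      MaximalSpectrum.ext (congrArg Subtype.val h)

theorem krullDimLE [Ring.KrullDimLE 1 A] (M : Submonoid A) : Ring.KrullDimLE 1 (Localization M) := by
  rw [Ring.krullDimLE_iff, ← PrimeSpectrum.topologicalKrullDim_eq_ringKrullDim]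
  refine (PrimeSpectrum.localization_comap_isInducing (Localization M) M).topologicalKrullDim_le.trans ?_
  rw [PrimeSpectrum.topologicalKrullDim_eq_ringKrullDim, ← Ring.krullDimLE_iff]
  infer_instance

end ring

theorem krullDimLE_of_isAffineOpen {S : Scheme.{u}} (hS : topologicalKrullDim ↥S ≤ 1) {V : S.Opens}
    (hV : IsAffineOpen V) : Ring.KrullDimLE 1 Γ(S, V) := by
  rw [Ring.krullDimLE_iff, ← PrimeSpectrum.topologicalKrullDim_eq_ringKrullDim]
  have h1 : IsInducing hV.fromSpec := hV.fromSpec.isOpenEmbedding.isInducing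
  exact h1.topologicalKrullDim_le.trans hS

end K632.SemiLocRing
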