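import Groth.Agent.AlgSp.K632.FqBasic
import Groth.Agent.AlgSp.K634.FpqcAff
import Groth.Agent.AlgSp.K622.AnDefs
import Groth.Agent.AlgSp.K651.DedGlue

/-!
# Affine fpqc covers and cartesian squares of base changes
-/

set_option autoImplicit false
universe u
open CategoryTheory CategoryTheory.Limits AlgebraicGeometry Topology TopologicalSpace Opposite
open AlgSp

namespace K632.Fq

open K650.Sat K632.DimOne K628.Fqc K625.Prod K651.FpqcSh

variable {S : Scheme.{u}}

/-- A faithfully flat quasi-compact scheme over the base gives affine covers of affine schemes. -/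
theorem exists_affine_cover {Z : Over S} (hZ : IsAffine Z.left) (T : Over S) [Flat T.hom] [Surjective T.hom]
    [QuasiCompact T.hom] : ∃ (Z' : Over S) (c : Z' ⟶ Z) (_ : Z' ⟶ T), IsAffine Z'.left ∧ FqC c := by
  have hc : CompactSpace (pullback Z.hom T.hom : Scheme.{u}) :=
    QuasiCompact.compactSpace_of_compactSpace (pullback.fst Z.hom T.hom)
  obtain ⟨Z₀, r, hrs, hrl, hZ₀⟩ :=
    (pullback Z.hom T.hom).exists_hom_isAffine_of_isZariskiLocalAtSource @IsLocalIso
  have hrf : Flat r := IsLocalIso.le_of_isZariskiLocalAtSource @Flat _ _ _ hrl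
  let Z' : Over S := Over.mk (r ≫ pullback.fst Z.hom T.hom ≫ Z.hom)
  let c : Z' ⟶ Z := Over.homMk (r ≫ pullback.fst Z.hom T.hom) (Category.assoc _ _ _)
  let t : Z' ⟶ T := Over.homMk (r ≫ pullback.snd Z.hom T.hom) (by
    change (r ≫ pullback.snd Z.hom T.hom) ≫ T.hom = r ≫ pullback.fst Z.hom T.hom ≫ Z.hom
    rw [Category.assoc, pullback.condition])
  refine ⟨Z', c, t, hZ₀, ?_⟩
  have h1 : Flat (r ≫ pullback.fst Z.hom T.hom) := inferInstance
  have h2 : Surjective (r ≫ pullback.fst Z.hom T.hom) := inferInstance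
  have h3 : IsAffineHom (r ≫ pullback.fst Z.hom T.hom) := inferInstance
  have h4 : QuasiCompact (r ≫ pullback.fst Z.hom T.hom) := inferInstance
  exact ⟨h1, h4, h2⟩

theorem toBase_comp {T Z : Over S} (t : T ⟶ Z) : t ≫ toBase Z = toBase T := K634.FpqcAff.toBase_ext _ _

/-- The cartesian square over an affine cover. -/
theorem exists_square {X : Sp S} {Z : Over S} (hZ : IsAffine Z.left) {T X' : Over S} [Flat T.hom] [Surjective T.hom]
    [QuasiCompact T.hom] {q : X' ⟶ T} {p : (yon S).obj X' ⟶ X}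
    (sq : IsPullback p ((yon S).map q) ((isTerminalBase S).from X) ((yon S).map (toBase T))) :
    ∃ (Z' : Over S) (c : Z' ⟶ Z) (Y : Over S) (y : Y ⟶ Z') (t : Z' ⟶ T) (b : Y ⟶ X')
      (p' : (yon S).obj Y ⟶ X ⨯ (yon S).obj Z), IsAffine Z'.left ∧ FqC c ∧ IsPullback b y q t ∧
      IsPullback p' ((yon S).map y) (prod.snd : X ⨯ (yon S).obj Z ⟶ _) ((yon S).map c) := by
  obtain ⟨Z', c, t, hZ', hc⟩ := exists_affine_cover hZ T
  have h1 : IsPullback ((yon S).map (pullback.fst q t) ≫ p) ((yon S).map (pullback.snd q t))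
      ((isTerminalBase S).from X) ((yon S).map (toBase Z')) := by
    rw [← toBase_comp t, Functor.map_comp]
    exact (((IsPullback.of_hasPullback q t).map (yon S)).flip.paste_vert sq.flip).flip
  exact ⟨Z', c, _, pullback.snd q t, t, pullback.fst q t, _, hZ', hc, IsPullback.of_hasPullback q t,
    K651.DedGlue.isPullback_restrict h1 c⟩

theorem surjective_map_toBase (T : Over S) [Surjective T.hom] : Function.Surjective (Points.map ((yon S).map (toBase T))) := by
  intro y
  obtain ⟨s, rfl⟩ := K647.Pts.exists_ofPt y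
  obtain ⟨t, rfl⟩ := T.hom.surjective s
  exact ⟨Points.ofScheme T t, K609.Points.map_yon_map_ofScheme _ _⟩

theorem hasPts {X : Sp S} {T X' : Over S} [Surjective T.hom] {q : X' ⟶ T} {p : (yon S).obj X' ⟶ X}
    (sq : IsPullback p ((yon S).map q) ((isTerminalBase S).from X) ((yon S).map (toBase T))) : HasPts X :=
  HasPts.of_isPullback sq (hasPts_yon X') (surjective_map_toBase T)

/-- A base change which is of type (FA) as a scheme, with its cartesian square. -/
theorem exists_piece {X : Sp S} (hX : HasPts X) {Z D : Over S} (d : D ⟶ Z) (h : FA (X ⨯ (yon S).obj D)) :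
    ∃ (GD : Over S) (e : (yon S).obj GD ≅ X ⨯ (yon S).obj D) (δ : GD ⟶ D),
      IsPullback (e.hom ≫ K626.W5.bcMap X d) ((yon S).map δ) (prod.snd : X ⨯ (yon S).obj Z ⟶ _) ((yon S).map d) ∧
      K622.AnDefs.FinAff GD.left := by
  obtain ⟨Y, e, hY⟩ := exists_rep_FA (hX.prod D) h
  obtain ⟨δ, hδ⟩ := (yon S).map_surjective (e.hom ≫ prod.snd)
  refine ⟨Y, e, δ, ?_, hY⟩
  refine IsPullback.of_iso (K625.Prod.isPullback_map_right X ((yon S).map d)).flip e.symm (Iso.refl _) (Iso.refl _)
    (Iso.refl _) ?_ ?_ ?_ ?_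
  · rw [Iso.refl_hom, Category.comp_id]
    exact (Iso.inv_hom_id_assoc e _).symm
  · rw [hδ, Iso.refl_hom, Category.comp_id]
    exact (Iso.inv_hom_id_assoc e _).symm
  · simp
  · simp

end K632.Fq
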