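import Groth.Agent.AlgSp.K632.FqTop
import Groth.Agent.AlgSp.K626.GrpDim1

/-!
# Homogeneous fpqc sheaves over a locally Noetherian base of dimension at most one
-/

set_option autoImplicit false
universe u
open CategoryTheory CategoryTheory.Limits AlgebraicGeometry Opposite MonoidalCategory
  CartesianMonoidalCategory MonObj AlgSp

namespace K632.FqHom

open K650.Sat K632.DimOne K628.Fqc K625.Prod K651.FpqcSh

/-- Dedekind bases: fpqc sheaves which are fpqc locally separated schemes locally of finite presentation are separated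
algebraic spaces locally of finite type. -/
def FqR (S : Scheme.{u}) : Prop := ∀ (C : Type u) [CommRing C] [IsDedekindDomain C]
  (g : Spec (CommRingCat.of C) ⟶ S) {X : Sp S}, IsFpqcSh X → ∀ {T X' : Over S} [Flat T.hom] [Surjective T.hom]
    [QuasiCompact T.hom] {q : X' ⟶ T} [IsSeparated q.left] [LocallyOfFinitePresentation q.left]
    {p : (yon S).obj X' ⟶ X},
    IsPullback p ((yon S).map q) ((isTerminalBase S).from X) ((yon S).map (toBase T)) →
      IsAlgSpace ((K595.ChBase.R g).obj X) ∧ IsSeparatedSp ((K595.ChBase.R g).obj X) ∧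
        LocP @LocallyOfFiniteType ((isTerminalBase _).from ((K595.ChBase.R g).obj X))

variable {S : Scheme.{u}}

/-- **Homogeneous fpqc sheaves.** -/
theorem homog (hB : K622.AnDefs.ThmB.{u}) (hI : FqR S) [IsLocallyNoetherian S] (hS : topologicalKrullDim ↥S ≤ 1)
    {G X : Over ((yon S).obj (Over.mk (𝟙 S)))} [GrpObj G] (act : GAction G X) (hG : IsAlgSpace G.left)
    (hGf : LocP @LocallyOfFiniteType G.hom) (hGs : IsSeparatedSp G.left ∨ G.left.obj.IsRepresentable)
    (hX : IsFpqcSh X.left) (he : Epi (lift act.act (snd G X)).left)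
    {T X' : Over S} [Flat T.hom] [Surjective T.hom] [QuasiCompact T.hom] {q : X' ⟶ T} [IsSeparated q.left]
    [LocallyOfFinitePresentation q.left] {p : (yon S).obj X' ⟶ X.left}
    (sq : IsPullback p ((yon S).map q) ((isTerminalBase S).from X.left) ((yon S).map (toBase T))) :
    ∃ (Q : Over S) (_ : (yon S).obj Q ≅ X.left), ∀ (E : Set ↥Q.left), E.Finite →
      (∃ V : S.Opens, IsAffineOpen V ∧ E ⊆ (Q.hom ⁻¹ᵁ V : Set ↥Q.left)) →
        ∃ U : Q.left.Opens, IsAffineOpen U ∧ E ⊆ (U : Set ↥Q.left) := by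
  refine K632.Fq.main_R (K632.Fq.pinchT S) hS hX sq (fun C _ _ _ g => (hI C g hX sq).1) ?_
  intro C _ _ _ g E hE
  obtain ⟨h1, h2, h3⟩ := hI C g hX sq
  have h4 : (isTerminalBase _).from ((K595.ChBase.R g).obj X.left) = ((K624.GrpBC.F g).obj X).hom :=
    (isTerminalBase _).hom_ext _ _
  exact K626.HomMain.main (G := (K624.GrpBC.F g).obj G) (M := (K624.GrpBC.F g).obj X) (act := K624.GrpBC.gact g act) hB
    (K595.ChBase.isAlgSpace_R (g := g) hG) (K624.AnBC.locP_hom g K597.etLoc_lft hG hGf)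
    (hGs.imp (fun h => K624.AnBC.isSeparatedSp_R g h) (fun h => K624.AnBC.isRepresentable_R g h))
    h1 (h4 ▸ h3) h2 (K624.GrpBC.epi_lift_act g act he) E hE

/-- **Group fpqc sheaves.** -/
theorem grp (hB : K622.AnDefs.ThmB.{u}) (hI : FqR S) [IsLocallyNoetherian S] (hS : topologicalKrullDim ↥S ≤ 1)
    (G : Over ((yon S).obj (Over.mk (𝟙 S)))) [GrpObj G] (hG : IsFpqcSh G.left)
    {T X' : Over S} [Flat T.hom] [Surjective T.hom] [QuasiCompact T.hom] {q : X' ⟶ T} [IsSeparated q.left]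
    [LocallyOfFinitePresentation q.left] {p : (yon S).obj X' ⟶ G.left}
    (sq : IsPullback p ((yon S).map q) ((isTerminalBase S).from G.left) ((yon S).map (toBase T))) :
    ∃ (Q : Over S) (_ : (yon S).obj Q ≅ G.left), ∀ (E : Set ↥Q.left), E.Finite →
      (∃ V : S.Opens, IsAffineOpen V ∧ E ⊆ (Q.hom ⁻¹ᵁ V : Set ↥Q.left)) →
        ∃ U : Q.left.Opens, IsAffineOpen U ∧ E ⊆ (U : Set ↥Q.left) := by
  refine K632.Fq.main_R (K632.Fq.pinchT S) hS hG sq (fun C _ _ _ g => (hI C g hG sq).1) ?_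
  intro C _ _ _ g E hE
  obtain ⟨h1, h2, h3⟩ := hI C g hG sq
  have h4 : (isTerminalBase _).from ((K595.ChBase.R g).obj G.left) = ((K624.GrpBC.F g).obj G).hom :=
    (isTerminalBase _).hom_ext _ _
  exact K626.HomMain.main (G := (K624.GrpBC.F g).obj G) (M := (K624.GrpBC.F g).obj G)
    (act := K622.AnDefs.selfAct ((K624.GrpBC.F g).obj G)) hB h1 (h4 ▸ h3) (Or.inl h2) h1 (h4 ▸ h3) h2
    (K626.GrpDim1.epi_self _) E hE

theorem toBase_eq (T : Over S) :
    (Over.homMk T.hom (Category.comp_id T.hom) : T ⟶ Over.mk (𝟙 S)) = toBase T := rfl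

/-- Properties of the scheme representing an fpqc sheaf. -/
theorem props {X : Sp S} {Q : Over S} (e : (yon S).obj Q ≅ X) {T X' : Over S} [Flat T.hom] [Surjective T.hom]
    [QuasiCompact T.hom] {q : X' ⟶ T} {p : (yon S).obj X' ⟶ X}
    (sq : IsPullback p ((yon S).map q) ((isTerminalBase S).from X) ((yon S).map (toBase T)))
    (P : MorphismProperty Scheme.{u}) [P.DescendsAlong (@Surjective ⊓ @Flat ⊓ @QuasiCompact)] (h : P q.left) :
    P Q.hom := by
  obtain ⟨a, ha⟩ := (yon S).map_surjective (p ≫ e.inv)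
  have sq2 : IsPullback ((yon S).map a) ((yon S).map q) ((yon S).map (toBase Q)) ((yon S).map (toBase T)) := by
    refine IsPullback.of_iso sq (Iso.refl _) e.symm (Iso.refl _) (Iso.refl _) ?_ ?_ ?_ ?_
    · rw [ha, Iso.refl_hom, Category.id_comp]; rfl
    · simp
    · exact (isTerminalBase S).hom_ext _ _
    · simp
  have sq3 : IsPullback a q (toBase Q) (toBase T) := IsPullback.of_map (yon S) (K634.FpqcAff.toBase_ext _ _) sq2
  exact MorphismProperty.of_isPullback_of_descendsAlong (P := P) (Q := @Surjective ⊓ @Flat ⊓ @QuasiCompact)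
    (sq3.map (Over.forget S)).flip ⟨⟨‹Surjective T.hom›, ‹Flat T.hom›⟩, ‹QuasiCompact T.hom›⟩ h

/-- S16036, relative to Theorem B and the Dedekind case. -/
theorem s16036 (hB : K622.AnDefs.ThmB.{u}) (hI : FqR S)
    [IsLocallyNoetherian S] (hS : topologicalKrullDim ↥S ≤ 1)
    (G X : Over ((AlgSp.yon S).obj (Over.mk (𝟙 S)))) [GrpObj G]
    (Gs : Over S) [LocallyOfFiniteType Gs.hom] (eG : (AlgSp.yon S).obj Gs ≅ G.left)
    (act : AlgSp.GAction G X)
    (hfpqc : Presheaf.IsSheaf (Scheme.fpqcTopology.over S) X.left.obj)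
    (hhom : Epi (CartesianMonoidalCategory.lift act.act (CartesianMonoidalCategory.snd G X)).left)
    (T : Over S) [Flat T.hom] [Surjective T.hom] [QuasiCompact T.hom]
    (X' : Over S) (q : X' ⟶ T) [IsSeparated q.left] [LocallyOfFinitePresentation q.left]
    (b : (AlgSp.yon S).obj X' ⟶ X.left)
    (hcart : IsPullback b ((AlgSp.yon S).map q) X.hom
      ((AlgSp.yon S).map (Over.homMk T.hom (Category.comp_id T.hom) : T ⟶ Over.mk (𝟙 S)))) :
    ∃ (Xs : Over S) (_ : (AlgSp.yon S).obj Xs ≅ X.left),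
      ∀ (E : Set ↥Xs.left), E.Finite → (∃ V : S.Opens, IsAffineOpen V ∧ E ⊆ (Xs.hom ⁻¹ᵁ V : Set ↥Xs.left)) →
        ∃ U : Xs.left.Opens, IsAffineOpen U ∧ E ⊆ (U : Set ↥Xs.left) := by
  have h1 : (isTerminalBase S).from X.left = X.hom := (isTerminalBase S).hom_ext _ _
  have h2 : IsAlgSpace G.left := (isAlgSpace_iff_of_iso eG).1 (IsAlgSpace.yon_obj Gs)
  have h3 : LocP @LocallyOfFiniteType G.hom :=
    K626.GrpDim1.locP_of_chart' G.hom (MorphismProperty.of_isIso (RepWith @Etale) eG.hom)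
      (MorphismProperty.of_isIso (RepWith @Surjective) eG.hom) ‹LocallyOfFiniteType Gs.hom›
  refine homog hB hI hS act h2 h3 (Or.inr (K610.ZarGlue.isRepresentable_iff.2 ⟨Gs, ⟨eG⟩⟩))
    (isFpqcSh_of_isSheaf hfpqc) hhom (q := q) (p := b) ?_
  rw [h1]
  exact hcart

/-- S16027, relative to Theorem B and the Dedekind case. -/
theorem s16027 (hB : K622.AnDefs.ThmB.{u}) (hI : FqR S)
    [IsLocallyNoetherian S] (hS : topologicalKrullDim ↥S ≤ 1)
    (G : Over ((AlgSp.yon S).obj (Over.mk (𝟙 S)))) [GrpObj G]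
    (hfpqc : Presheaf.IsSheaf (Scheme.fpqcTopology.over S) G.left.obj)
    (T : Over S) [Flat T.hom] [Surjective T.hom] [QuasiCompact T.hom]
    (X' : Over S) (q : X' ⟶ T) [IsSeparated q.left] [LocallyOfFinitePresentation q.left]
    (a : (AlgSp.yon S).obj X' ⟶ G.left)
    (hcart : IsPullback a ((AlgSp.yon S).map q) G.hom
      ((AlgSp.yon S).map (Over.homMk T.hom (Category.comp_id T.hom) : T ⟶ Over.mk (𝟙 S)))) :
    ∃ (X : Over S) (_ : (AlgSp.yon S).obj X ≅ G.left),
      IsSeparated X.hom ∧ LocallyOfFiniteType X.hom ∧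
      ∀ (E : Set ↥X.left), E.Finite → (∃ V : S.Opens, IsAffineOpen V ∧ E ⊆ (X.hom ⁻¹ᵁ V : Set ↥X.left)) →
        ∃ U : X.left.Opens, IsAffineOpen U ∧ E ⊆ (U : Set ↥X.left) := by
  have h1 : (isTerminalBase S).from G.left = G.hom := (isTerminalBase S).hom_ext _ _
  have sq : IsPullback a ((yon S).map q) ((isTerminalBase S).from G.left) ((yon S).map (toBase T)) := by
    rw [h1]
    exact hcart
  obtain ⟨Q, e, hQ⟩ := grp hB hI hS G (isFpqcSh_of_isSheaf hfpqc) sq
  exact ⟨Q, e, props e sq @IsSeparated ‹_›, props e sq @LocallyOfFiniteType inferInstance, hQ⟩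

end K632.FqHom
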