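import Groth.Prelude.Def_AlgSpInf
import Groth.Prelude.Def_AlgSpDec

set_option autoImplicit false
universe u
open CategoryTheory CategoryTheory.Limits AlgebraicGeometry Opposite

namespace K632.Basic

open AlgSp

variable {S : Scheme.{u}}

/-- Two maps out of a sheaf agree as soon as they agree after composing with all maps from
representable sheaves. -/
theorem hom_ext_yon {F G : Sp S} {a b : F ⟶ G}
    (h : ∀ (T : Over S) (t : (yon S).obj T ⟶ F), t ≫ a = t ≫ b) : a = b := by
  ext T x
  have := h T.unop ((J S).uliftYonedaEquiv.symm x)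
  have h2 := congrArg (J S).uliftYonedaEquiv this
  rw [GrothendieckTopology.uliftYonedaEquiv_comp, GrothendieckTopology.uliftYonedaEquiv_comp,
    Equiv.apply_symm_apply] at h2
  exact h2

/-- A map of sheaves is mono as soon as it is injective on maps from representable sheaves. -/
theorem mono_of_yon {F G : Sp S} {f : F ⟶ G}
    (h : ∀ (T : Over S) (s t : (yon S).obj T ⟶ F), s ≫ f = t ≫ f → s = t) : Mono f :=
  ⟨fun {_} a b hab => hom_ext_yon fun T t => h T _ _ (by simp only [Category.assoc, hab])⟩

/-- A representable map all of whose represented base changes are monomorphisms is a monomorphism. -/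
theorem mono_of_repWith {P : MorphismProperty Scheme.{u}}
    (hP : P ≤ MorphismProperty.monomorphisms Scheme.{u}) {F G : Sp S} {f : F ⟶ G}
    (hf : RepWith P f) : Mono f := by
  refine mono_of_yon fun T s t hst => ?_
  have hsq := hf.1.isPullback (s ≫ f)
  have hm : Mono (hf.1.snd (s ≫ f)).left := hP _ (hf.2 _ _ _ hsq)
  have hm' : Mono (hf.1.snd (s ≫ f)) := (Over.forget S).mono_of_mono_map hm
  have hm2 : Mono ((yon S).map (hf.1.snd (s ≫ f))) := inferInstance
  let l₁ := hsq.lift s (𝟙 _) (by simp)
  let l₂ := hsq.lift t (𝟙 _) (by simp [hst])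
  have e : l₁ = l₂ := by
    rw [← cancel_mono ((yon S).map (hf.1.snd (s ≫ f))), hsq.lift_snd, hsq.lift_snd]
  rw [← hsq.lift_fst s (𝟙 _) (by simp), ← hsq.lift_fst t (𝟙 _) (by simp [hst])]
  exact congrArg (· ≫ hf.1.fst (s ≫ f)) e

theorem thick_le_mono : thick.{u} ≤ MorphismProperty.monomorphisms Scheme.{u} := by
  intro X Y f hf
  have : IsClosedImmersion f := hf.1
  exact (inferInstance : Mono f)

theorem mono_of_isThickMor {F G : Sp S} {i : F ⟶ G} (hi : IsThickMor i) : Mono i :=
  mono_of_repWith thick_le_mono hi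

instance thick_isMultiplicative : (thick.{u}).IsMultiplicative where
  id_mem X := ⟨(inferInstance : IsClosedImmersion (𝟙 X)), (inferInstance : Surjective (𝟙 X))⟩
  comp_mem f g hf hg := by
    have h1 : IsClosedImmersion f := hf.1
    have h2 : Surjective f := hf.2
    have h3 : IsClosedImmersion g := hg.1
    have h4 : Surjective g := hg.2
    exact ⟨(inferInstance : IsClosedImmersion (f ≫ g)), (inferInstance : Surjective (f ≫ g))⟩

theorem IsThickMor.of_isPullback {F G F' G' : Sp S} {i : F ⟶ G} {i' : F' ⟶ G'} {a : F ⟶ F'} {b : G ⟶ G'}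
    (sq : IsPullback a i i' b) (h : IsThickMor i') : IsThickMor i :=
  MorphismProperty.of_isPullback (P := RepWith thick) sq h

theorem IsThickMor.comp {F G H : Sp S} {i : F ⟶ G} {j : G ⟶ H} (hi : IsThickMor i) (hj : IsThickMor j) :
    IsThickMor (i ≫ j) :=
  (RepWith (S := S) thick).comp_mem _ _ hi hj

section general

variable {C : Type*} [Category C] [HasPullbacks C]

set_option backward.isDefEq.respectTransparency false in
/-- For a commutative square `i ≫ f' = f ≫ j` with `i` a monomorphism, the diagonal of `f` is the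
base change of the diagonal of `f'`. -/
theorem isPullback_diagonal {X X' Y Y' : C} {i : X ⟶ X'} {j : Y ⟶ Y'} {f : X ⟶ Y} {f' : X' ⟶ Y'}
    (w : i ≫ f' = f ≫ j) [Mono i] :
    IsPullback i (pullback.diagonal f) (pullback.diagonal f')
      (pullback.map f f f' f' i i j w.symm w.symm) := by
  refine ⟨⟨by apply pullback.hom_ext <;> simp⟩, ⟨PullbackCone.IsLimit.mk _ (fun s => s.snd ≫ pullback.fst f f) ?_ ?_ ?_⟩⟩
  · intro s
    have h1 := congrArg (· ≫ pullback.fst f' f') s.condition
    simp only [Category.assoc, pullback.diagonal_fst, Category.comp_id, pullback.lift_fst,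
      pullback.map] at h1
    simp [h1]
  · intro s
    have h1 := congrArg (· ≫ pullback.fst f' f') s.condition
    have h2 := congrArg (· ≫ pullback.snd f' f') s.condition
    simp only [Category.assoc, pullback.diagonal_fst, pullback.diagonal_snd, Category.comp_id,
      pullback.lift_fst, pullback.lift_snd, pullback.map] at h1 h2
    apply pullback.hom_ext
    · simp
    · have h3 : (s.snd ≫ pullback.fst f f) ≫ i = (s.snd ≫ pullback.snd f f) ≫ i := by
        rw [Category.assoc, Category.assoc, ← h1, ← h2]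
      have h4 := (cancel_mono i).1 h3
      simpa using h4
  · intro s m h1 h2
    rw [← h2]
    simp

set_option backward.isDefEq.respectTransparency false in
/-- The map `X ×_Y X ⟶ X' ×_{Y'} X'` inherits every property of `i : X ⟶ X'` stable under base change and
composition, when `Y ⟶ Y'` is a monomorphism. -/
theorem pullbackMap_of_mono (P : MorphismProperty C) [P.IsStableUnderBaseChange]
    [P.IsStableUnderComposition]
    {X X' Y Y' : C} {i : X ⟶ X'} {j : Y ⟶ Y'} {f : X ⟶ Y} {f' : X' ⟶ Y'}
    (w : i ≫ f' = f ≫ j) [Mono j] (hi : P i) :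
    P (pullback.map f f f' f' i i j w.symm w.symm) := by
  have : P.RespectsIso := MorphismProperty.IsStableUnderBaseChange.respectsIso
  have hp : IsPullback (pullback.fst f f) (pullback.snd f f) (i ≫ f') (i ≫ f') := by
    rw [w]
    exact ⟨⟨by rw [← Category.assoc, pullback.condition, Category.assoc]⟩,
      ⟨pullbackIsPullbackOfCompMono f f j⟩⟩
  have h1 : P (pullback.map (i ≫ f') (i ≫ f') f' f' i i (𝟙 _) (by simp) (by simp)) :=
    MorphismProperty.pullbackMap (P := P) hi hi rfl rfl
  have h2 : pullback.map f f f' f' i i j w.symm w.symm = hp.isoPullback.hom ≫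
      pullback.map (i ≫ f') (i ≫ f') f' f' i i (𝟙 _) (by simp) (by simp) := by
    apply pullback.hom_ext <;> simp
  rw [h2]
  exact MorphismProperty.RespectsIso.precomp P _ _ h1

end general

theorem isThickMor_pullbackMap {X X' Y Y' : Sp S} {i : X ⟶ X'} {j : Y ⟶ Y'} {f : X ⟶ Y} {f' : X' ⟶ Y'}
    (w : i ≫ f' = f ≫ j) [Mono j] (hi : IsThickMor i) :
    IsThickMor (pullback.map f f f' f' i i j w.symm w.symm) :=
  pullbackMap_of_mono (RepWith thick) w hi

/-- A pullback square of sheaves all of whose objects are represented gives a pullback square of schemes. -/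
theorem isPullback_left_of_yon {A B C D : Over S} {a : A ⟶ B} {b : A ⟶ C} {c : B ⟶ D} {d : C ⟶ D}
    (h : IsPullback ((yon S).map a) ((yon S).map b) ((yon S).map c) ((yon S).map d)) :
    IsPullback a.left b.left c.left d.left := by
  have h1 : IsPullback a b c d :=
    IsPullback.of_map (yon S) ((yon S).map_injective (by simpa using h.w)) h
  exact h1.map (Over.forget S)

/-- Base change of a cartesian square `X = A ×_{A'} X'` over a thickening `A ⟶ A'` to a scheme over `A'`, when
both vertical maps are representable. -/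
theorem exists_cartesian_of_thick {X X' A A' : Sp S} {i : X ⟶ X'} {φ : X ⟶ A} {φ' : X' ⟶ A'} {m : A ⟶ A'}
    (sq : IsPullback i φ φ' m) (hm : IsThickMor m) (hφ : Representable φ)
    {U V : Over S} (g : (yon S).obj U ⟶ A') (fst : (yon S).obj V ⟶ X') (snd : V ⟶ U)
    (hV : IsPullback fst ((yon S).map snd) φ' g) :
    ∃ (T E : Over S) (t : T ⟶ U) (e : E ⟶ V) (p : E ⟶ T) (q : (yon S).obj T ⟶ A)
      (r : (yon S).obj E ⟶ X),
      IsPullback q ((yon S).map t) m g ∧ IsPullback r ((yon S).map p) φ q ∧
      IsPullback r ((yon S).map e) i fst ∧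
      IsPullback e.left p.left snd.left t.left ∧ MoreMor.IsThickening t.left := by
  obtain ⟨T, t, q, hT⟩ := hm.1 g
  obtain ⟨E, p, r, hE⟩ := hφ q
  have h1 := hE.paste_horiz sq
  rw [hT.w] at h1
  have hw : (r ≫ i) ≫ φ' = ((yon S).map p ≫ (yon S).map t) ≫ g := by
    rw [Category.assoc, sq.w, Category.assoc, ← hT.w, ← Category.assoc, ← Category.assoc, hE.w]
  obtain ⟨e, he⟩ := (yon S).map_surjective (hV.lift (r ≫ i) ((yon S).map p ≫ (yon S).map t) hw)
  have he₀1 : (yon S).map e ≫ fst = r ≫ i := by rw [he]; exact hV.lift_fst _ _ _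
  have he₀2 : (yon S).map e ≫ (yon S).map snd = (yon S).map p ≫ (yon S).map t := by
    rw [he]; exact hV.lift_snd _ _ _
  have h2 : IsPullback ((yon S).map e) ((yon S).map p) ((yon S).map snd) ((yon S).map t) := by
    refine IsPullback.of_right ?_ he₀2 hV
    rw [he₀1]
    exact h1
  have h3 : IsPullback r ((yon S).map e) i fst := by
    refine IsPullback.of_right ?_ he₀1.symm sq.flip
    rw [hE.w, hV.w]
    exact h2.flip.paste_horiz hT
  exact ⟨T, E, t, e, p, q, r, hT, hE, h3, isPullback_left_of_yon h2, hm.2 _ _ _ hT⟩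

/-- Transfer of a property along a cartesian square over a thickening. -/
theorem repWith_of_thick {P Q : MorphismProperty Scheme.{u}}
    (H : ∀ ⦃X X' Y Y' : Scheme.{u}⦄ (iX : X ⟶ X') (iY : Y ⟶ Y') (f : X ⟶ Y) (f' : X' ⟶ Y'),
      MoreMor.IsThickening iY → IsPullback iX f f' iY → Q f' → P f → P f')
    {X X' A A' : Sp S} {i : X ⟶ X'} {φ : X ⟶ A} {φ' : X' ⟶ A'} {m : A ⟶ A'}
    (sq : IsPullback i φ φ' m) (hm : IsThickMor m) (hφ' : RepWith Q φ') (hφ : RepWith P φ) :
    RepWith P φ' := by
  refine ⟨hφ'.1, fun U V g fst snd hV => ?_⟩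
  obtain ⟨T, E, t, e, p, q, r, h1, h2, -, h4, h5⟩ := exists_cartesian_of_thick sq hm hφ.1 g fst snd hV
  exact H _ _ _ _ h5 h4 (hφ'.2 _ _ _ hV) (hφ.2 _ _ _ h2)

end K632.Basic
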