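import Groth.Agent.AlgSp.K632.Basic

set_option autoImplicit false
universe u
open CategoryTheory CategoryTheory.Limits AlgebraicGeometry Opposite

namespace K632.Chart

open AlgSp K632.Basic

variable {S : Scheme.{u}}

theorem repWith_comp {P : MorphismProperty Scheme.{u}} [P.IsStableUnderComposition]
    {F G H : Sp S} {f : F ⟶ G} {g : G ⟶ H} (hf : RepWith P f) (hg : RepWith P g) : RepWith P (f ≫ g) :=
  (RepWith (S := S) P).comp_mem _ _ hf hg

theorem repWith_of_isPullback {P : MorphismProperty Scheme.{u}} {F G F' G' : Sp S} {f : F ⟶ G} {f' : F' ⟶ G'}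
    {a : F ⟶ F'} {b : G ⟶ G'} (sq : IsPullback a f f' b) (h : RepWith P f') : RepWith P f :=
  MorphismProperty.of_isPullback (P := RepWith P) sq h

theorem repWith_etale_yon_comp {U V : Over S} (g : U ⟶ V) [Etale g.left] {F : Sp S}
    {a : (yon S).obj V ⟶ F} (ha : RepWith @Etale a) : RepWith @Etale ((yon S).map g ≫ a) :=
  repWith_comp ((repWith_yon_map_iff @Etale g).2 ‹_›) ha

/-- For a property of morphisms of schemes that is Zariski local on source and target, `LocP` can be tested on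
affine chart diagrams. -/
theorem locP_of_affine_charts {P : MorphismProperty Scheme.{u}} [IsZariskiLocalAtSource P]
    [IsZariskiLocalAtTarget P] [P.RespectsRight @IsOpenImmersion] {F G : Sp S} {f : F ⟶ G}
    (H : ∀ ⦃U V : Over S⦄ (a : (yon S).obj U ⟶ F) (b : (yon S).obj V ⟶ G) (h : U ⟶ V),
      IsAffine U.left → IsAffine V.left → RepWith @Etale a → RepWith @Etale b →
      a ≫ f = (yon S).map h ≫ b → P h.left) : LocP P f := by
  intro U V a b h ha hb w
  rw [IsZariskiLocalAtSource.iff_exists_resLE (P := P)]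
  intro x
  obtain ⟨W, hW, hxW⟩ : ∃ W : V.left.Opens, IsAffineOpen W ∧ h.left x ∈ W := by
    obtain ⟨_, ⟨W, hW, rfl⟩, hxW, -⟩ :=
      V.left.isBasis_affineOpens.exists_subset_of_mem_open (Set.mem_univ (h.left x)) isOpen_univ
    exact ⟨W, hW, hxW⟩
  obtain ⟨T, hT, hxT, e⟩ : ∃ T : U.left.Opens, IsAffineOpen T ∧ x ∈ T ∧ T ≤ h.left ⁻¹ᵁ W := by
    obtain ⟨_, ⟨T, hT, rfl⟩, hxT, e : T ≤ h.left ⁻¹ᵁ W⟩ :=
      U.left.isBasis_affineOpens.exists_subset_of_mem_open hxW (h.left ⁻¹ᵁ W).isOpen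
    exact ⟨T, hT, hxT, e⟩
  refine ⟨W, T, hxT, e, ?_⟩
  let iT : Over.mk (T.ι ≫ U.hom) ⟶ U := Over.homMk T.ι rfl
  let iW : Over.mk (W.ι ≫ V.hom) ⟶ V := Over.homMk W.ι rfl
  let hh : Over.mk (T.ι ≫ U.hom) ⟶ Over.mk (W.ι ≫ V.hom) := Over.homMk (h.left.resLE W T e) (by
    simp only [Over.mk_left, Over.mk_hom]
    rw [← Category.assoc, Scheme.Hom.resLE_comp_ι, Category.assoc, Over.w h])
  have hiT : Etale iT.left := (inferInstance : Etale T.ι)
  have hiW : Etale iW.left := (inferInstance : Etale W.ι)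
  have hc : hh ≫ iW = iT ≫ h := by
    apply Over.OverMorphism.ext
    exact Scheme.Hom.resLE_comp_ι _ _
  refine H ((yon S).map iT ≫ a) ((yon S).map iW ≫ b) hh hT hW
    (repWith_etale_yon_comp _ ha) (repWith_etale_yon_comp _ hb) ?_
  rw [Category.assoc, w, ← Category.assoc, ← Category.assoc, ← Functor.map_comp, ← Functor.map_comp, hc]

/-- For a cartesian square of sheaves, chart diagrams of `f'` and compatible represented pullbacks give a chart
diagram of `f` and a cartesian square of schemes. -/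
theorem exists_chart_hom {X X' Y Y' : Sp S} {i : X ⟶ X'} {j : Y ⟶ Y'} {f : X ⟶ Y} {f' : X' ⟶ Y'}
    (sq : IsPullback i f f' j) {U U' V V' : Over S} {a' : (yon S).obj U' ⟶ X'} {b' : (yon S).obj V' ⟶ Y'}
    {h' : U' ⟶ V'} (w : a' ≫ f' = (yon S).map h' ≫ b') {a : (yon S).obj U ⟶ X} {b : (yon S).obj V ⟶ Y}
    {iU : U ⟶ U'} {iV : V ⟶ V'} (hU : IsPullback a ((yon S).map iU) i a')
    (hV : IsPullback b ((yon S).map iV) j b') :
    ∃ h : U ⟶ V, a ≫ f = (yon S).map h ≫ b ∧ iU ≫ h' = h ≫ iV ∧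
      IsPullback iU.left h.left h'.left iV.left := by
  have hw : (a ≫ f) ≫ j = ((yon S).map iU ≫ (yon S).map h') ≫ b' := by
    rw [Category.assoc, ← sq.w, ← Category.assoc, hU.w, Category.assoc, Category.assoc, w]
  obtain ⟨h, hh⟩ := (yon S).map_surjective (hV.lift (a ≫ f) ((yon S).map iU ≫ (yon S).map h') hw)
  have h1 : (yon S).map h ≫ b = a ≫ f := by rw [hh]; exact hV.lift_fst _ _ _
  have h2 : (yon S).map h ≫ (yon S).map iV = (yon S).map iU ≫ (yon S).map h' := by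
    rw [hh]; exact hV.lift_snd _ _ _
  have h3 : IsPullback ((yon S).map h) ((yon S).map iU) ((yon S).map iV) ((yon S).map h') := by
    refine IsPullback.of_right ?_ h2 hV
    rw [h1, ← w]
    exact hU.paste_horiz sq.flip
  exact ⟨h, h1.symm, (yon S).map_injective (by simpa using h2.symm), isPullback_left_of_yon h3.flip⟩

/-- The chart diagrams of `f` obtained by pulling back a chart diagram of `f'` along a cartesian square over a
thickening `j`. -/
theorem exists_cartesian_chart {X X' Y Y' : Sp S} {i : X ⟶ X'} {j : Y ⟶ Y'} {f : X ⟶ Y} {f' : X' ⟶ Y'}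
    (sq : IsPullback i f f' j) (hj : IsThickMor j)
    {U' V' : Over S} (a' : (yon S).obj U' ⟶ X') (b' : (yon S).obj V' ⟶ Y') (h' : U' ⟶ V')
    (w : a' ≫ f' = (yon S).map h' ≫ b') :
    ∃ (U V : Over S) (iU : U ⟶ U') (iV : V ⟶ V') (a : (yon S).obj U ⟶ X) (b : (yon S).obj V ⟶ Y)
      (h : U ⟶ V),
      IsPullback a ((yon S).map iU) i a' ∧ IsPullback b ((yon S).map iV) j b' ∧
      a ≫ f = (yon S).map h ≫ b ∧ IsPullback iU.left h.left h'.left iV.left ∧
      MoreMor.IsThickening iU.left ∧ MoreMor.IsThickening iV.left := by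
  have hi : IsThickMor i := IsThickMor.of_isPullback sq.flip hj
  obtain ⟨V, iV, b, hV⟩ := hj.1 b'
  obtain ⟨U, iU, a, hU⟩ := hi.1 a'
  obtain ⟨h, h1, -, h2⟩ := exists_chart_hom sq w hU hV
  exact ⟨U, V, iU, iV, a, b, h, hU, hV, h1, h2, hi.2 _ _ _ hU, hj.2 _ _ _ hV⟩

/-- Transfer of `LocP` along a cartesian square over a thickening. -/
theorem locP_of_thick {P Q : MorphismProperty Scheme.{u}}
    (H : ∀ ⦃X X' Y Y' : Scheme.{u}⦄ (iX : X ⟶ X') (iY : Y ⟶ Y') (f : X ⟶ Y) (f' : X' ⟶ Y'),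
      MoreMor.IsThickening iY → IsPullback iX f f' iY → Q f' → P f → P f')
    {X X' Y Y' : Sp S} {i : X ⟶ X'} {j : Y ⟶ Y'} {f : X ⟶ Y} {f' : X' ⟶ Y'}
    (sq : IsPullback i f f' j) (hj : IsThickMor j) (hQ : LocP Q f') (hP : LocP P f) : LocP P f' := by
  intro U' V' a' b' h' ha hb w
  obtain ⟨U, V, iU, iV, a, b, h, hU, hV, hw, hsq, -, ht⟩ := exists_cartesian_chart sq hj a' b' h' w
  exact H _ _ _ _ ht hsq (hQ a' b' h' ha hb w)
    (hP a b h (repWith_of_isPullback hU.flip ha) (repWith_of_isPullback hV.flip hb) hw)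

/-- Transfer of `LocP` along a cartesian square over a thickening whose upper horizontal arrow is a finite order
thickening. -/
theorem locP_of_finThick {P : MorphismProperty Scheme.{u}} [IsZariskiLocalAtSource P]
    [IsZariskiLocalAtTarget P] [P.RespectsRight @IsOpenImmersion]
    (H : ∀ ⦃X X' Y Y' : Scheme.{u}⦄ (iX : X ⟶ X') (iY : Y ⟶ Y') (f : X ⟶ Y) (f' : X' ⟶ Y'),
      IsAffine X' → IsAffine Y' →
      MoreMor.IsThickening iY → IsPullback iX f f' iY → IsNilpotent iX.ker → P f → P f')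
    {X X' Y Y' : Sp S} {i : X ⟶ X'} {j : Y ⟶ Y'} {f : X ⟶ Y} {f' : X' ⟶ Y'}
    (sq : IsPullback i f f' j) (hj : IsThickMor j) (hi : IsFinThickMor i) (hP : LocP P f) : LocP P f' := by
  obtain ⟨n, -, hn⟩ := hi
  refine locP_of_affine_charts fun U' V' a' b' h' hU' hV' ha hb w => ?_
  obtain ⟨U, V, iU, iV, a, b, h, hU, hV, hw, hsq, -, ht⟩ := exists_cartesian_chart sq hj a' b' h' w
  exact H _ _ _ _ hU' hV' ht hsq ⟨n + 1, hn _ _ _ hU' ha hU⟩
    (hP a b h (repWith_of_isPullback hU.flip ha) (repWith_of_isPullback hV.flip hb) hw)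

theorem locP_inf {P Q : MorphismProperty Scheme.{u}} {F G : Sp S} {f : F ⟶ G} :
    LocP (P ⊓ Q) f ↔ LocP P f ∧ LocP Q f :=
  ⟨fun h => ⟨fun _ _ a b h' ha hb w => (h a b h' ha hb w).1, fun _ _ a b h' ha hb w => (h a b h' ha hb w).2⟩,
    fun h _ _ a b h' ha hb w => ⟨h.1 a b h' ha hb w, h.2 a b h' ha hb w⟩⟩

end K632.Chart
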