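import Groth.Agent.AlgSp.K632.Global
import Groth.Agent.AlgSp.K632.SrcNil
import Mathlib.AlgebraicGeometry.Morphisms.FinitePresentation

/-!
# Thickenings of finite presentation

A closed immersion of finite presentation which is surjective has locally nilpotent ideal, so that "locally of finite
type" can be tested after base change.
-/

set_option autoImplicit false
universe u
open CategoryTheory CategoryTheory.Limits AlgebraicGeometry Opposite

namespace K632.ClosedBij

open AlgSp K632.Basic K632.Chart

variable {S : Scheme.{u}}

theorem isNilpotent_ker {X X' : Scheme.{u}} (i : X ⟶ X') [IsAffine X'] [IsClosedImmersion i] [Surjective i]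
    [LocallyOfFinitePresentation i] : IsNilpotent i.ker := by
  have : IsAffine X := isAffine_of_isAffineHom i
  have h1 : i.appTop.hom.FinitePresentation :=
    HasRingHomProperty.appTop (P := @LocallyOfFinitePresentation) i ‹_›
  have h2 : Function.Surjective i.appTop.hom := by
    exact i.app_surjective ⊤ (isAffineOpen_top X')
  have h3 : (RingHom.ker i.appTop.hom).FG := by
    algebraize [i.appTop.hom]
    have := Algebra.FinitePresentation.ker_fG_of_surjective (Algebra.ofId Γ(X', ⊤) Γ(X, ⊤)) h2
    exact this
  have h4 : RingHom.ker i.appTop.hom ≤ nilradical Γ(X', ⊤) :=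
    Groth.Agent.S1313.ker_app_le_nilradical i ⊤ (isAffineOpen_top X')
  obtain ⟨n, hn⟩ := (h3.isNilpotent_iff_le_nilradical).2 h4
  refine ⟨n, Scheme.IdealSheafData.ext_of_isAffine ?_⟩
  change (i.ker.ideal ^ n) _ = _
  rw [Pi.pow_apply, Scheme.Hom.ker_apply]
  exact hn

/-- "Locally of finite type" lifts along a base change of a surjective closed immersion of finite presentation. -/
theorem locP_lft {X X' Y Y' : Sp S} {i : X ⟶ X'} {j : Y ⟶ Y'} {f : X ⟶ Y} {f' : X' ⟶ Y'}
    (sq : IsPullback i f f' j) (hj : IsThickMor j) (hj' : RepWith @LocallyOfFinitePresentation j)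
    (hP : LocP @LocallyOfFiniteType f) : LocP @LocallyOfFiniteType f' := by
  have : MorphismProperty.RespectsRight @LocallyOfFiniteType.{u} @IsOpenImmersion.{u} :=
    ⟨fun {_ _ _} a ha b hb => by
      have : IsOpenImmersion a := ha
      have : LocallyOfFiniteType b := hb
      exact (inferInstance : LocallyOfFiniteType (b ≫ a))⟩
  refine locP_of_affine_charts fun U' V' a' b' h' hU' hV' ha hb w => ?_
  obtain ⟨U, V, iU, iV, a, b, h, hU, hV, hw, hsq, hi, ht⟩ := exists_cartesian_chart sq hj a' b' h' w
  have hi' : RepWith @LocallyOfFinitePresentation i := repWith_of_isPullback sq.flip hj'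
  have h1 : LocallyOfFinitePresentation iU.left := hi'.2 _ _ _ hU
  have h2 : IsClosedImmersion iU.left := hi.1
  have h3 : Surjective iU.left := hi.2
  exact K632.SrcNil.locallyOfFiniteType _ _ _ _ ht hsq (isNilpotent_ker iU.left)
    (hP a b h (repWith_of_isPullback hU.flip ha) (repWith_of_isPullback hV.flip hb) hw)

end K632.ClosedBij
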