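import Groth.Agent.AlgSp.K632.HomSp
import Groth.Agent.AlgSp.K607.SpQuot
import Groth.Agent.AlgSp.K607.SpKer
import Groth.Agent.AlgSp.K609.Sep
import Groth.Agent.S10102
import Groth.Agent.S10107
import Groth.Agent.S10557
import Groth.Agent.AlgSp.K596.ImmDesc

/-!
# The coset space `G / H`
-/

set_option autoImplicit false
universe u
open CategoryTheory CategoryTheory.Limits AlgebraicGeometry Opposite MonoidalCategory
  CartesianMonoidalCategory MonObj AlgSp

namespace K632.Coset

variable {S : Scheme.{u}} {G H : Over S} [GrpObj G] [GrpObj H] (i : H ⟶ G) [IsMonHom i]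

omit [GrpObj H] [IsMonHom i] in
theorem comp_t {T : Over S} (r : T ⟶ G ⊗ H) :
    r ≫ (G ◁ i) ≫ μ[G] = (r ≫ fst G H) * ((r ≫ snd G H) ≫ i) := by
  have hr : r = lift (r ≫ fst G H) (r ≫ snd G H) := by simp [← comp_lift]
  rw [Hom.mul_def]
  conv_lhs => rw [hr]
  rw [← Category.assoc, lift_whiskerLeft]

theorem isEqvRel [Mono i] : IsEqvRel (fst G H) ((G ◁ i) ≫ μ[G]) where
  injective T r r' h1 h2 := by
    rw [comp_t, comp_t, h2, mul_right_inj, cancel_mono] at h1
    exact CartesianMonoidalCategory.hom_ext _ _ h2 h1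
  equivalence T := by
    refine ⟨fun x => ⟨lift x 1, ?_, lift_fst _ _⟩, ?_, ?_⟩
    · rw [comp_t, lift_fst, lift_snd, MonObj.one_comp, _root_.mul_one]
    · rintro _ _ ⟨r, rfl, rfl⟩
      refine ⟨lift (r ≫ (G ◁ i) ≫ μ[G]) (r ≫ snd G H)⁻¹, ?_, lift_fst _ _⟩
      rw [comp_t, lift_fst, lift_snd, comp_t, GrpObj.inv_comp, mul_inv_cancel_right]
    · rintro x y z ⟨r, rfl, rfl⟩ ⟨r', h, rfl⟩
      refine ⟨lift (r' ≫ fst G H) ((r' ≫ snd G H) * (r ≫ snd G H)), ?_, lift_fst _ _⟩
      rw [comp_t, comp_t, lift_fst, lift_snd, MonObj.mul_comp, ← h, comp_t, _root_.mul_assoc]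

theorem isEqvRelSp {U R : Over S} {s t : R ⟶ U} (h : IsEqvRel s t) :
    IsEqvRelSp ((yon S).map s) ((yon S).map t) where
  injective T r r' h1 h2 := by
    obtain ⟨r, rfl⟩ := (yon S).map_surjective r
    obtain ⟨r', rfl⟩ := (yon S).map_surjective r'
    rw [h.injective T r r' ((yon S).map_injective (by simpa using h1)) ((yon S).map_injective (by simpa using h2))]
  equivalence T := by
    have key : ∀ a b : T ⟶ U, (∃ r : (yon S).obj T ⟶ (yon S).obj R, r ≫ (yon S).map t = (yon S).map a ∧
        r ≫ (yon S).map s = (yon S).map b) ↔ ∃ r : T ⟶ R, r ≫ t = a ∧ r ≫ s = b := fun a b => by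
      constructor
      · rintro ⟨r, h1, h2⟩
        obtain ⟨r, rfl⟩ := (yon S).map_surjective r
        exact ⟨r, (yon S).map_injective (by simpa using h1), (yon S).map_injective (by simpa using h2)⟩
      · rintro ⟨r, rfl, rfl⟩
        exact ⟨(yon S).map r, by simp, by simp⟩
    refine ⟨fun x => ?_, fun {x y} => ?_, fun {x y z} => ?_⟩
    · obtain ⟨x, rfl⟩ := (yon S).map_surjective x
      rw [key]
      exact (h.equivalence T).refl x
    · obtain ⟨x, rfl⟩ := (yon S).map_surjective x
      obtain ⟨y, rfl⟩ := (yon S).map_surjective y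
      rw [key, key]
      exact (h.equivalence T).symm
    · obtain ⟨x, rfl⟩ := (yon S).map_surjective x
      obtain ⟨y, rfl⟩ := (yon S).map_surjective y
      obtain ⟨z, rfl⟩ := (yon S).map_surjective z
      rw [key, key, key]
      exact (h.equivalence T).trans

/-- The automorphism `(g, h) ↦ (g h, h⁻¹)`. -/
noncomputable def flip : G ⊗ H ≅ G ⊗ H where
  hom := lift ((G ◁ i) ≫ μ[G]) (snd G H)⁻¹
  inv := lift ((G ◁ i) ≫ μ[G]) (snd G H)⁻¹
  hom_inv_id := by
    apply CartesianMonoidalCategory.hom_ext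
    · rw [Category.assoc, lift_fst, comp_t, lift_fst, lift_snd, Category.id_comp, GrpObj.inv_comp]
      have h1 := comp_t i (𝟙 (G ⊗ H))
      rw [Category.id_comp, Category.id_comp, Category.id_comp] at h1
      rw [h1, mul_inv_cancel_right]
    · rw [Category.assoc, lift_snd, GrpObj.comp_inv, lift_snd, inv_inv, Category.id_comp]
  inv_hom_id := by
    apply CartesianMonoidalCategory.hom_ext
    · rw [Category.assoc, lift_fst, comp_t, lift_fst, lift_snd, Category.id_comp, GrpObj.inv_comp]
      have h1 := comp_t i (𝟙 (G ⊗ H))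
      rw [Category.id_comp, Category.id_comp, Category.id_comp] at h1
      rw [h1, mul_inv_cancel_right]
    · rw [Category.assoc, lift_snd, GrpObj.comp_inv, lift_snd, inv_inv, Category.id_comp]

theorem flip_fst : (flip i).hom ≫ fst G H = (G ◁ i) ≫ μ[G] := lift_fst _ _

theorem isPullback_whiskerLeft (Z : Over S) {X M : Over S} (π : X ⟶ M) :
    IsPullback (Z ◁ π).left (snd Z X).left (snd Z M).left π.left := by
  refine IsPullback.of_right (h₁₂ := (fst Z M).left) (h₂₂ := M.hom) (v₁₃ := Z.hom) ?_ ?_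
    (IsPullback.of_hasPullback Z.hom M.hom)
  · rw [← Over.comp_left, whiskerLeft_fst, Over.w π]
    exact IsPullback.of_hasPullback Z.hom X.hom
  · rw [← Over.comp_left, whiskerLeft_snd, Over.comp_left]

variable (G) in
/-- The automorphism `(g, g') ↦ (g g', g)`. -/
noncomputable def sh : G ⊗ G ≅ G ⊗ G where
  hom := lift μ[G] (fst G G)
  inv := lift (snd G G) ((snd G G)⁻¹ * fst G G)
  hom_inv_id := by
    rw [comp_lift, lift_snd, MonObj.comp_mul, GrpObj.comp_inv, lift_fst, lift_snd, MonObj.mul_eq_mul,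
      inv_mul_cancel_left, lift_fst_snd]
  inv_hom_id := by
    rw [comp_lift, lift_fst, MonObj.mul_eq_mul, MonObj.comp_mul, lift_fst, lift_snd, mul_inv_cancel_left,
      lift_fst_snd]

omit [GrpObj H] [IsMonHom i] in
theorem lift_eq : lift ((G ◁ i) ≫ μ[G]) (fst G H) = (G ◁ i) ≫ (sh G).hom := by
  change _ = (G ◁ i) ≫ lift μ[G] (fst G G)
  rw [comp_lift, whiskerLeft_fst]

omit [GrpObj H] [IsMonHom i] in
theorem isClosedImmersion_rel [IsClosedImmersion i.left] :
    IsClosedImmersion (lift ((G ◁ i) ≫ μ[G]) (fst G H)).left := by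
  have h1 : IsClosedImmersion (G ◁ i).left :=
    MorphismProperty.of_isPullback (P := @IsClosedImmersion) (isPullback_whiskerLeft G i).flip inferInstance
  have h2 : IsIso (sh G).hom.left := inferInstanceAs (IsIso ((Over.forget S).map (sh G).hom))
  rw [lift_eq, Over.comp_left]
  infer_instance

/-- The coset space. -/
noncomputable abbrev cs : Sp S := quotSp ((yon S).map (fst G H)) ((yon S).map ((G ◁ i) ≫ μ[G]))

/-- The projection. -/
noncomputable abbrev π : (yon S).obj G ⟶ cs i := quotSpπ ((yon S).map (fst G H)) ((yon S).map ((G ◁ i) ≫ μ[G]))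

instance : Epi (π i) := inferInstanceAs (Epi (coequalizer.π _ _))

section

variable [IsClosedImmersion i.left]

instance mono_i : Mono i := (Over.forget S).mono_of_mono_map (inferInstanceAs (Mono i.left))

theorem isPullback : IsPullback ((yon S).map ((G ◁ i) ≫ μ[G])) ((yon S).map (fst G H)) (π i) (π i) :=
  K607.SpQuot.isPullback_quotSpπ (isEqvRelSp (isEqvRel i))

variable [Flat H.hom] [LocallyOfFinitePresentation H.hom]

omit [LocallyOfFinitePresentation H.hom] [GrpObj G] [GrpObj H] in
theorem flat_fst : Flat (fst G H).left := inferInstanceAs (Flat (pullback.fst G.hom H.hom))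

omit [Flat H.hom] [GrpObj G] [GrpObj H] in
theorem lfp_fst : LocallyOfFinitePresentation (fst G H).left :=
  inferInstanceAs (LocallyOfFinitePresentation (pullback.fst G.hom H.hom))

omit [LocallyOfFinitePresentation H.hom] [IsClosedImmersion i.left] in
theorem flat_t : Flat ((G ◁ i) ≫ μ[G]).left := by
  have := flat_fst (G := G) (H := H)
  have h2 : IsIso (flip i).hom.left := inferInstanceAs (IsIso ((Over.forget S).map (flip i).hom))
  rw [← flip_fst, Over.comp_left]
  infer_instance

omit [Flat H.hom] [IsClosedImmersion i.left] in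
theorem lfp_t : LocallyOfFinitePresentation ((G ◁ i) ≫ μ[G]).left := by
  have := lfp_fst (G := G) (H := H)
  have h2 : IsIso (flip i).hom.left := inferInstanceAs (IsIso ((Over.forget S).map (flip i).hom))
  rw [← flip_fst, Over.comp_left]
  infer_instance

theorem locP_yon {P : MorphismProperty Scheme.{u}} (hP : K597.EtLoc P) [P.IsStableUnderBaseChange] {U V : Over S}
    (g : U ⟶ V) (h : P g.left) : LocP P ((yon S).map g) :=
  (K597.locP_iff_repWith hP (IsAlgSpace.yon_obj V).hasAtlas (representable_yon_map g)).2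
    ((repWith_yon_map_iff P g).2 h)

theorem isAlgSpace : IsAlgSpace (cs i) :=
  Groth.Agent.S10102.result S _ _ (IsAlgSpace.yon_obj _) (IsAlgSpace.yon_obj _) _ _ (isEqvRelSp (isEqvRel i))
    ⟨locP_yon K597.etLoc_flat _ flat_fst, locP_yon K597.etLoc_lfp _ lfp_fst⟩
    ⟨locP_yon K597.etLoc_flat _ (flat_t i), locP_yon K597.etLoc_lfp _ (lfp_t i)⟩

theorem props : IsSurjectiveMor (π i) ∧ LocP @Flat (π i) ∧ LocP @LocallyOfFinitePresentation (π i) :=
  Groth.Agent.S10107.result S _ _ (IsAlgSpace.yon_obj _) (IsAlgSpace.yon_obj _) _ _ (isEqvRelSp (isEqvRel i))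
    ⟨locP_yon K597.etLoc_flat _ flat_fst, locP_yon K597.etLoc_lfp _ lfp_fst⟩
    ⟨locP_yon K597.etLoc_flat _ (flat_t i), locP_yon K597.etLoc_lfp _ (lfp_t i)⟩ (isAlgSpace i)

theorem repWith_π : RepWith K609.Sep.Fppf (π i) := by
  have hr : Representable (π i) := (isAlgSpace i).representable_from_yon _
  obtain ⟨h1, h2, h3⟩ := props i
  have h4 := (K609.Points.repWith_surjective_iff hr).2 h1
  have h5 := K597.repWith_of_locP K597.etLoc_flat (isAlgSpace i).hasAtlas hr h2
  have h6 := K597.repWith_of_locP K597.etLoc_lfp (isAlgSpace i).hasAtlas hr h3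
  exact ⟨hr, fun _ _ g a b sq => ⟨⟨h4.2 g a b sq, h5.2 g a b sq⟩, h6.2 g a b sq⟩⟩

theorem isSeparatedSp : IsSeparatedSp (cs i) := by
  have := K596.ImmDesc.closed_descends.{u}
  refine K609.Sep.repWith_diag_of_chart @IsClosedImmersion (isAlgSpace i).diag (repWith_π i) (isPullback i) ?_
  have h1 := isClosedImmersion_rel i
  rw [Over.lift_left] at h1
  exact h1

theorem locP_lft [LocallyOfFiniteType G.hom] :
    LocP @LocallyOfFiniteType ((K625.Prod.isTerminalBase S).from (cs i)) := by
  have h0 := repWith_π i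
  have h1 : Sheaf.IsLocallySurjective (π i) := K610.Site.isLocallySurjective_of_repWith
    ⟨h0.1, fun _ _ g a b sq => ⟨⟨(h0.2 g a b sq).1.2, (h0.2 g a b sq).2⟩, (h0.2 g a b sq).1.1⟩⟩
  have h2 := (Groth.Agent.S10557.result (X := ⟨_, IsAlgSpace.yon_obj G⟩) (Y := ⟨_, isAlgSpace i⟩)
    (Z := ⟨_, IsAlgSpace.yon_obj (Over.mk (𝟙 S))⟩) ⟨π i⟩ ⟨(K625.Prod.isTerminalBase S).from (cs i)⟩ h1).2.1
  refine h2 ?_
  have h3 : π i ≫ (K625.Prod.isTerminalBase S).from (cs i) = (yon S).map (K625.Prod.toBase G) :=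
    (K625.Prod.isTerminalBase S).hom_ext _ _
  change LocP @LocallyOfFiniteType (π i ≫ (K625.Prod.isTerminalBase S).from (cs i))
  rw [h3]
  exact locP_yon K597.etLoc_lft _ ‹LocallyOfFiniteType G.hom›

end

/-! ### The action -/

variable (S) in
/-- Schemes over `S` as sheaves over the final sheaf. -/
noncomputable def P : Over S ⥤ Over ((yon S).obj (Over.mk (𝟙 S))) :=
  yon S ⋙ (Over.equivalenceOfIsTerminal (K625.Prod.isTerminalBase S)).inverse

theorem P_obj_left (T : Over S) : ((P S).obj T).left = (yon S).obj T := rfl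

noncomputable instance : PreservesFiniteProducts (yon S) := ⟨fun _ => inferInstance⟩

noncomputable instance : PreservesFiniteProducts (P S) := by
  unfold P
  infer_instance

noncomputable instance : (P S).Monoidal := Functor.Monoidal.ofChosenFiniteProducts _

noncomputable instance instGrp : GrpObj ((P S).obj G) := Functor.grpObjObj

instance : (P S).Full := by unfold P; infer_instance

instance : (P S).Faithful := by unfold P; infer_instance

/-- The coset space over the final sheaf. -/
noncomputable abbrev M : Over ((yon S).obj (Over.mk (𝟙 S))) := Over.mk ((K625.Prod.isTerminalBase S).from (cs i))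

/-- The projection. -/
noncomputable abbrev πo : (P S).obj G ⟶ M i := Over.homMk (π i) ((K625.Prod.isTerminalBase S).hom_ext _ _)

instance : Epi (πo i).left := inferInstanceAs (Epi (π i))

theorem exists_act [IsClosedImmersion i.left] : ∃ b : GAction ((P S).obj G) (M i),
    ((P S).obj G ◁ πo i) ≫ b.act = (K622.AnDefs.selfAct ((P S).obj G)).act ≫ πo i := by
  refine K632.HomSp.exists_quotAct _ (πo i) fun T β g x y hxy => ?_
  obtain rfl : β = (K625.Prod.isTerminalBase S).from ((yon S).obj T) := (K625.Prod.isTerminalBase S).hom_ext _ _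
  obtain ⟨g, rfl⟩ := (P S).map_surjective (X := T) (Y := G) g
  obtain ⟨x, rfl⟩ := (P S).map_surjective (X := T) (Y := G) x
  obtain ⟨y, rfl⟩ := (P S).map_surjective (X := T) (Y := G) y
  have h1 : (yon S).map x ≫ π i = (yon S).map y ≫ π i := congrArg (·.left) hxy
  obtain ⟨r, hr, hr'⟩ := (isPullback i).exists_lift _ _ h1
  obtain ⟨r, rfl⟩ := (yon S).map_surjective r
  rw [← Functor.map_comp] at hr hr'
  have hr := (yon S).map_injective hr
  have hr' := (yon S).map_injective hr'
  rw [comp_t, hr'] at hr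
  have h2 : ∀ z : T ⟶ G, lift ((P S).map g) ((P S).map z) ≫ (K622.AnDefs.selfAct ((P S).obj G)).act =
      (P S).map (g * z) := fun z => by
    rw [Functor.map_mul]
    rfl
  change (lift ((P S).map g) ((P S).map x) ≫ (K622.AnDefs.selfAct ((P S).obj G)).act) ≫ πo i =
    (lift ((P S).map g) ((P S).map y) ≫ (K622.AnDefs.selfAct ((P S).obj G)).act) ≫ πo i
  rw [h2, h2]
  apply Over.OverMorphism.ext
  change (yon S).map (g * x) ≫ π i = (yon S).map (g * y) ≫ π i
  have h3 : g * x = lift (g * y) (r ≫ snd G H) ≫ (G ◁ i) ≫ μ[G] := by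
    rw [comp_t, lift_fst, lift_snd, ← hr, _root_.mul_assoc]
  have h4 : g * y = lift (g * y) (r ≫ snd G H) ≫ fst G H := (lift_fst _ _).symm
  rw [h3]
  conv_rhs => rw [h4]
  rw [(yon S).map_comp _ ((G ◁ i) ≫ μ[G]), (yon S).map_comp _ (fst G H), Category.assoc, Category.assoc,
    (isPullback i).w]

end K632.Coset
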