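import Groth.Agent.AlgSp.K632.Chart
import Groth.Agent.AlgSp.K597.LocP

set_option autoImplicit false
universe u
open CategoryTheory CategoryTheory.Limits AlgebraicGeometry Opposite

namespace K632.Deform

open AlgSp K632.Basic K632.Chart

variable {S : Scheme.{u}}

section general

variable {C : Type*} [Category C]

/-- The square `X ⟶ X'` over `Y ⟶ Y'` is cartesian when both `X`, `Y` are base changes to `B` of `X'`, `Y'`. -/
theorem isPullback_of_deform {X X' Y Y' B B' : C} {iX : X ⟶ X'} {iY : Y ⟶ Y'} {iB : B ⟶ B'}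
    {f : X ⟶ Y} {f' : X' ⟶ Y'} {g : Y ⟶ B} {g' : Y' ⟶ B'}
    (hcX : IsPullback iX (f ≫ g) (f' ≫ g') iB) (hcY : IsPullback iY g g' iB) (w : iX ≫ f' = f ≫ iY) :
    IsPullback iX f f' iY :=
  (IsPullback.of_right hcX.flip w.symm hcY.flip).flip

end general

/-- Chart form of a deformation problem: an étale surjective chart diagram `U' ⟶ V' ⟶ W'` of
`X' ⟶ Y' ⟶ B'` and its pullback to `X ⟶ Y ⟶ B`. -/
theorem exists_deform_chart {X X' Y Y' B B' : Sp S} {iX : X ⟶ X'} {iY : Y ⟶ Y'} {iB : B ⟶ B'}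
    {f : X ⟶ Y} {f' : X' ⟶ Y'} {g : Y ⟶ B} {g' : Y' ⟶ B'}
    (hcX : IsPullback iX (f ≫ g) (f' ≫ g') iB) (hcY : IsPullback iY g g' iB) (w : iX ≫ f' = f ≫ iY)
    (hB : Representable iB)
    {U' V' W' : Over S} {a' : (yon S).obj U' ⟶ X'} {b' : (yon S).obj V' ⟶ Y'} {c' : (yon S).obj W' ⟶ B'}
    {h' : U' ⟶ V'} {k' : V' ⟶ W'} (wa : a' ≫ f' = (yon S).map h' ≫ b')
    (wb : b' ≫ g' = (yon S).map k' ≫ c') :
    ∃ (U V W : Over S) (iU : U ⟶ U') (iV : V ⟶ V') (iW : W ⟶ W') (a : (yon S).obj U ⟶ X)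
      (b : (yon S).obj V ⟶ Y) (c : (yon S).obj W ⟶ B) (h : U ⟶ V) (k : V ⟶ W),
      IsPullback a ((yon S).map iU) iX a' ∧ IsPullback b ((yon S).map iV) iY b' ∧
      IsPullback c ((yon S).map iW) iB c' ∧
      a ≫ f = (yon S).map h ≫ b ∧ b ≫ g = (yon S).map k ≫ c ∧
      IsPullback iU.left (h.left ≫ k.left) (h'.left ≫ k'.left) iW.left ∧
      IsPullback iV.left k.left k'.left iW.left ∧ iU.left ≫ h'.left = h.left ≫ iV.left := by
  have hc := isPullback_of_deform hcX hcY w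
  have hY : Representable iY := MorphismProperty.of_isPullback (P := Representable) hcY.flip hB
  have hX : Representable iX := MorphismProperty.of_isPullback (P := Representable) hc.flip hY
  obtain ⟨W, iW, c, hW⟩ := hB c'
  obtain ⟨V, iV, b, hV⟩ := hY b'
  obtain ⟨U, iU, a, hU⟩ := hX a'
  obtain ⟨h, h1, h2, h3⟩ := exists_chart_hom hc wa hU hV
  obtain ⟨k, k1, k2, k3⟩ := exists_chart_hom hcY wb hV hW
  exact ⟨U, V, W, iU, iV, iW, a, b, c, h, k, hU, hV, hW, h1, k1, h3.paste_vert k3, k3, h3.w⟩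

/-- Transfer of `LocP` in a deformation problem. -/
theorem locP_of_deform {P Q R T : MorphismProperty Scheme.{u}} (hP : K597.EtLoc P)
    (H : ∀ ⦃X X' Y Y' S S' : Scheme.{u}⦄ (iX : X ⟶ X') (iY : Y ⟶ Y') (iS : S ⟶ S')
      (f : X ⟶ Y) (f' : X' ⟶ Y') (g : Y ⟶ S) (g' : Y' ⟶ S'), T iS →
      IsPullback iX (f ≫ g) (f' ≫ g') iS → IsPullback iY g g' iS → iX ≫ f' = f ≫ iY →
      Q (f' ≫ g') → R g' → P f → P f')
    {X X' Y Y' B B' : Sp S} {iX : X ⟶ X'} {iY : Y ⟶ Y'} {iB : B ⟶ B'}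
    {f : X ⟶ Y} {f' : X' ⟶ Y'} {g : Y ⟶ B} {g' : Y' ⟶ B'}
    (hcX : IsPullback iX (f ≫ g) (f' ≫ g') iB) (hcY : IsPullback iY g g' iB) (w : iX ≫ f' = f ≫ iY)
    (hX' : K597.HasAtlas X') (hY' : K597.HasAtlas Y') (hB' : K597.HasAtlas B')
    (hB : RepWith T iB) (hQ : LocP Q (f' ≫ g')) (hR : LocP R g') (hf : LocP P f) : LocP P f' := by
  obtain ⟨U₀, a₀, ha₀, has₀⟩ := hX'
  obtain ⟨V₀, b₀, hb₀, hbs₀⟩ := hY'
  obtain ⟨W', c', hc', hcs'⟩ := hB'
  obtain ⟨V', b', k', hb', hbs', hk'⟩ := K597.exists_chart_over g' b₀ hb₀ hbs₀ c' hc' hcs'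
  obtain ⟨U', a', h', ha', has', hh'⟩ := K597.exists_chart_over f' a₀ ha₀ has₀ b' hb' hbs'
  refine K597.locP_of_chart hP f' a' b' h' ha' has' hb' hh' ?_
  obtain ⟨U, V, W, iU, iV, iW, a, b, c, h, k, hU, hV, hW, wa, wb, s1, s2, s3⟩ :=
    exists_deform_chart hcX hcY w hB.1 hh' hk'
  refine H iU.left iV.left iW.left h.left h'.left k.left k'.left (hB.2 _ _ _ hW) s1 s2 s3 ?_
    (hR b' c' k' hb' hc' hk') (hf a b h (repWith_of_isPullback hU.flip ha')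
      (repWith_of_isPullback hV.flip hb') wa)
  rw [← Over.comp_left]
  refine hQ a' c' (h' ≫ k') ha' hc' ?_
  rw [← Category.assoc, hh', Category.assoc, hk', Functor.map_comp, Category.assoc]

end K632.Deform
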