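import Groth.Agent.AlgSp.K632.DeformIso
import Groth.Agent.AlgSp.K632.Deform
import Groth.Agent.AlgSp.K597.EtLoc

/-!
# Monomorphisms in deformation problems, through the diagonal
-/

set_option autoImplicit false
universe u
open CategoryTheory CategoryTheory.Limits AlgebraicGeometry Opposite

namespace K632.DeformMono

open AlgSp K632.Basic K632.Deform

section general

variable {C : Type*} [Category C] [HasPullbacks C]

set_option backward.isDefEq.respectTransparency false in
theorem isPullback_diag_deform {X X' Y Y' B B' : C} {iX : X ⟶ X'} {iY : Y ⟶ Y'} {iB : B ⟶ B'}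
    {f : X ⟶ Y} {f' : X' ⟶ Y'} {g : Y ⟶ B} {g' : Y' ⟶ B'}
    (hcX : IsPullback iX (f ≫ g) (f' ≫ g') iB) (hcY : IsPullback iY g g' iB) (w : iX ≫ f' = f ≫ iY) :
    IsPullback (pullback.map f f f' f' iX iX iY w.symm w.symm) (pullback.fst f f) (pullback.fst f' f') iX := by
  have sq := isPullback_of_deform hcX hcY w
  have h1 := (IsPullback.of_hasPullback f f).flip.paste_horiz sq
  refine IsPullback.of_right (h₁₂ := pullback.snd f' f') (h₂₂ := f') (v₁₃ := f') ?_ ?_
    (IsPullback.of_hasPullback f' f').flip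
  · have e : pullback.map f f f' f' iX iX iY w.symm w.symm ≫ pullback.snd f' f' = pullback.snd f f ≫ iX := by
      simp [pullback.map]
    rw [e, w]
    exact h1
  · simp [pullback.map]

set_option backward.isDefEq.respectTransparency false in
theorem diag_comm {X X' Y Y' : C} {i : X ⟶ X'} {j : Y ⟶ Y'} {f : X ⟶ Y} {f' : X' ⟶ Y'}
    (w : i ≫ f' = f ≫ j) :
    i ≫ pullback.diagonal f' = pullback.diagonal f ≫ pullback.map f f f' f' i i j w.symm w.symm := by
  apply pullback.hom_ext <;> simp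

end general

variable {S : Scheme.{u}}

theorem exists_diag {X X' Y Y' B B' : AlgSp.Space S} (iX : X ⟶ X') (iY : Y ⟶ Y') (iB : B ⟶ B')
    (f : X ⟶ Y) (f' : X' ⟶ Y') (g : Y ⟶ B) (g' : Y' ⟶ B')
    (hcX : IsPullback iX.hom (f ≫ g).hom (f' ≫ g').hom iB.hom)
    (hcY : IsPullback iY.hom g.hom g'.hom iB.hom) (w : iX ≫ f' = f ≫ iY) :
    ∃ (P P' : Space S) (iP : P ⟶ P') (δ : X ⟶ P) (δ' : X' ⟶ P') (p : P ⟶ B) (p' : P' ⟶ B'),
      IsPullback iX.hom (δ ≫ p).hom (δ' ≫ p').hom iB.hom ∧ IsPullback iP.hom p.hom p'.hom iB.hom ∧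
      iX ≫ δ' = δ ≫ iP ∧ δ' ≫ p' = f' ≫ g' ∧ (Mono f.hom ↔ IsIso δ.hom) ∧ (Mono f'.hom ↔ IsIso δ'.hom) ∧
      (LocP @LocallyOfFiniteType f'.hom → LocP @LocallyOfFiniteType (f' ≫ g').hom →
        LocP @LocallyOfFiniteType p'.hom) := by
  have w' : iX.hom ≫ f'.hom = f.hom ≫ iY.hom := congrArg (·.hom) w
  let P : Space S := ⟨pullback f.hom f.hom,
    K613.Chart.isAlgSpace_pullback X.property X.property Y.property _ _⟩
  let P' : Space S := ⟨pullback f'.hom f'.hom,
    K613.Chart.isAlgSpace_pullback X'.property X'.property Y'.property _ _⟩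
  have hPX : IsPullback (pullback.map f.hom f.hom f'.hom f'.hom iX.hom iX.hom iY.hom w'.symm w'.symm)
    (pullback.fst f.hom f.hom) (pullback.fst f'.hom f'.hom) iX.hom := isPullback_diag_deform hcX hcY w'
  refine ⟨P, P', ⟨pullback.map f.hom f.hom f'.hom f'.hom iX.hom iX.hom iY.hom w'.symm w'.symm⟩,
    ⟨pullback.diagonal f.hom⟩, ⟨pullback.diagonal f'.hom⟩, ⟨pullback.fst f.hom f.hom ≫ (f ≫ g).hom⟩,
    ⟨pullback.fst f'.hom f'.hom ≫ (f' ≫ g').hom⟩, ?_, hPX.paste_vert hcX, ?_, ?_, ?_, ?_, ?_⟩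
  · change IsPullback iX.hom (pullback.diagonal f.hom ≫ pullback.fst f.hom f.hom ≫ (f ≫ g).hom)
      (pullback.diagonal f'.hom ≫ pullback.fst f'.hom f'.hom ≫ (f' ≫ g').hom) iB.hom
    rw [pullback.diagonal_fst_assoc, pullback.diagonal_fst_assoc]
    exact hcX
  · apply ObjectProperty.hom_ext
    exact diag_comm w'
  · apply ObjectProperty.hom_ext
    change pullback.diagonal f'.hom ≫ pullback.fst f'.hom f'.hom ≫ (f' ≫ g').hom = (f' ≫ g').hom
    rw [pullback.diagonal_fst_assoc]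
  · exact (pullback.isIso_diagonal_iff _).symm
  · exact (pullback.isIso_diagonal_iff _).symm
  · intro h1 h2
    have hP : K597.HasAtlas P'.obj := P'.property.hasAtlas
    exact K597.locP_comp K597.etLoc_lft hP X'.property.hasAtlas B'.property.hasAtlas (K597.locP_bc K597.etLoc_lft (IsPullback.of_hasPullback f'.hom f'.hom).flip
      X'.property.hasAtlas Y'.property.hasAtlas X'.property.hasAtlas h1) h2

end K632.DeformMono
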