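import Groth.Agent.VarietyB.SemilocalDedekind
import Groth.Agent.Ega2.KrullAkizuki
import Mathlib.RingTheory.QuasiFinite.Basic
import Mathlib.AlgebraicGeometry.Morphisms.QuasiFinite
import Mathlib.AlgebraicGeometry.Morphisms.Integral
import Mathlib.AlgebraicGeometry.Limits

/-!
# Semi-local Noetherian rings of dimension at most one and their normalizations
-/

set_option autoImplicit false
universe u
open CategoryTheory CategoryTheory.Limits AlgebraicGeometry

namespace K632.DimOneAlg

section QF

/-- A criterion for the fibre of an algebra over a field-valued point to be finite. -/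
theorem finite_tensor {B C k : Type*} [CommRing B] [CommRing C] [Algebra B C] [Field k] [Algebra B k] (s : Finset C)
    (h : ∀ c : C, ∃ t : B, algebraMap B k t ≠ 0 ∧ ∃ a : B, algebraMap B k a = 0 ∧ ∃ d : C,
      t • c - a • d ∈ Submodule.span B (s : Set C)) : Module.Finite k (TensorProduct B k C) := by
  classical
  refine ⟨⟨s.image fun c => (1 : k) ⊗ₜ[B] c, ?_⟩⟩
  rw [eq_top_iff]
  rintro x -
  have key : ∀ y ∈ Submodule.span B (s : Set C), (1 : k) ⊗ₜ[B] y ∈
      Submodule.span k (((s.image fun c => (1 : k) ⊗ₜ[B] c : Finset _)) : Set (TensorProduct B k C)) := by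
    intro y hy
    induction hy using Submodule.span_induction with
    | mem y hy => exact Submodule.subset_span (by rw [Finset.coe_image]; exact ⟨y, hy, rfl⟩)
    | zero => rw [TensorProduct.tmul_zero]; exact Submodule.zero_mem _
    | add y z _ _ hy hz => rw [TensorProduct.tmul_add]; exact Submodule.add_mem _ hy hz
    | smul b y _ hy =>
      have : (1 : k) ⊗ₜ[B] (b • y) = (algebraMap B k b) • ((1 : k) ⊗ₜ[B] y) := by
        rw [TensorProduct.tmul_smul, TensorProduct.smul_tmul', TensorProduct.smul_tmul', Algebra.smul_def, smul_eq_mul]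
      rw [this]
      exact Submodule.smul_mem _ _ hy
  induction x using TensorProduct.induction_on with
  | zero => exact Submodule.zero_mem _
  | add x y hx hy => exact Submodule.add_mem _ hx hy
  | tmul z c =>
    obtain ⟨t, ht, a, ha, d, hd⟩ := h c
    have h1 := key _ hd
    have h2 : (1 : k) ⊗ₜ[B] (t • c - a • d) = algebraMap B k t • ((1 : k) ⊗ₜ[B] c) := by
      rw [TensorProduct.tmul_sub, TensorProduct.tmul_smul, TensorProduct.tmul_smul, TensorProduct.smul_tmul',
        TensorProduct.smul_tmul', TensorProduct.smul_tmul', Algebra.smul_def, Algebra.smul_def, ha, zero_mul,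
        TensorProduct.zero_tmul, sub_zero, smul_eq_mul]
    have h3 : z ⊗ₜ[B] c = (z * (algebraMap B k t)⁻¹) • ((1 : k) ⊗ₜ[B] (t • c - a • d)) := by
      rw [h2, smul_smul, mul_assoc, inv_mul_cancel₀ ht, mul_one, TensorProduct.smul_tmul', smul_eq_mul, mul_one]
    rw [h3]
    exact Submodule.smul_mem _ _ h1

/-- The normalization of a one-dimensional Noetherian domain is quasi-finite. -/
theorem quasiFinite (B : Type u) [CommRing B] [IsDomain B] [IsNoetherianRing B] [Ring.KrullDimLE 1 B] :
    Algebra.QuasiFinite B (integralClosure B (FractionRing B)) := by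
  classical
  refine ⟨fun P _ => ?_⟩
  by_cases hP : P = ⊥
  · -- generic fibre
    refine finite_tensor {1} fun c => ?_
    obtain ⟨⟨x, b⟩, hb⟩ := IsLocalization.surj (nonZeroDivisors B) (c : FractionRing B)
    refine ⟨b, ?_, 0, map_zero _, 0, ?_⟩
    · rw [Ne, Ideal.algebraMap_residueField_eq_zero, hP, Ideal.mem_bot]
      exact nonZeroDivisors.ne_zero b.2
    · rw [smul_zero, sub_zero]
      have : (b : B) • c = x • (1 : integralClosure B (FractionRing B)) := by
        apply Subtype.ext
        change (b : B) • (c : FractionRing B) = x • (1 : FractionRing B)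
        rw [Algebra.smul_def, Algebra.smul_def, mul_one, mul_comm]
        exact hb
      rw [this]
      exact Submodule.smul_mem _ _ (Submodule.subset_span (by simp))
  · obtain ⟨a, haP, ha⟩ := Submodule.exists_mem_ne_zero_of_ne_bot hP
    have hfl : IsFiniteLength B (integralClosure B (FractionRing B) ⧸ Ideal.span {algebraMap B
        (integralClosure B (FractionRing B)) a}) :=
      Groth.Agent.Ega2.KrullAkizuki.isFiniteLength_quotient (R := B) (K := FractionRing B) (L := FractionRing B)
        (A := integralClosure B (FractionRing B)) Subtype.val_injective a ha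
    have hN := (isFiniteLength_iff_isNoetherian_isArtinian.1 hfl).1
    obtain ⟨s, hs⟩ := hN.noetherian ⊤
    choose f hf using fun m : (integralClosure B (FractionRing B) ⧸ Ideal.span {algebraMap B
        (integralClosure B (FractionRing B)) a}) => Ideal.Quotient.mk_surjective m
    refine finite_tensor (s.image f) fun c => ?_
    refine ⟨1, by simp, a, (Ideal.algebraMap_residueField_eq_zero).2 haP, ?_⟩
    have h1 : (Ideal.Quotient.mk (Ideal.span {algebraMap B (integralClosure B (FractionRing B)) a}) c) ∈
        Submodule.span B (s : Set _) := by rw [hs]; trivial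
    -- lift the linear combination
    have h2 : ∀ m ∈ Submodule.span B (s : Set (integralClosure B (FractionRing B) ⧸ Ideal.span {algebraMap B
        (integralClosure B (FractionRing B)) a})), ∃ e ∈ Submodule.span B ((s.image f : Finset _) : Set
          (integralClosure B (FractionRing B))), Ideal.Quotient.mk _ e = m := by
      intro m hm
      induction hm using Submodule.span_induction with
      | mem m hm => exact ⟨f m, Submodule.subset_span (by rw [Finset.coe_image]; exact ⟨m, hm, rfl⟩), hf m⟩
      | zero => exact ⟨0, Submodule.zero_mem _, map_zero _⟩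
      | add x y _ _ hx hy =>
        obtain ⟨e, he, he'⟩ := hx
        obtain ⟨e₂, he₂, he₂'⟩ := hy
        exact ⟨e + e₂, Submodule.add_mem _ he he₂, by rw [map_add, he', he₂']⟩
      | smul b x _ hx =>
        obtain ⟨e, he, he'⟩ := hx
        refine ⟨b • e, Submodule.smul_mem _ _ he, ?_⟩
        rw [← he']
        rfl
    obtain ⟨e, he, he'⟩ := h2 _ h1
    have h3 : c - e ∈ Ideal.span {algebraMap B (integralClosure B (FractionRing B)) a} := by
      rw [← Ideal.Quotient.eq, he']
    obtain ⟨d, hd⟩ := Ideal.mem_span_singleton'.1 h3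
    refine ⟨d, ?_⟩
    rw [one_smul, Algebra.smul_def, mul_comm, hd, sub_sub_cancel]
    exact he

end QF

/-- Quotients of one-dimensional rings by prime ideals. -/
theorem krullDimLE_quotient {O : Type u} [CommRing O] [Ring.KrullDimLE 1 O] (p : Ideal O) [hp : p.IsPrime] :
    Ring.KrullDimLE 1 (O ⧸ p) := by
  refine Ring.KrullDimLE.mk₁' fun I hI hI' => ?_
  have hpI : p ≤ I.comap (Ideal.Quotient.mk p) := fun x hx => by
    rw [Ideal.mem_comap, Ideal.Quotient.eq_zero_iff_mem.2 hx]
    exact I.zero_mem
  rcases Ring.krullDimLE_one_iff.1 ‹_› (I.comap (Ideal.Quotient.mk p)) (Ideal.comap_isPrime _ _) with h | h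
  · have h1 : I.comap (Ideal.Quotient.mk p) = p := le_antisymm (h.2 ⟨hp, bot_le⟩ hpI) hpI
    exact absurd (Ideal.comap_injective_of_surjective _ Ideal.Quotient.mk_surjective
      (h1.trans (by rw [← RingHom.ker_eq_comap_bot, Ideal.mk_ker]))) hI
  · have h1 := Ideal.map_eq_top_or_isMaximal_of_surjective (Ideal.Quotient.mk p) Ideal.Quotient.mk_surjective h
    rw [Ideal.map_comap_of_surjective _ Ideal.Quotient.mk_surjective] at h1
    exact h1.resolve_left hI'.ne_top

/-- A quotient of a ring with finitely many maximal ideals. -/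
theorem finite_maximalSpectrum_quotient {O : Type u} [CommRing O] [Finite (MaximalSpectrum O)] (p : Ideal O) :
    Finite (MaximalSpectrum (O ⧸ p)) := by
  refine Finite.of_injective (β := MaximalSpectrum O)
    (fun m => ⟨m.asIdeal.comap (Ideal.Quotient.mk p), ?_⟩) ?_
  · have := m.isMaximal
    exact Ideal.comap_isMaximal_of_surjective _ Ideal.Quotient.mk_surjective
  · intro m m' h
    exact MaximalSpectrum.ext (Ideal.comap_injective_of_surjective _ Ideal.Quotient.mk_surjective
      (congrArg MaximalSpectrum.asIdeal h))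

theorem component (O : Type u) [CommRing O] [IsNoetherianRing O] [Ring.KrullDimLE 1 O] [Finite (MaximalSpectrum O)]
    (p : Ideal O) [p.IsPrime] : ∃ (C : Type u) (_ : CommRing C) (_ : IsDedekindDomain C)
      (_ : Finite (MaximalSpectrum C)) (φ : O →+* C), φ.IsIntegral ∧ φ.QuasiFinite ∧ RingHom.ker φ = p := by
  have := krullDimLE_quotient p
  let B := O ⧸ p
  let C := integralClosure B (FractionRing B)
  have hinj : Function.Injective (algebraMap B C) := by
    have h1 : Function.Injective (algebraMap C (FractionRing B) ∘ algebraMap B C) := by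
      rw [← RingHom.coe_comp, ← IsScalarTower.algebraMap_eq]
      exact IsFractionRing.injective B (FractionRing B)
    exact h1.of_comp
  have hD : IsDedekindDomain C :=
    Groth.Agent.VarietyB.SemilocalDedekind.isDedekindDomain_of_isIntegralClosure B (FractionRing B) (FractionRing B) C
  have hint : Algebra.IsIntegral B C := inferInstance
  have hfin : Finite (MaximalSpectrum C) := by
    by_cases hf : IsField B
    · have hC : IsField C := isField_of_isIntegral_of_isField' hf
      let _ := hC.toField
      refine Finite.of_injective (β := Unit) (fun _ => ()) fun m m' _ => MaximalSpectrum.ext ?_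
      have h1 := fun I : MaximalSpectrum C => (Ideal.eq_bot_or_top I.asIdeal).resolve_right I.isMaximal.ne_top
      rw [h1 m, h1 m']
    · exact Groth.Agent.VarietyB.SemilocalDedekind.finite_maximalSpectrum B (finite_maximalSpectrum_quotient p) hf C hinj
  refine ⟨C, inferInstance, hD, hfin, (algebraMap B C).comp (Ideal.Quotient.mk p), ?_, ?_, ?_⟩
  · exact RingHom.IsIntegral.trans _ _ (RingHom.isIntegral_of_surjective _ Ideal.Quotient.mk_surjective)
      (algebraMap_isIntegral_iff.2 hint)
  · refine RingHom.QuasiFinite.comp ?_ (RingHom.QuasiFinite.of_finite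
      (RingHom.Finite.of_surjective _ Ideal.Quotient.mk_surjective))
    rw [RingHom.quasiFinite_algebraMap]
    exact quasiFinite B
  · rw [← RingHom.comap_ker, (RingHom.injective_iff_ker_eq_bot _).1 hinj, ← RingHom.ker_eq_comap_bot, Ideal.mk_ker]

/-- The normalization of a semi-local Noetherian ring of dimension at most one. -/
theorem exists_cover (O : Type u) [CommRing O] [IsNoetherianRing O] [Ring.KrullDimLE 1 O]
    [Finite (MaximalSpectrum O)] : ∃ (ι : Type u) (_ : Finite ι) (C : ι → Type u) (_ : ∀ i, CommRing (C i))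
      (_ : ∀ i, IsDedekindDomain (C i)) (_ : ∀ i, Finite (MaximalSpectrum (C i))) (φ : O →+* (∀ i, C i)),
      IsIntegralHom (Spec.map (CommRingCat.ofHom φ)) ∧ Surjective (Spec.map (CommRingCat.ofHom φ)) ∧
        LocallyQuasiFinite (Spec.map (CommRingCat.ofHom φ)) := by
  have hc : ∀ p : {p : Ideal O // p ∈ minimalPrimes O}, ∃ (C : Type u) (_ : CommRing C) (_ : IsDedekindDomain C)
      (_ : Finite (MaximalSpectrum C)) (φ : O →+* C), φ.IsIntegral ∧ φ.QuasiFinite ∧ RingHom.ker φ = p.1 := fun p => by
    have : p.1.IsPrime := p.2.1.1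
    exact component O p.1
  choose C h1 h2 h3 φ h4 h5 h6 using hc
  have hfin : Finite {p : Ideal O // p ∈ minimalPrimes O} := (minimalPrimes.finite_of_isNoetherianRing O).to_subtype
  have hint : (RingHom.pi φ).IsIntegral := by
    intro c
    have := Fintype.ofFinite {p : Ideal O // p ∈ minimalPrimes O}
    choose f hf hf' using fun i => h4 i (c i)
    refine ⟨∏ i, f i, Polynomial.monic_prod_of_monic _ _ fun i _ => hf i, ?_⟩
    funext j
    have h7 : Pi.evalRingHom C j (Polynomial.eval₂ (RingHom.pi φ) c (∏ i, f i)) =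
        Polynomial.eval₂ (φ j) (c j) (∏ i, f i) := by
      rw [Polynomial.hom_eval₂]
      rfl
    change Pi.evalRingHom C j (Polynomial.eval₂ (RingHom.pi φ) c (∏ i, f i)) = 0
    rw [h7, Polynomial.eval₂_finsetProd]
    exact Finset.prod_eq_zero (Finset.mem_univ j) (hf' j)
  refine ⟨_, hfin, C, h1, h2, h3, RingHom.pi φ, ?_, ?_, ?_⟩
  · exact IsIntegralHom.SpecMap_iff.2 hint
  · refine ⟨fun x => ?_⟩
    obtain ⟨p, hp, hpx⟩ := Ideal.exists_minimalPrimes_le (I := (⊥ : Ideal O)) (J := x.asIdeal) bot_le
    let i : {p : Ideal O // p ∈ minimalPrimes O} := ⟨p, hp⟩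
    have hx : RingHom.ker (φ i) ≤ x.asIdeal := by rw [h6 i]; exact hpx
    let _ := (φ i).toAlgebra
    have hint' : Algebra.IsIntegral O (C i) := ⟨h4 i⟩
    obtain ⟨Q, hQ, hQ'⟩ := Ideal.exists_ideal_over_prime_of_isIntegral (S := C i) x.asIdeal ⊥ (by
      change (⊥ : Ideal (C i)).comap (φ i) ≤ _
      rw [← RingHom.ker_eq_comap_bot]
      exact hx)
    refine ⟨(Spec.map (CommRingCat.ofHom (Pi.evalRingHom C i))) (⟨Q, hQ'.1⟩ : PrimeSpectrum (C i)), ?_⟩
    apply PrimeSpectrum.ext
    exact hQ'.2
  · rw [← MorphismProperty.cancel_left_of_respectsIso @LocallyQuasiFinite (sigmaSpec fun i => CommRingCat.of (C i))]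
    have h7 : sigmaSpec (fun i => CommRingCat.of (C i)) ≫ Spec.map (CommRingCat.ofHom (RingHom.pi φ)) =
        Sigma.desc fun i => Spec.map (CommRingCat.ofHom (φ i)) := by
      refine Sigma.hom_ext _ _ fun i => ?_
      rw [ι_sigmaSpec_assoc, Sigma.ι_desc, ← Spec.map_comp]
      rfl
    rw [h7]
    refine IsZariskiLocalAtSource.sigmaDesc fun i => ?_
    rw [HasRingHomProperty.Spec_iff (P := @LocallyQuasiFinite)]
    exact h5 i

end K632.DimOneAlg
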