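import Groth.Agent.AlgSp.K632.SemiLocSys
import Groth.Agent.AlgSp.K626.W5Base
import Groth.Agent.AlgSp.K650.QAff
import Groth.Agent.AlgSp.K647.QcIdl
import Groth.Agent.AlgSp.K647.Pts
import Groth.Agent.S10006
import Mathlib.AlgebraicGeometry.Morphisms.Preimmersion

/-!
# Affine neighbourhoods over a localization spread out
-/

set_option autoImplicit false
universe u
open CategoryTheory CategoryTheory.Limits AlgebraicGeometry Topology TopologicalSpace Opposite
open AlgSp

namespace K632.DimOneSpread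

open K632.SemiLocSys

variable {A : CommRingCat.{u}} {S : Scheme.{u}}

instance isPreimmersion_loc (M : Submonoid A) (a : Spec A ⟶ S) [IsOpenImmersion a] : IsPreimmersion (loc M a).hom := by
  have h1 : IsPreimmersion (Spec.map (CommRingCat.ofHom (algebraMap A (Localization M)))) :=
    IsPreimmersion.of_isLocalization M
  exact inferInstanceAs (IsPreimmersion (Spec.map (CommRingCat.ofHom (algebraMap A (Localization M))) ≫ a))

/-- A quasi-compact algebraic space which is affine over the localization is affine over a basic open. -/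
theorem exists_affine [QuasiSeparatedSpace ↥S] {X : Sp S} (hX : IsAlgSpace X) (hqc : IsQuasiCompactSp X)
    (hqs : IsQuasiSeparatedSp X) (M : Submonoid A) (a : Spec A ⟶ S) [IsOpenImmersion a] {T : Over S}
    (hT : IsAffine T.left) (e : (yon S).obj T ≅ X ⨯ (yon S).obj (loc M a)) :
    ∃ (n : Nb M) (T' : Over S), IsAffine T'.left ∧ Nonempty ((yon S).obj T' ≅ X ⨯ (yon S).obj (O a n)) := by
  obtain ⟨hc⟩ := nonempty_isLimit_pcone X M a
  refine Groth.Agent.S10006.result S (psys X M a) (fun n => K626.W5.isAlgSpace_prod hX (O a n)) ?_ ?_ ?_ _ hc T hT e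
  · intro i j φ
    rw [K597.Affine.isAffineMor_iff]
    refine K625.Prod.repWith_map_right @IsAffineHom X ((sys M a).map φ) ?_
    have h1 : IsAffine (O a i).left := isAffine_O a i
    have h2 : IsAffine (O a j).left := isAffine_O a j
    have h3 : ∀ f : (O a i).left ⟶ (O a j).left, IsAffineHom f := fun f => inferInstance
    exact h3 _
  · intro n
    have h1 : IsAffine (O a n).left := isAffine_O a n
    have h2 : QuasiCompact (O a n).hom := inferInstance
    exact K626.W5.isQuasiCompactSp_prod hqc (O a n)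
  · intro n
    have h1 : Mono (prod.fst : X ⨯ (yon S).obj (O a n) ⟶ X) := by
      have h2 : RepWith @IsOpenImmersion (prod.fst : X ⨯ (yon S).obj (O a n) ⟶ X) :=
        K625.Prod.repWith_fst @IsOpenImmersion X (O a n) (inferInstanceAs (IsOpenImmersion (n.U.ι ≫ a)))
      exact K610.Factor.mono_of_isOpenImmersion h2
    have h3 : IsQuasiSeparatedSp (X ⨯ (yon S).obj (O a n)) :=
      K647.QcIdl.isQuasiSeparatedSp_of_mono (prod.fst : X ⨯ (yon S).obj (O a n) ⟶ X) hqs
    exact h3

/-- The preimage of opens under a representable preimmersion. -/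
theorem exists_open_of_preimmersion {X Z : Sp S} (hX : IsAlgSpace X) {c : Z ⟶ X} (hc : RepWith @IsPreimmersion c)
    {R : Set (Points Z)} (hR : IsOpen R) : ∃ W : Set (Points X), IsOpen W ∧ Points.map c ⁻¹' W = R := by
  obtain ⟨V, p, hp, hps⟩ := hX.atlas
  obtain ⟨V', i, q, sq⟩ := hc.1 p
  have hi : IsPreimmersion i.left := hc.2 p q i sq
  have hqs : RepWith @Surjective q := MorphismProperty.of_isPullback sq.flip hps
  obtain ⟨O, hO, hO'⟩ := i.left.isEmbedding.isInducing.isOpen_iff.1 (hR.preimage (Points.continuous_ofPt q))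
  refine ⟨Points.ofPt p '' O, (K609.Points.isOpenMap_ofPt hp) _ hO, ?_⟩
  ext x
  constructor
  · rintro ⟨v, hv, hvx⟩
    obtain ⟨v', rfl, h2⟩ := K647.Pts.exists_point_rep sq x v hvx.symm
    have h1 : v' ∈ i.left ⁻¹' O := by
      rw [Set.mem_preimage, h2]
      exact hv
    rw [hO'] at h1
    exact h1
  · intro hx
    obtain ⟨v', rfl⟩ := K625.Prod.surjective_ofPt hqs x
    have h1 : v' ∈ i.left ⁻¹' O := by rw [hO']; exact hx
    refine ⟨i.left v', h1, ?_⟩
    rw [Points.map_ofPt, sq.w, ← K647.Pts.ofPt_map]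

/-- A compact open of the source of a representable preimmersion is the preimage of a compact open. -/
theorem exists_compact_open {X Z : Sp S} (hX : IsAlgSpace X) {c : Z ⟶ X} (hc : RepWith @IsPreimmersion c)
    {R : Set (Points Z)} (hR : IsOpen R) (hR' : IsCompact R) :
    ∃ W : Set (Points X), IsOpen W ∧ IsCompact W ∧ Points.map c ⁻¹' W = R := by
  obtain ⟨W, hW, rfl⟩ := exists_open_of_preimmersion hX hc hR
  have hn : ∀ x : Points X, ∃ V : Set (Points X), IsOpen V ∧ IsCompact V ∧ V ⊆ W ∧ (x ∈ W → x ∈ V) := fun x => by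
    by_cases hx : x ∈ W
    · obtain ⟨V, h1, h2, h3, h4⟩ := K609.QC.exists_isOpen_isCompact_nhd hX x W hW hx
      exact ⟨V, h1, h2, h4, fun _ => h3⟩
    · exact ⟨∅, isOpen_empty, isCompact_empty, Set.empty_subset _, fun h => absurd h hx⟩
  choose N h1 h2 h3 h4 using hn
  obtain ⟨t, ht⟩ := hR'.elim_finite_subcover (fun x => Points.map c ⁻¹' (N x))
    (fun x => (h1 x).preimage (Points.continuous_map c)) (fun z hz => Set.mem_iUnion.2 ⟨Points.map c z, h4 _ hz⟩)
  refine ⟨⋃ x ∈ t, N x, isOpen_biUnion fun x _ => h1 x, t.isCompact_biUnion fun x _ => h2 x, ?_⟩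
  apply Set.Subset.antisymm
  · intro z hz
    obtain ⟨x, hx, hzx⟩ := Set.mem_iUnion₂.1 hz
    exact h3 x hzx
  · intro z hz
    obtain ⟨x, hx, hzx⟩ := Set.mem_iUnion₂.1 (ht hz)
    exact Set.mem_iUnion₂.2 ⟨x, hx, hzx⟩

/-- **Affine neighbourhoods of finite sets over a localization spread out.** -/
theorem inAffine_of_loc [QuasiSeparatedSpace ↥S] {X : Sp S} (hX : IsAlgSpace X) (hqs : IsQuasiSeparatedSp X)
    (M : Submonoid A) (a : Spec A ⟶ S) [IsOpenImmersion a] {E : Set (Points (X ⨯ (yon S).obj (loc M a)))}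
    (h : K650.Sat.InAffine (X ⨯ (yon S).obj (loc M a)) E) : K650.Sat.InAffine X (Points.map prod.fst '' E) := by
  obtain ⟨U, j, hU, hj, hE⟩ := h
  have hc : RepWith @IsPreimmersion (prod.fst : X ⨯ (yon S).obj (loc M a) ⟶ X) :=
    K625.Prod.repWith_fst @IsPreimmersion X (loc M a) inferInstance
  have hje : RepWith @Etale j := K610.OpenImm.repWith_etale_of_open hj
  have hRo : IsOpen (Set.range (Points.ofPt j)) := (K609.Points.isOpenMap_ofPt hje).isOpen_range
  have hRc : IsCompact (Set.range (Points.ofPt j)) := isCompact_range (Points.continuous_ofPt j)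
  obtain ⟨W, hW, hWc, hWR⟩ := exists_compact_open hX hc hRo hRc
  have hι := K610.Sub.repWith_openPred hW
  have hrange := K610.Sub.range_openPred (X := X) W
  set G := (K610.Sub.openPred (X := X) W).sub with hGdef
  set ι : G ⟶ X := (K610.Sub.openPred (X := X) W).ι with hιdef
  have hm : Mono ι := K610.Factor.mono_of_isOpenImmersion hι
  have hG : IsAlgSpace G := K610.Sub.isAlgSpace_of_mono hι.1 hX
  have hemb := K610.OpenImm.isOpenEmbedding_points hX hι
  have hqcG : IsQuasiCompactSp G := by
    rw [K609.QC.isQuasiCompactSp_iff hG]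
    refine ⟨?_⟩
    rw [hemb.isInducing.isCompact_iff, Set.image_univ, hrange]
    exact hWc
  have hqsG : IsQuasiSeparatedSp G := K647.QcIdl.isQuasiSeparatedSp_of_mono ι hqs
  -- the affine scheme over the localization
  have hj' : RepWith @IsOpenImmersion (prod.map ι (𝟙 ((yon S).obj (loc M a)))) := K626.W5.openImm_map_left hι (loc M a)
  have hr : Set.range (Points.map j) = Set.range (Points.map (prod.map ι (𝟙 ((yon S).obj (loc M a))))) := by
    rw [← K610.SchLocus.range_ofPt, ← hWR]
    ext z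
    constructor
    · intro hz
      have h1 : Points.map prod.fst z ∈ Set.range (Points.map ι) := by rw [hrange]; exact hz
      obtain ⟨x, hx⟩ := h1
      obtain ⟨w, -, hw⟩ := K647.Pts.exists_point (K625.Prod.isPullback_map_left ((yon S).obj (loc M a)) ι) x z hx
      exact ⟨w, hw⟩
    · rintro ⟨w, rfl⟩
      rw [Set.mem_preimage, ← Points.map_comp, prod.map_fst, Points.map_comp, ← hrange]
      exact ⟨_, rfl⟩
  obtain ⟨e, he⟩ := K650.Sat.exists_iso_of_range hj hj' hr
  obtain ⟨n, T', hT', ⟨e'⟩⟩ := exists_affine hG hqcG hqsG M a hU e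
  have h2 : RepWith @IsOpenImmersion (prod.fst : G ⨯ (yon S).obj (O a n) ⟶ G) :=
    K625.Prod.repWith_fst @IsOpenImmersion G (O a n) (inferInstanceAs (IsOpenImmersion (n.U.ι ≫ a)))
  refine ⟨T', e'.hom ≫ prod.fst ≫ ι, hT', MorphismProperty.comp_mem (RepWith @IsOpenImmersion) _ _
    (K610.SchLocus.repWith_iso e') (MorphismProperty.comp_mem (RepWith @IsOpenImmersion) _ _ h2 hι), ?_⟩
  rintro _ ⟨z, hz, rfl⟩
  have h3 : z ∈ Set.range (Points.map (prod.map ι (𝟙 ((yon S).obj (loc M a))))) := by
    rw [← hr, ← K610.SchLocus.range_ofPt]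
    exact hE hz
  obtain ⟨w, rfl⟩ := h3
  rw [K610.SchLocus.range_comp_of_surjective _ _ (K610.SchLocus.surjective_ofPt_iso e')]
  refine ⟨Points.map (prod.map (𝟙 G) ((yon S).map (toO a n))) w, ?_⟩
  rw [← Points.map_comp, ← Points.map_comp, ← Category.assoc, prod.map_fst, Category.comp_id, prod.map_fst]

end K632.DimOneSpread
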