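import Groth.Agent.AlgSp.K632.DimOneAlg
import Groth.Agent.AlgSp.K632.DimOneSpread
import Groth.Agent.AlgSp.K605.ImmMain
import Groth.Agent.AlgSp.K608.GrpSch
import Groth.Agent.S10033

/-!
# Separated spaces over a semi-local Noetherian scheme of dimension one

`FA X`: every finite set of points of `X` is contained in an affine open subspace.
-/

set_option autoImplicit false
universe u
open CategoryTheory CategoryTheory.Limits AlgebraicGeometry Topology TopologicalSpace Opposite
open AlgSp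

namespace K632.DimOne

open K650.Sat

variable {S : Scheme.{u}}

/-- Every finite set of points is contained in an affine open subspace. -/
def FA (X : Sp S) : Prop := ∀ E : Set (Points X), E.Finite → InAffine X E

theorem exists_rep {X : Sp S} (hX : IsAlgSpace X) (h : ∀ x : Points X, InAffine X {x}) :
    ∃ Y : Over S, Nonempty ((yon S).obj Y ≅ X) := by
  have h1 : X.obj.IsRepresentable := (K610.SchLocus.isRepresentable_iff_forall (X := ⟨X, hX⟩)).2 fun x => by
    obtain ⟨W, hW, hx⟩ := (h x).isSch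
    exact ⟨W, hW, hx rfl⟩
  obtain ⟨Y, ⟨r⟩⟩ := h1.has_representation
  exact ⟨Y, ⟨isoOfRepresentableBy r⟩⟩

/-- An open immersion of an affine scheme into a representable space. -/
theorem exists_hom {X : Sp S} {Y T : Over S} (e : (yon S).obj Y ≅ X) (j : (yon S).obj T ⟶ X)
    (hj : RepWith @IsOpenImmersion j) : ∃ φ : T ⟶ Y, (yon S).map φ ≫ e.hom = j ∧ IsOpenImmersion φ.left := by
  refine ⟨(yon S).preimage (j ≫ e.inv), ?_, ?_⟩
  · rw [(yon S).map_preimage, Category.assoc, e.inv_hom_id, Category.comp_id]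
  · rw [← repWith_yon_map_iff @IsOpenImmersion, (yon S).map_preimage]
    exact MorphismProperty.comp_mem (RepWith @IsOpenImmersion) _ _ hj (K610.SchLocus.repWith_iso e.symm)

theorem ofPt_injective {X : Sp S} {Y : Over S} (e : (yon S).obj Y ≅ X) : Function.Injective (Points.ofPt e.hom) := by
  intro a b h
  rw [Points.ofPt_eq_map_ofScheme, Points.ofPt_eq_map_ofScheme] at h
  have h2 := congrArg (Points.map e.inv) h
  rw [← Points.map_comp, ← Points.map_comp, e.hom_inv_id, Points.map_id, Points.map_id] at h2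
  exact K609.Points.ofScheme_injective Y h2

/-- The scheme representing a space in which finite sets of points have affine neighbourhoods. -/
theorem FA.exists_rep {X : Sp S} (hX : IsAlgSpace X) (h : FA X) :
    ∃ (Y : Over S) (_ : (yon S).obj Y ≅ X), ∀ F : Set Y.left, F.Finite → ∃ U : Y.left.Opens,
      IsAffineOpen U ∧ F ⊆ U := by
  obtain ⟨Y, ⟨e⟩⟩ := K632.DimOne.exists_rep hX fun x => h _ (Set.finite_singleton x)
  refine ⟨Y, e, fun F hF => ?_⟩
  obtain ⟨T, j, hT, hj, hFj⟩ := h (Points.ofPt e.hom '' F) (hF.image _)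
  obtain ⟨φ, hφ, hφ'⟩ := exists_hom e j hj
  refine ⟨φ.left.opensRange, isAffineOpen_opensRange φ.left, fun y hy => ?_⟩
  obtain ⟨t, ht⟩ := hFj ⟨y, hy, rfl⟩
  refine ⟨t, ofPt_injective e ?_⟩
  rw [← ht, ← hφ, K647.Pts.ofPt_map]

/-- Finite disjoint unions of the base. -/
theorem fa_sigma {X : Sp S} (hX : IsAlgSpace X) {ι : Type*} [Finite ι] (N : Over S) (C : ι → Over S)
    (c : ∀ i, C i ⟶ N) (hc : ∀ i, IsOpenImmersion (c i).left) (hcov : ∀ n : N.left, ∃ i m, (c i).left m = n)
    (hdisj : ∀ i j m m', (c i).left m = (c j).left m' → i = j) (h : ∀ i, FA (X ⨯ (yon S).obj (C i))) :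
    FA (X ⨯ (yon S).obj N) := by
  intro E hE
  have hb : ∀ i, RepWith @IsOpenImmersion (K626.W5.bcMap X (c i)) := fun i => by
    have := hc i
    exact K626.W5.openImm_bcMap X (c i)
  have hinj : ∀ i, Function.Injective (Points.map (K626.W5.bcMap X (c i))) := fun i =>
    (K610.OpenImm.isOpenEmbedding_points (K626.W5.isAlgSpace_prod hX N) (hb i)).injective
  have hsurj : ∀ x : Points (X ⨯ (yon S).obj N), ∃ i y, Points.map (K626.W5.bcMap X (c i)) y = x := fun x => by
    obtain ⟨n, hn⟩ := K647.Pts.exists_ofPt (Points.map prod.snd x)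
    obtain ⟨i, m, rfl⟩ := hcov n
    obtain ⟨z, -, hz⟩ := K647.Pts.exists_point (K625.Prod.isPullback_map_right X ((yon S).map (c i)))
      (Points.ofScheme (C i) m) x (by rw [← hn, K609.Points.map_yon_map_ofScheme])
    exact ⟨i, z, hz⟩
  have hd : ∀ i j y z, Points.map (K626.W5.bcMap X (c i)) y = Points.map (K626.W5.bcMap X (c j)) z → i = j :=
    fun i j y z hyz => by
      obtain ⟨m, hm⟩ := K647.Pts.exists_ofPt (Points.map prod.snd y)
      obtain ⟨m', hm'⟩ := K647.Pts.exists_ofPt (Points.map prod.snd z)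
      refine hdisj i j m m' (K609.Points.ofScheme_injective N ?_)
      rw [← K609.Points.map_yon_map_ofScheme, ← K609.Points.map_yon_map_ofScheme, hm, hm']
      have h1 := congrArg (Points.map prod.snd) hyz
      rw [← Points.map_comp, ← Points.map_comp, prod.map_snd, prod.map_snd, Points.map_comp, Points.map_comp] at h1
      exact h1
  have hA := K626.W5.isAlgSpace_prod hX N
  obtain ⟨Y, ⟨e⟩⟩ := exists_rep hA fun x => by
    obtain ⟨i, y, rfl⟩ := hsurj x
    refine (InAffine.of_open (hb i) (h i {y} (Set.finite_singleton y))).mono ?_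
    rw [Set.image_singleton]
  have hfin : ∀ i, (Points.map (K626.W5.bcMap X (c i)) ⁻¹' E).Finite := fun i => hE.preimage (hinj i).injOn
  choose T j hT hj hEj using fun i => h i _ (hfin i)
  choose φ hφ hφ' using fun i => exists_hom e (j i ≫ K626.W5.bcMap X (c i))
    (MorphismProperty.comp_mem (RepWith @IsOpenImmersion) _ _ (hj i) (hb i))
  have hU : IsAffineOpen (⨆ i, (φ i).left.opensRange) := by
    refine IsAffineOpen.iSup_of_disjoint (fun i => isAffineOpen_opensRange _) fun i k hik => ?_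
    rw [Function.onFun, ← Opens.coe_disjoint, Set.disjoint_left]
    rintro _ ⟨t, rfl⟩ ⟨t', ht'⟩
    refine hik (hd i k (Points.ofPt (j i) t) (Points.ofPt (j k) t') ?_)
    rw [Points.map_ofPt, Points.map_ofPt, ← hφ, ← hφ, K647.Pts.ofPt_map, K647.Pts.ofPt_map, ht']
  refine ⟨Over.mk ((⨆ i, (φ i).left.opensRange).ι ≫ Y.hom),
    (yon S).map (Over.homMk (⨆ i, (φ i).left.opensRange).ι rfl) ≫ e.hom, hU, ?_, ?_⟩
  · refine MorphismProperty.comp_mem (RepWith @IsOpenImmersion) _ _ ((repWith_yon_map_iff _ _).2 ?_)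
      (K610.SchLocus.repWith_iso e)
    exact (inferInstance : IsOpenImmersion (⨆ i, (φ i).left.opensRange).ι)
  · intro x hx
    obtain ⟨i, y, rfl⟩ := hsurj x
    obtain ⟨t, rfl⟩ := hEj i hx
    have h1 : (φ i).left t ∈ (⨆ i, (φ i).left.opensRange) := Opens.mem_iSup.2 ⟨i, t, rfl⟩
    refine ⟨⟨(φ i).left t, h1⟩, ?_⟩
    rw [Points.map_ofPt, ← hφ, K647.Pts.ofPt_map, K647.Pts.ofPt_map]
    rfl

/-- Finite fibres. -/
theorem finite_fibre {X Z : Sp S} {g : Z ⟶ X} (hX : IsAlgSpace X) (hq : RepWith @LocallyQuasiFinite g)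
    (hqc : RepWith @QuasiCompact g) {Y : Over S} (e : (yon S).obj Y ≅ Z) {E : Set (Points X)} (hE : E.Finite) :
    {y : Y.left | Points.ofPt (e.hom ≫ g) y ∈ E}.Finite := by
  obtain ⟨V, p, hp, hps⟩ := hX.atlas
  obtain ⟨W, i, q, sq⟩ := hq.1 p
  have h1 : LocallyQuasiFinite i.left := hq.2 p q i sq
  have h2 : QuasiCompact i.left := hqc.2 p q i sq
  have h3 : {y : Y.left | Points.ofPt (e.hom ≫ g) y ∈ E} = ⋃ x ∈ E, {y : Y.left | Points.ofPt (e.hom ≫ g) y = x} := by
    ext y
    simp
  rw [h3]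
  refine hE.biUnion fun x _ => ?_
  obtain ⟨v, rfl⟩ := K647.Pts.exists_ofPt_of_surj hps x
  have h4 : (i.left ⁻¹' {v}).Finite := i.left.finite_preimage_singleton v
  let a : W.left → Y.left := ((yon S).preimage (q ≫ e.inv)).left
  refine (h4.image a).subset fun y hy => ?_
  have hy' : Points.map g (Points.ofPt e.hom y) = Points.ofPt p v := hy
  obtain ⟨w, hw, hw'⟩ := K647.Pts.exists_point_rep sq _ v hy'
  refine ⟨w, hw', ofPt_injective e ?_⟩
  rw [← hw]
  change Points.ofPt e.hom (((yon S).preimage (q ≫ e.inv)).left w) = _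
  rw [← K647.Pts.ofPt_map, (yon S).map_preimage, Category.assoc, e.inv_hom_id, Category.comp_id]

theorem isQuasiSeparatedSp_prod {X : Sp S} (hX : IsQuasiSeparatedSp X) (T : Over S) (hT : IsAffine T.left) :
    IsQuasiSeparatedSp (X ⨯ (yon S).obj T) := by
  have h1 : IsQuasiSeparatedMor ((K625.Prod.isTerminalBase S).from X) := K595.DiagRel.repWith_diagonal_of_diag _ hX
  have h2 : IsQuasiSeparatedMor (prod.snd : X ⨯ (yon S).obj T ⟶ (yon S).obj T) :=
    MorphismProperty.of_isPullback (P := IsQuasiSeparatedMor) (K625.Prod.isPullback_prod X ((yon S).obj T)) h1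
  exact K605.ImmMain.isQuasiSeparatedSp_of_mor h2 (K605.LfpLim.isQuasiSeparatedSp_yon)

theorem locP_prod {P : MorphismProperty Scheme.{u}} [P.IsStableUnderBaseChange] (hP : K597.EtLoc P) {X : Sp S}
    (hX : IsAlgSpace X) (hf : LocP P ((K625.Prod.isTerminalBase S).from X)) (T : Over S) :
    LocP P (prod.snd : X ⨯ (yon S).obj T ⟶ (yon S).obj T) :=
  K597.locP_bc hP (K625.Prod.isPullback_prod X ((yon S).obj T)) hX.hasAtlas
    (IsAlgSpace.yon_obj _).hasAtlas (IsAlgSpace.yon_obj _).hasAtlas hf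

theorem isLocNoethSp_prod {X : Sp S} (hX : IsAlgSpace X)
    (hf : LocP @LocallyOfFiniteType ((K625.Prod.isTerminalBase S).from X)) (T : Over S)
    [IsLocallyNoetherian T.left] : IsLocNoethSp (X ⨯ (yon S).obj T) := by
  obtain ⟨V, p, hp, hps⟩ := (K626.W5.isAlgSpace_prod hX T).atlas
  have h1 := locP_prod K597.etLoc_lft hX hf T
  have h2 : LocallyOfFiniteType ((yon S).preimage (p ≫ prod.snd)).left := by
    refine h1 p (𝟙 _) _ hp ?_ ?_
    · exact MorphismProperty.of_isIso (RepWith @Etale) _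
    · rw [(yon S).map_preimage, Category.comp_id]
  exact ⟨V, p, hp, hps, LocallyOfFiniteType.isLocallyNoetherian ((yon S).preimage (p ≫ prod.snd)).left⟩

/-- Finite sets of points of the base changes to semi-local Dedekind schemes (fields included) have affine
neighbourhoods. -/
def DedFA (X : Sp S) : Prop := ∀ (C : Type u) [CommRing C] [IsDedekindDomain C] [Finite (MaximalSpectrum C)]
  (g : Spec (CommRingCat.of C) ⟶ S), FA (X ⨯ (yon S).obj (Over.mk g))

/-- **Semi-local Noetherian bases of dimension at most one.** -/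
theorem fa_semiLocal [QuasiSeparatedSpace ↥S] {X : Sp S} (hX : IsAlgSpace X) (hqs : IsQuasiSeparatedSp X)
    (hf : LocP @LocallyOfFiniteType ((K625.Prod.isTerminalBase S).from X)) (hD : DedFA X)
    (O : Type u) [CommRing O] [IsNoetherianRing O] [Ring.KrullDimLE 1 O] [Finite (MaximalSpectrum O)]
    (o : Spec (CommRingCat.of O) ⟶ S) : FA (X ⨯ (yon S).obj (Over.mk o)) := by
  obtain ⟨ι, hι, C, h1, h2, h3, φ, hφi, hφs, hφq⟩ := K632.DimOneAlg.exists_cover O
  let R : ι → CommRingCat.{u} := fun i => CommRingCat.of (C i)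
  let ψ : (∐ fun i => Spec (R i)) ⟶ Spec (CommRingCat.of O) := sigmaSpec R ≫ Spec.map (CommRingCat.ofHom φ)
  have hψi : IsIntegralHom ψ := by
    have : IsIntegralHom (Spec.map (CommRingCat.ofHom φ)) := hφi
    exact (inferInstance : IsIntegralHom (sigmaSpec R ≫ Spec.map (CommRingCat.ofHom φ)))
  have hψs : Surjective ψ := by
    have : Surjective (Spec.map (CommRingCat.ofHom φ)) := hφs
    exact (inferInstance : Surjective (sigmaSpec R ≫ Spec.map (CommRingCat.ofHom φ)))
  have hψq : LocallyQuasiFinite ψ := by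
    have : LocallyQuasiFinite (Spec.map (CommRingCat.ofHom φ)) := hφq
    exact (inferInstance : LocallyQuasiFinite (sigmaSpec R ≫ Spec.map (CommRingCat.ofHom φ)))
  let T : Over S := Over.mk o
  let N : Over S := Over.mk (ψ ≫ o)
  let n : N ⟶ T := Over.homMk ψ rfl
  let c : ∀ i, Over.mk (Sigma.ι (fun i => Spec (R i)) i ≫ ψ ≫ o) ⟶ N := fun i =>
    Over.homMk (U := Over.mk (Sigma.ι (fun i => Spec (R i)) i ≫ ψ ≫ o)) (V := N) (Sigma.ι (fun i => Spec (R i)) i) rfl
  have hN : FA (X ⨯ (yon S).obj N) := by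
    refine fa_sigma hX N _ c (fun i => ?_) ?_ ?_ fun i => hD (C i) _
    · exact (inferInstance : IsOpenImmersion (Sigma.ι (fun i => Spec (R i)) i))
    · intro x
      obtain ⟨y, hy⟩ := (sigmaOpenCover fun i => Spec (R i)).covers x
      exact ⟨_, y, hy⟩
    · intro i j m m' hm
      exact (Sigma.mk.inj_iff.1 ((sigmaι_eq_iff _ _ _ _ _).1 hm)).1
  obtain ⟨Y, e, hY⟩ := hN.exists_rep (K626.W5.isAlgSpace_prod hX N)
  have hg1 : RepWith @IsIntegralHom (K626.W5.bcMap X n) := K625.Prod.repWith_map_right @IsIntegralHom X n hψi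
  have hg2 : RepWith @Surjective (K626.W5.bcMap X n) := K625.Prod.repWith_map_right @Surjective X n hψs
  have hg3 : RepWith @LocallyQuasiFinite (K626.W5.bcMap X n) :=
    K625.Prod.repWith_map_right @LocallyQuasiFinite X n hψq
  have hg4 : RepWith @QuasiCompact (K626.W5.bcMap X n) :=
    K609.Points.repWith_mono (fun _ h => by have : IsIntegralHom _ := h; infer_instance) hg1
  intro E hE
  have hXT := K626.W5.isAlgSpace_prod hX T
  obtain ⟨U, hU, hUE⟩ := hY _ (finite_fibre hXT hg3 hg4 e hE)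
  have hTa : IsAffine T.left := (inferInstance : IsAffine (Spec (CommRingCat.of O)))
  have : IsLocallyNoetherian T.left := (inferInstance : IsLocallyNoetherian (Spec (CommRingCat.of O)))
  exact K650.QAff.inAffine_of_integral (fun f a b c => Groth.Agent.S10033.result S f a b c) hXT
    (isLocNoethSp_prod hX hf T) (isQuasiSeparatedSp_prod hqs T hTa) (e.hom ≫ K626.W5.bcMap X n)
    (MorphismProperty.comp_mem (RepWith @IsIntegralHom) _ _ (MorphismProperty.of_isIso (RepWith @IsIntegralHom) _) hg1)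
    (MorphismProperty.comp_mem (RepWith @Surjective) _ _ (MorphismProperty.of_isIso (RepWith @Surjective) _) hg2)
    E hE U hU fun y hy => hUE hy

end K632.DimOne
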