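import Groth.Agent.AlgSp.K632.NilRing
import Mathlib.AlgebraicGeometry.PullbackCarrier

/-!
# Models of faithfully flat étale ring maps over rings of finite type over `ℤ`
-/

set_option autoImplicit false
set_option linter.style.haveILetI false
universe u

open CategoryTheory CategoryTheory.Limits AlgebraicGeometry TensorProduct

namespace K632.EtaleModel

theorem etale_SpecMap {A B : Type u} [CommRing A] [CommRing B] [Algebra A B] [Algebra.Etale A B] :
    Etale (Spec.map (CommRingCat.ofHom (algebraMap A B))) :=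
  (HasRingHomProperty.Spec_iff (P := @Etale)).2 (RingHom.etale_algebraMap.2 inferInstance)

theorem exists_subring {A A₀ : Type u} [CommRing A] [CommRing A₀] [Algebra A₀ A] (hfg : Algebra.FiniteType ℤ A₀)
    (𝔞 : Ideal A₀) (h𝔞 : 𝔞.map (algebraMap A₀ A) = ⊤) :
    ∃ (A₁ : Type u) (_ : CommRing A₁) (_ : Algebra A₀ A₁) (_ : Algebra A₁ A) (_ : IsScalarTower A₀ A₁ A),
      Algebra.FiniteType ℤ A₁ ∧ 𝔞.map (algebraMap A₀ A₁) = ⊤ := by
  have h1 : (1 : A) ∈ 𝔞.map (algebraMap A₀ A) := by rw [h𝔞]; trivial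
  obtain ⟨l, hl, hs⟩ := (Finsupp.mem_span_image_iff_linearCombination A).1 h1
  let A₁ : Subalgebra A₀ A := Algebra.adjoin A₀ ((l.frange : Finset A) : Set A)
  have hmem : ∀ x, l x ∈ A₁ := by
    intro x
    by_cases hx : l x = 0
    · rw [hx]; exact A₁.zero_mem
    · exact Algebra.subset_adjoin (Finsupp.mem_frange.2 ⟨hx, x, rfl⟩)
  refine ⟨A₁, inferInstance, inferInstance, inferInstance, inferInstance, ?_, ?_⟩
  · have : Algebra.FiniteType A₀ A₁ := ⟨A₁.fg_top.2 ⟨_, rfl⟩⟩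
    exact Algebra.FiniteType.trans hfg this
  · rw [Ideal.eq_top_iff_one]
    have h2 : (1 : A₁) = l.sum fun x _ => (⟨l x, hmem x⟩ : A₁) * algebraMap A₀ A₁ x := by
      apply Subtype.ext
      change (1 : A) = A₁.val (l.sum fun x _ => (⟨l x, hmem x⟩ : A₁) * algebraMap A₀ A₁ x)
      rw [← hs, Finsupp.linearCombination_apply, Finsupp.sum, Finsupp.sum, map_sum]
      rfl
    rw [h2]
    refine Ideal.sum_mem _ fun x hx => Ideal.mul_mem_left _ _ (Ideal.mem_map_of_mem _ ?_)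
    exact hl hx

/-- A faithfully flat étale ring map is the base change of a faithfully flat étale ring map of rings of finite type
over `ℤ`. -/
theorem exists_model {A B : Type u} [CommRing A] [CommRing B] [Algebra A B] [Algebra.Etale A B]
    [Module.FaithfullyFlat A B] :
    ∃ (A₀ B₀ : CommRingCat.{u}) (κ : A₀ ⟶ B₀) (ι : A₀ ⟶ CommRingCat.of A) (ψ : B₀ ⟶ CommRingCat.of B),
      Algebra.FiniteType ℤ A₀ ∧ Algebra.FinitePresentation ℤ B₀ ∧ Etale (Spec.map κ) ∧ κ.hom.FaithfullyFlat ∧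
      IsPushout ι κ (CommRingCat.ofHom (algebraMap A B)) ψ := by
  obtain ⟨A₀, B₀, _, _, hfg, het, ⟨e⟩⟩ := Algebra.Etale.exists_subalgebra_fg (R := ℤ) (A := A) (B := B)
  have hft : Algebra.FiniteType ℤ A₀ := ⟨A₀.fg_top.2 hfg⟩
  let κ₀ : CommRingCat.of A₀ ⟶ CommRingCat.of B₀ := CommRingCat.ofHom (algebraMap A₀ B₀)
  let ι₀ : CommRingCat.of A₀ ⟶ CommRingCat.of A := CommRingCat.ofHom (algebraMap A₀ A)
  let j : CommRingCat.of A ⟶ CommRingCat.of B := CommRingCat.ofHom (algebraMap A B)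
  let ψ₀ : CommRingCat.of B₀ ⟶ CommRingCat.of B :=
    CommRingCat.ofHom ((e.symm : A ⊗[A₀] B₀ →+* B).comp Algebra.TensorProduct.includeRight.toRingHom)
  have hp : IsPushout ι₀ κ₀ j ψ₀ := by
    refine IsPushout.of_iso (CommRingCat.isPushout_tensorProduct A₀ A B₀) (Iso.refl _) (Iso.refl _) (Iso.refl _)
      (e.symm.toRingEquiv.toCommRingCatIso) (by simp [ι₀]) (by simp [κ₀]) ?_ ?_
    · rw [Iso.refl_hom, Category.id_comp]
      ext x
      exact e.symm.commutes x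
    · rw [Iso.refl_hom, Category.id_comp]
      rfl
  have hκ₀ : Etale (Spec.map κ₀) := etale_SpecMap
  have hj : Surjective (Spec.map j) :=
    ((flat_and_surjective_SpecMap_iff j).2 (RingHom.faithfullyFlat_algebraMap_iff.2 inferInstance)).2
  -- the image of `Spec B₀`
  have hopen : IsOpen (Set.range (Spec.map κ₀)) := (Spec.map κ₀).isOpenMap.isOpen_range
  obtain ⟨𝔞, h𝔞⟩ := (PrimeSpectrum.isClosed_iff_zeroLocus_ideal _).1 hopen.isClosed_compl
  have h𝔞' : 𝔞.map (algebraMap A₀ A) = ⊤ := by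
    by_contra hne
    obtain ⟨M, hM, hle⟩ := Ideal.exists_le_maximal _ hne
    let x : Spec (CommRingCat.of A) := ⟨M, hM.isPrime⟩
    have hx : (Spec.map ι₀ x : PrimeSpectrum A₀) ∈ PrimeSpectrum.zeroLocus (𝔞 : Set A₀) := fun a ha =>
      hle (Ideal.mem_map_of_mem _ ha)
    rw [← h𝔞] at hx
    obtain ⟨y, hy⟩ := hj.surj x
    refine hx ⟨Spec.map ψ₀ y, ?_⟩
    rw [← Scheme.Hom.comp_apply, ← Spec.map_comp, ← hp.w, Spec.map_comp, Scheme.Hom.comp_apply, hy]
  obtain ⟨A₁, _, _, _, _, hft₁, h1⟩ := exists_subring hft 𝔞 h𝔞'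
  let α : CommRingCat.of A₀ ⟶ CommRingCat.of A₁ := CommRingCat.ofHom (algebraMap A₀ A₁)
  let ι₁ : CommRingCat.of A₁ ⟶ CommRingCat.of A := CommRingCat.ofHom (algebraMap A₁ A)
  have hα : α ≫ ι₁ = ι₀ := by
    ext x
    exact (IsScalarTower.algebraMap_apply A₀ A₁ A x).symm
  let κ₁ : CommRingCat.of A₁ ⟶ CommRingCat.of (A₁ ⊗[A₀] B₀) := CommRingCat.ofHom (algebraMap A₁ (A₁ ⊗[A₀] B₀))
  have hP : IsPushout α κ₀ κ₁ (CommRingCat.ofHom Algebra.TensorProduct.includeRight.toRingHom) :=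
    CommRingCat.isPushout_tensorProduct A₀ A₁ B₀
  have hft₂ : Algebra.FiniteType ℤ (A₁ ⊗[A₀] B₀) :=
    Algebra.FiniteType.trans (S := A₁) hft₁ inferInstance
  have hκ₁ : Surjective (Spec.map κ₁) := by
    refine ⟨fun x => ?_⟩
    have hy : Spec.map α x ∈ Set.range (Spec.map κ₀) := by
      by_contra hy
      have hy' : (Spec.map α x : PrimeSpectrum A₀) ∈ PrimeSpectrum.zeroLocus (𝔞 : Set A₀) := by
        rw [← h𝔞]
        exact hy
      have h2 : 𝔞.map (algebraMap A₀ A₁) ≤ (x : PrimeSpectrum A₁).asIdeal := Ideal.map_le_iff_le_comap.2 hy'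
      rw [h1, top_le_iff] at h2
      exact (x : PrimeSpectrum A₁).isPrime.ne_top h2
    obtain ⟨z, hz⟩ := hy
    obtain ⟨o, ho, -⟩ := Scheme.exists_preimage_of_isPullback (isPullback_SpecMap_of_isPushout _ _ _ _ hP) x z hz.symm
    exact ⟨o, ho⟩
  refine ⟨CommRingCat.of A₁, CommRingCat.of (A₁ ⊗[A₀] B₀), κ₁, ι₁, hP.desc (ι₁ ≫ j) ψ₀ ?_, hft₁,
    (Algebra.FinitePresentation.of_finiteType).1 hft₂, etale_SpecMap, ?_, ?_⟩
  · rw [← Category.assoc, hα, hp.w]
  · exact (flat_and_surjective_SpecMap_iff κ₁).1 ⟨(HasRingHomProperty.Spec_iff (P := @Flat)).2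
      (RingHom.flat_algebraMap_iff.2 inferInstance), hκ₁⟩
  · refine IsPushout.of_left (h₁₁ := α) (v₁₁ := κ₀)
      (h₂₁ := CommRingCat.ofHom Algebra.TensorProduct.includeRight.toRingHom) ?_ ?_ hP
    · rw [hP.inr_desc]
      convert hp using 1
    · rw [hP.inl_desc]

end K632.EtaleModel
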