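import Groth.Agent.AlgSp.K632.DimOneSemi
import Groth.Agent.AlgSp.K650.Two
import Groth.Agent.AlgSp.K632.DeformIso

/-!
# Finite sets of points in a union of two closed subspaces
-/

set_option autoImplicit false
universe u
open CategoryTheory CategoryTheory.Limits AlgebraicGeometry Topology TopologicalSpace Opposite
open AlgSp

namespace K632.FATwo

open K632.DimOne K650.Sat K650.Two K642.ChowCoprod

variable {S : Scheme.{u}}

/-- A locally Noetherian algebraic space which is the union of two closed subspaces with (FA) has (FA). -/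
theorem fa_of_two {X Z₁ Z₂ : Sp S} (hX : IsAlgSpace X) (hN : IsLocNoethSp X) (c₁ : Z₁ ⟶ X) (c₂ : Z₂ ⟶ X)
    (h₁ : RepWith @IsClosedImmersion c₁) (h₂ : RepWith @IsClosedImmersion c₂)
    (hcov : ∀ x : Points X, x ∈ Set.range (Points.map c₁) ∨ x ∈ Set.range (Points.map c₂))
    (hF₁ : FA Z₁) (hF₂ : FA Z₂) : FA X := by
  have hm₁ : Mono c₁ := K610.Factor.mono_of_isClosedImmersion h₁
  have hm₂ : Mono c₂ := K610.Factor.mono_of_isClosedImmersion h₂
  obtain ⟨T₁, e₁, hT₁⟩ := hF₁.exists_rep (K610.Sub.isAlgSpace_of_mono h₁.1 hX)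
  obtain ⟨T₂, e₂, hT₂⟩ := hF₂.exists_rep (K610.Sub.isAlgSpace_of_mono h₂.1 hX)
  have hg₁ : RepWith @IsClosedImmersion (e₁.hom ≫ c₁) :=
    MorphismProperty.comp_mem (RepWith @IsClosedImmersion) _ _ (MorphismProperty.of_isIso _ _) h₁
  have hg₂ : RepWith @IsClosedImmersion (e₂.hom ≫ c₂) :=
    MorphismProperty.comp_mem (RepWith @IsClosedImmersion) _ _ (MorphismProperty.of_isIso _ _) h₂
  obtain ⟨g, hg1, hg2, hfin⟩ := exists_two hX (e₁.hom ≫ c₁) (e₂.hom ≫ c₂) (K650.ThmK.repWith_finite_of_closed hg₁)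
    (K650.ThmK.repWith_finite_of_closed hg₂)
  have hol := isOpenImmersion_cinl T₁ T₂
  have hor := isOpenImmersion_cinr T₁ T₂
  have hl : ∀ y, Points.ofPt g ((cinl T₁ T₂).left y) = Points.map c₁ (Points.ofPt e₁.hom y) := fun y => by
    rw [Points.map_ofPt, ← hg1, K609.Points.ofPt_yon_map_comp]
  have hr : ∀ y, Points.ofPt g ((cinr T₁ T₂).left y) = Points.map c₂ (Points.ofPt e₂.hom y) := fun y => by
    rw [Points.map_ofPt, ← hg2, K609.Points.ofPt_yon_map_comp]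
  have hsurj : RepWith @Surjective g := by
    rw [K609.Points.repWith_surjective_iff hfin.1, ← K609.Points.surjective_ofPt_iff]
    intro x
    rcases hcov x with ⟨z, hz⟩ | ⟨z, hz⟩
    · obtain ⟨y, rfl⟩ := K610.SchLocus.surjective_ofPt_iso e₁ z
      exact ⟨_, (hl y).trans hz⟩
    · obtain ⟨y, rfl⟩ := K610.SchLocus.surjective_ofPt_iso e₂ z
      exact ⟨_, (hr y).trans hz⟩
  intro E hE
  have hi₁ : Function.Injective (Points.map c₁) := K632.DeformIso.injective_of_mono c₁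
  have hi₂ : Function.Injective (Points.map c₂) := K632.DeformIso.injective_of_mono c₂
  obtain ⟨V₁, hV₁, hx₁⟩ := hT₁ (Points.ofPt e₁.hom ⁻¹' (Points.map c₁ ⁻¹' E))
    ((hE.preimage hi₁.injOn).preimage (ofPt_injective e₁).injOn)
  obtain ⟨V₂, hV₂, hx₂⟩ := hT₂ (Points.ofPt e₂.hom ⁻¹' (Points.map c₂ ⁻¹' E))
    ((hE.preimage hi₂.injOn).preimage (ofPt_injective e₂).injOn)
  have hcompl : IsCompl (coprod.inl : T₁.left ⟶ T₁.left ⨿ T₂.left).opensRange
      (coprod.inr : T₂.left ⟶ T₁.left ⨿ T₂.left).opensRange := isCompl_opensRange_inl_inr _ _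
  refine K650.ThmK.good hX hN _ g hfin hsurj E hE
    ((cinl T₁ T₂).left ''ᵁ V₁ ⊔ (cinr T₁ T₂).left ''ᵁ V₂) ?_ ?_
  · refine (hV₁.image_of_isOpenImmersion _).sup_of_disjoint (hV₂.image_of_isOpenImmersion _) ?_
    exact hcompl.disjoint.mono (Scheme.Hom.image_le_opensRange _ _) (Scheme.Hom.image_le_opensRange _ _)
  · intro y hy
    rcases mem_cop y with ⟨z, rfl⟩ | ⟨z, rfl⟩
    · exact Or.inl ⟨z, hx₁ (show Points.map c₁ (Points.ofPt e₁.hom z) ∈ E from (hl z) ▸ hy), rfl⟩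
    · exact Or.inr ⟨z, hx₂ (show Points.map c₂ (Points.ofPt e₂.hom z) ∈ E from (hr z) ▸ hy), rfl⟩

end K632.FATwo
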