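import Groth.Agent.AlgSp.K632.Global
import Groth.Prelude.Def_AlgSpMor5

/-!
# Finite locally free morphisms over thickenings of algebraic spaces
-/

set_option autoImplicit false
universe u
open CategoryTheory CategoryTheory.Limits AlgebraicGeometry Opposite

namespace K632.FinLocFree

open AlgSp K632.Basic K632.Chart K632.Global

variable {S : Scheme.{u}}

theorem repWith_finLocFree {X X' Y Y' : Sp S} (hX' : IsAlgSpace X') (hY' : IsAlgSpace Y')
    {i : X ⟶ X'} {j : Y ⟶ Y'} {f : X ⟶ Y} {f' : X' ⟶ Y'}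
    (sq : IsPullback i f f' j) (hj : IsThickMor j) (h1 : LocP @Flat f') (h2 : LocP @LocallyOfFinitePresentation f')
    (hf : IsFinLocFreeMor f) : IsFinLocFreeMor f' := by
  have hlft : LocP @LocallyOfFiniteType f' := fun _ _ a b k ha hb e => by
    have : LocallyOfFinitePresentation k.left := h2 a b k ha hb e
    infer_instance
  have hfin : RepWith @IsFinite f := repWith_mono (fun X Y f h => h.1) hf
  have h := repWith_isFinite hX' hY' sq hj hlft hfin
  have h3 := K597.repWith_of_locP K597.etLoc_flat hY'.hasAtlas h.1 h1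
  have h4 := K597.repWith_of_locP K597.etLoc_lfp hY'.hasAtlas h.1 h2
  exact ⟨h.1, fun U V g fst snd s => ⟨h.2 _ _ _ s, h3.2 _ _ _ s, h4.2 _ _ _ s⟩⟩

theorem repWith_finLocFreeOfDeg {X X' Y Y' : Sp S} {i : X ⟶ X'} {j : Y ⟶ Y'} {f : X ⟶ Y} {f' : X' ⟶ Y'}
    (sq : IsPullback i f f' j) (hj : IsThickMor j) (h : IsFinLocFreeMor f') (d : ℕ)
    (hf : IsFinLocFreeOfDegMor d f) : IsFinLocFreeOfDegMor d f' := by
  refine repWith_of_thick (P := finLocFreeOfDeg d) (Q := finLocFree) ?_ sq hj h hf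
  intro A A' B B' iA iB g g' ht hc hg' hg
  refine ⟨hg', fun y' => ?_⟩
  have hs : Surjective iB := ht.2
  obtain ⟨y, rfl⟩ := hs.surj y'
  have := hg'.1
  have := hg'.2.1
  rw [← Scheme.Hom.finrank_of_isPullback _ _ _ _ hc y]
  exact hg.2 y

theorem isFinLocFreeMor_of_deg {F G : Sp S} {f : F ⟶ G} {d : ℕ} (h : IsFinLocFreeOfDegMor d f) :
    IsFinLocFreeMor f :=
  repWith_mono (fun X Y f h => h.1) h

end K632.FinLocFree
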