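import Groth.Agent.AlgSp.K632.SqZeroSch
import Groth.Agent.AlgSp.K632.IntThick
import Groth.Agent.AlgSp.K613.Cover
import Groth.Agent.AlgSp.K609.QC
import Groth.Agent.AlgSp.K596.QC
import Groth.Agent.AlgSp.K631.ThickMor
import Groth.Agent.S1302

/-!
# Finite order thickenings of affine schemes are affine schemes
-/

set_option autoImplicit false
set_option linter.style.haveILetI false
universe u
open CategoryTheory CategoryTheory.Limits AlgebraicGeometry Opposite

namespace K632.FinThickAffine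

open AlgSp K632.Basic K632.Chart

variable {S : Scheme.{u}}

theorem isAffine_of_thick {X X' : Scheme.{u}} {i : X ⟶ X'} (hi : thick i) [IsAffine X] : IsAffine X' := by
  have h := (Groth.Agent.S1302.result i (𝟙 (⊤_ Scheme.{u})) (terminal.from X) (terminal.from X') hi
    ⟨inferInstance, inferInstance⟩ (Subsingleton.elim _ _)).1 inferInstance
  exact isAffine_of_isAffineHom (terminal.from X')

/-- The affine scheme of invariant functions. -/
theorem exists_quotient_affine {U' R' : Over S} [IsAffine U'.left] (s' t' : R' ⟶ U') (S₀ : S.Opens)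
    (hS₀ : IsAffineOpen S₀) (hU : ∀ x, U'.hom x ∈ S₀) :
    ∃ (T : Over S) (q : U' ⟶ T), IsAffine T.left ∧ s' ≫ q = t' ≫ q ∧
      ∀ b : Γ(U'.left, ⊤), s'.left.appTop b = t'.left.appTop b → ∃ c, q.left.appTop c = b := by
  let A' : Subring Γ(U'.left, ⊤) := RingHom.eqLocus s'.left.appTop.hom t'.left.appTop.hom
  have hU' : ⊤ ≤ U'.hom ⁻¹ᵁ S₀ := fun x _ => hU x
  let φ : Γ(S, S₀) ⟶ Γ(U'.left, ⊤) := U'.hom.appLE S₀ ⊤ hU'
  have e : ∀ (v : R'.left ⟶ U'.left) (g : R'.left ⟶ S) (_ : v ≫ U'.hom = g) (h : ⊤ ≤ g ⁻¹ᵁ S₀),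
      φ ≫ v.appTop = g.appLE S₀ ⊤ h := by
    rintro v _ rfl h
    have h1 : v.appLE ⊤ ⊤ le_top = v.appTop := (Scheme.Hom.app_eq_appLE (f := v) (U := ⊤)).symm
    rw [← h1]
    exact Scheme.Hom.appLE_comp_appLE v U'.hom S₀ ⊤ ⊤ hU' le_top
  have hR : ⊤ ≤ R'.hom ⁻¹ᵁ S₀ := by
    rw [← Over.w s']
    exact fun x _ => hU _
  have hφ : φ ≫ s'.left.appTop = φ ≫ t'.left.appTop := by
    rw [e s'.left R'.hom (Over.w s') hR, e t'.left R'.hom (Over.w t') hR]
  let φ' : Γ(S, S₀) ⟶ CommRingCat.of A' := CommRingCat.ofHom (φ.hom.codRestrict A' fun x =>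
    congrArg (fun (f : Γ(S, S₀) ⟶ Γ(R'.left, ⊤)) => f.hom x) hφ)
  let j : CommRingCat.of A' ⟶ Γ(U'.left, ⊤) := CommRingCat.ofHom A'.subtype
  have hj : φ' ≫ j = φ := rfl
  let T : Over S := Over.mk (Spec.map φ' ≫ hS₀.fromSpec)
  let q : U' ⟶ T := Over.homMk (U'.left.isoSpec.hom ≫ Spec.map j) (by
    change (U'.left.isoSpec.hom ≫ Spec.map j) ≫ Spec.map φ' ≫ hS₀.fromSpec = U'.hom
    rw [Category.assoc, ← Category.assoc (Spec.map j), ← Spec.map_comp, hj,
      IsAffineOpen.SpecMap_appLE_fromSpec _ hS₀ (isAffineOpen_top _), IsAffineOpen.fromSpec_top,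
      Iso.hom_inv_id_assoc])
  refine ⟨T, q, (inferInstance : IsAffine (Spec _)), ?_, ?_⟩
  · apply Over.OverMorphism.ext
    change s'.left ≫ U'.left.isoSpec.hom ≫ Spec.map j = t'.left ≫ U'.left.isoSpec.hom ≫ Spec.map j
    have h1 : j ≫ s'.left.appTop = j ≫ t'.left.appTop := by
      ext x
      exact x.2
    change s'.left ≫ U'.left.toSpecΓ ≫ Spec.map j = t'.left ≫ U'.left.toSpecΓ ≫ Spec.map j
    rw [← Category.assoc, ← Category.assoc, Scheme.toSpecΓ_naturality, Scheme.toSpecΓ_naturality, Category.assoc,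
      Category.assoc, ← Spec.map_comp, ← Spec.map_comp, h1]
  · intro b hb
    refine ⟨(Scheme.ΓSpecIso _).inv (⟨b, hb⟩ : A'), ?_⟩
    change (U'.left.toSpecΓ ≫ Spec.map j).appTop _ = _
    have h2 : (Scheme.ΓSpecIso (CommRingCat.of A')).inv ≫ (U'.left.toSpecΓ ≫ Spec.map j).appTop = j := by
      rw [Scheme.Hom.comp_appTop, Scheme.toSpecΓ_appTop, ← Category.assoc, ← Scheme.ΓSpecIso_inv_naturality,
        Category.assoc, Iso.inv_hom_id, Category.comp_id]
    exact congrArg (fun (f : CommRingCat.of A' ⟶ Γ(U'.left, ⊤)) => f.hom ⟨b, hb⟩) h2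


/-- A finite order thickening (algebraic space) of an affine scheme over an affine open of the base is an affine
scheme. -/
theorem exists_affine_of_base {X' : Sp S} (hX' : IsAlgSpace X') {P : Over S} (hP : IsAffine P.left)
    (S₀ : S.Opens) (hS₀ : IsAffineOpen S₀) (hPS : ∀ x, P.hom x ∈ S₀) {i : (yon S).obj P ⟶ X'}
    (hi : IsFinThickMor i) : ∃ Q : Over S, IsAffine Q.left ∧ Nonempty ((yon S).obj Q ≅ X') := by
  obtain ⟨n, hi, hn⟩ := hi
  have hmono : Mono i := mono_of_isThickMor hi
  obtain ⟨U', a, hU', ha, has⟩ := K609.QC.exists_affine_chart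
    ((K631.ThickMor.isQuasiCompactSp_iff_of_thick hi hX').1 (K596.QC.isQuasiCompactSp_yon P))
  -- the thin chart
  obtain ⟨U, iU, a₀, hU⟩ := hi.1 a
  have hiU := hi.2 _ _ _ hU
  have hiU1 : IsClosedImmersion iU.left := hiU.1
  have hiU2 : Surjective iU.left := hiU.2
  have hUaff : IsAffine U.left := isAffine_of_isAffineHom iU.left
  obtain ⟨u, rfl⟩ := (yon S).map_surjective a₀
  have hue : Etale u.left := (repWith_yon_map_iff @Etale u).1 (repWith_of_isPullback hU.flip ha)
  have hus : Surjective u.left := (repWith_yon_map_iff @Surjective u).1 (repWith_of_isPullback hU.flip has)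
  -- the relations
  obtain ⟨R', t', s₀, hR'⟩ := ha.1 a
  obtain ⟨s', rfl⟩ := (yon S).map_surjective s₀
  have hse : Etale s'.left := (repWith_yon_map_iff @Etale s').1 (repWith_of_isPullback hR'.flip ha)
  have hte : Etale t'.left := ha.2 _ _ _ hR'
  let R : Over S := pullback u u
  let s : R ⟶ U := pullback.fst u u
  let t : R ⟶ U := pullback.snd u u
  have h0 : IsPullback s t u u := IsPullback.of_hasPullback u u
  obtain ⟨iR, hiR⟩ := (yon S).map_surjective (hR'.lift ((yon S).map (s ≫ iU)) ((yon S).map (t ≫ iU)) (by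
    rw [Functor.map_comp, Functor.map_comp, Category.assoc, Category.assoc, ← hU.w, ← Category.assoc,
      ← Category.assoc, ← Functor.map_comp, ← Functor.map_comp, h0.w]))
  have hiR1 : iR ≫ s' = s ≫ iU := (yon S).map_injective (by
    rw [Functor.map_comp, hiR]; exact hR'.lift_fst _ _ _)
  have hiR2 : iR ≫ t' = t ≫ iU := (yon S).map_injective (by
    rw [Functor.map_comp, hiR]; exact hR'.lift_snd _ _ _)
  have hY0 : IsPullback ((yon S).map s) ((yon S).map t) ((yon S).map u) ((yon S).map u) := h0.map (yon S)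
  have hs : IsPullback iR s s' iU := by
    refine IsPullback.of_map (yon S) hiR1 (IsPullback.of_right (h₁₂ := (yon S).map t') (h₂₂ := a) (v₁₃ := a) ?_
      (by rw [← Functor.map_comp, ← Functor.map_comp, hiR1]) hR'.flip)
    rw [← Functor.map_comp, hiR2, Functor.map_comp, ← hU.w]
    exact hY0.flip.paste_horiz hU.flip
  have ht : IsPullback iR t t' iU := by
    refine IsPullback.of_map (yon S) hiR2 (IsPullback.of_right (h₁₂ := (yon S).map s') (h₂₂ := a) (v₁₃ := a) ?_
      (by rw [← Functor.map_comp, ← Functor.map_comp, hiR2]) hR')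
    rw [← Functor.map_comp, hiR1, Functor.map_comp, ← hU.w]
    exact hY0.paste_horiz hU.flip
  have h0' := h0.map (Over.forget S)
  have hs' := hs.map (Over.forget S)
  have ht' := ht.map (Over.forget S)
  have hRaff : IsAffine R.left := by
    have : IsAffineHom s.left := MorphismProperty.of_isPullback (P := @IsAffineHom) h0'.flip
      (inferInstance : IsAffineHom u.left)
    exact isAffine_of_isAffineHom s.left
  have hiRt : thick iR.left := MorphismProperty.of_isPullback (P := thick) hs'.flip hiU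
  have hR'aff : IsAffine R'.left := isAffine_of_thick hiRt
  -- the triple fibre product
  let R2 : Over S := Over.mk (pullback.fst t'.left s'.left ≫ R'.hom)
  let p₁ : R2 ⟶ R' := Over.homMk (pullback.fst t'.left s'.left) rfl
  let p₂ : R2 ⟶ R' := Over.homMk (pullback.snd t'.left s'.left) (by
    change pullback.snd t'.left s'.left ≫ R'.hom = pullback.fst t'.left s'.left ≫ R'.hom
    rw [← Over.w s', ← Category.assoc, ← pullback.condition, Category.assoc, Over.w s', Over.w t'])
  have hp : p₁ ≫ t' = p₂ ≫ s' := Over.OverMorphism.ext pullback.condition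
  obtain ⟨m, hm⟩ := (yon S).map_surjective (hR'.lift ((yon S).map (p₁ ≫ s')) ((yon S).map (p₂ ≫ t')) (by
    rw [Functor.map_comp, Functor.map_comp, Category.assoc, Category.assoc, hR'.w, ← hR'.w, ← Category.assoc,
      ← Category.assoc, ← Functor.map_comp, ← Functor.map_comp, ← hp, Functor.map_comp, Functor.map_comp,
      Category.assoc, Category.assoc, hR'.w]))
  have hm1 : m ≫ s' = p₁ ≫ s' := (yon S).map_injective (by
    rw [Functor.map_comp, hm]; exact hR'.lift_fst _ _ _)
  have hm2 : m ≫ t' = p₂ ≫ t' := (yon S).map_injective (by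
    rw [Functor.map_comp, hm]; exact hR'.lift_snd _ _ _)
  have key := SqZeroSch.exists_lift_sections u.left iU.left s'.left t'.left s.left t.left iR.left h0' hs' ht'
    m.left (congrArg (·.left) hm1) (congrArg (·.left) hm2) (n + 1) (hn _ _ _ hU' ha hU)
  -- the affine scheme of invariant functions
  obtain ⟨T, q, hT, hq, hq'⟩ := exists_quotient_affine s' t' S₀ hS₀ (fun x => by
    obtain ⟨y, rfl⟩ := iU.left.surjective x
    have e1 : iU.left ≫ U'.hom = u.left ≫ P.hom := by rw [Over.w, Over.w]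
    rw [← Scheme.Hom.comp_apply, e1, Scheme.Hom.comp_apply]
    exact hPS _)
  have hF : K613.Cover.FSurj a := (K613.Cover.ESurj.of_repWith ha has).fSurj
  obtain ⟨f', hf', -⟩ := hF.desc ((yon S).map q) (fun Z v w hvw => by
    have h1 : v = hR'.lift v w hvw ≫ (yon S).map s' := (hR'.lift_fst _ _ _).symm
    have h2 : w = hR'.lift v w hvw ≫ (yon S).map t' := (hR'.lift_snd _ _ _).symm
    rw [h1]
    conv_rhs => rw [h2]
    rw [Category.assoc, Category.assoc, ← Functor.map_comp, ← Functor.map_comp, hq])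
  obtain ⟨f, hf⟩ := (yon S).map_surjective (i ≫ f')
  have huf : u ≫ f = iU ≫ q := (yon S).map_injective (by
    rw [Functor.map_comp, Functor.map_comp, hf, ← hf', ← Category.assoc, hU.w, Category.assoc])
  have huf' : u.left ≫ f.left = iU.left ≫ q.left := congrArg (·.left) huf
  have hcl : IsClosedImmersion f.left := by
    refine IsClosedImmersion.of_surjective_of_isAffine f.left fun x => ?_
    obtain ⟨b, hb1, hb2⟩ := key x
    obtain ⟨c, hc⟩ := hq' b hb2
    refine ⟨c, ?_⟩
    have hinj : Function.Injective u.left.appTop.hom :=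
      RingHom.FaithfullyFlat.injective ((Flat.flat_and_surjective_iff_faithfullyFlat_of_isAffine u.left).1
        ⟨inferInstance, hus⟩)
    apply hinj
    change u.left.appTop (f.left.appTop c) = u.left.appTop x
    rw [← hb1, ← hc]
    change (f.left.appTop ≫ u.left.appTop) c = (q.left.appTop ≫ iU.left.appTop) c
    rw [← Scheme.Hom.comp_appTop, ← Scheme.Hom.comp_appTop, huf']
  have hint : RepWith @IsIntegralHom ((yon S).map f) := (repWith_yon_map_iff _ _).2 inferInstance
  have hfin := K632.IntThick.repWith_isIntegralHom hX' (IsAlgSpace.yon_obj T) hi (K631.ThickMor.isThickMor_id _)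
    (f := (yon S).map f) (f' := f') (by rw [hf, Category.comp_id]) hint
  obtain ⟨Q, π, e, hQ⟩ := hfin.1 (𝟙 _)
  have hπ : IsIntegralHom π.left := hfin.2 _ _ _ hQ
  have he : IsIso e := hQ.isIso_fst_of_isIso
  exact ⟨Q, isAffine_of_isAffineHom π.left, ⟨asIso e⟩⟩

end K632.FinThickAffine
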