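import Groth.Agent.AlgSp.K597.LocP
import Groth.Agent.AlgSp.K609.Points
import Groth.Agent.Desc.FlatFactor
import Groth.Prelude.Def_AlgSpMor5

set_option autoImplicit false
universe u
open CategoryTheory CategoryTheory.Limits AlgebraicGeometry Opposite

namespace K632.FlatAt

open AlgSp

variable {S : Scheme.{u}}

theorem flat_of_flat_comp {X Y S : Scheme.{u}} (f : X ⟶ Y) (g : Y ⟶ S) (x : X)
    (h1 : ((f ≫ g).stalkMap x).hom.Flat) (h3 : (f.stalkMap x).hom.Flat) :
    (g.stalkMap (f x)).hom.Flat := by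
  rw [Scheme.Hom.stalkMap_comp] at h1
  refine Groth.Agent.Desc.FlatFactor.flat_of_comp_flat _ (f.stalkMap x).hom h1 ?_
  let _ := (f.stalkMap x).hom.toAlgebra
  have hfl : Module.Flat (Y.presheaf.stalk (f x)) (X.presheaf.stalk x) := h3
  have hlocal : IsLocalHom (algebraMap (Y.presheaf.stalk (f x)) (X.presheaf.stalk x)) :=
    inferInstanceAs (IsLocalHom (f.stalkMap x).hom)
  exact (Module.FaithfullyFlat.of_flat_of_isLocalHom :
    Module.FaithfullyFlat (Y.presheaf.stalk (f x)) (X.presheaf.stalk x))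

/-- If `f : X ⟶ Y` and `f ≫ g` are flat then `g` is flat at all points of the image of `f`. -/
theorem isFlatAtMor_of_comp {X Y B : Sp S} {f : X ⟶ Y} {g : Y ⟶ B} (hX : K597.HasAtlas X)
    (hf : LocP @Flat f) (hfg : LocP @Flat (f ≫ g)) (x : Points X) :
    IsFlatAtMor g (Points.map f x) := by
  intro V W b c k v hb hc hk hv
  obtain ⟨U₀, a₀, ha₀, has₀⟩ := hX
  obtain ⟨U, p, q, sq, hq⟩ := K597.exists_sq2 hb (a₀ ≫ f)
  obtain ⟨u₀, hu₀⟩ := K609.Points.surjective_ofPt_of_repWith_surjective has₀ x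
  have e : Points.ofPt b v = Points.ofPt (a₀ ≫ f) u₀ := by
    rw [← Points.map_ofPt, hu₀, hv]
  obtain ⟨r, hr, -⟩ := (K609.Points.ofPt_eq_ofPt_iff sq v u₀).1 e
  have ha : RepWith @Etale ((yon S).map q ≫ a₀) := K597.etale_comp (K597.etale_map q hq) ha₀
  have h1 : Flat p.left := hf ((yon S).map q ≫ a₀) b p ha hb (by rw [Category.assoc, sq.w])
  have h2 : Flat (p ≫ k).left := hfg ((yon S).map q ≫ a₀) c (p ≫ k) ha hc (by
    rw [Functor.map_comp, Category.assoc, Category.assoc, ← hk, ← Category.assoc ((yon S).map p), sq.w]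
    simp only [Category.assoc])
  subst hr
  exact flat_of_flat_comp p.left k.left r (Flat.stalkMap (p.left ≫ k.left) r) (Flat.stalkMap p.left r)

end K632.FlatAt
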