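import Groth.Agent.AlgSp.K632.DimOneAlg

/-!
# Semi-local Noetherian rings of dimension at most one: the normalizations of the components

The disjoint union of the normalizations of the irreducible components of `Spec O` is integral, surjective and
quasi-finite over `Spec O`, and injective on field-valued points outside the closed points.
-/

set_option autoImplicit false
universe u
open CategoryTheory CategoryTheory.Limits AlgebraicGeometry

namespace K632.FqAlg

open K632.DimOneAlg

theorem component (O : Type u) [CommRing O] [IsNoetherianRing O] [Ring.KrullDimLE 1 O] [Finite (MaximalSpectrum O)]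
    (p : Ideal O) [p.IsPrime] : ∃ (C : Type u) (_ : CommRing C) (_ : IsDedekindDomain C)
      (_ : Finite (MaximalSpectrum C)) (φ : O →+* C), φ.IsIntegral ∧ φ.QuasiFinite ∧ RingHom.ker φ = p ∧
        ∀ c : C, ∃ b x : O, φ b ≠ 0 ∧ φ b * c = φ x := by
  have := krullDimLE_quotient p
  let B := O ⧸ p
  let C := integralClosure B (FractionRing B)
  have hinj : Function.Injective (algebraMap B C) := by
    have h1 : Function.Injective (algebraMap C (FractionRing B) ∘ algebraMap B C) := by
      rw [← RingHom.coe_comp, ← IsScalarTower.algebraMap_eq]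
      exact IsFractionRing.injective B (FractionRing B)
    exact h1.of_comp
  have hD : IsDedekindDomain C :=
    Groth.Agent.VarietyB.SemilocalDedekind.isDedekindDomain_of_isIntegralClosure B (FractionRing B) (FractionRing B) C
  have hint : Algebra.IsIntegral B C := inferInstance
  have hfin : Finite (MaximalSpectrum C) := by
    by_cases hf : IsField B
    · have hC : IsField C := isField_of_isIntegral_of_isField' hf
      let _ := hC.toField
      refine Finite.of_injective (β := Unit) (fun _ => ()) fun m m' _ => MaximalSpectrum.ext ?_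
      have h1 := fun I : MaximalSpectrum C => (Ideal.eq_bot_or_top I.asIdeal).resolve_right I.isMaximal.ne_top
      rw [h1 m, h1 m']
    · exact Groth.Agent.VarietyB.SemilocalDedekind.finite_maximalSpectrum B (finite_maximalSpectrum_quotient p) hf C hinj
  refine ⟨C, inferInstance, hD, hfin, (algebraMap B C).comp (Ideal.Quotient.mk p), ?_, ?_, ?_, ?_⟩
  · exact RingHom.IsIntegral.trans _ _ (RingHom.isIntegral_of_surjective _ Ideal.Quotient.mk_surjective)
      (algebraMap_isIntegral_iff.2 hint)
  · refine RingHom.QuasiFinite.comp ?_ (RingHom.QuasiFinite.of_finite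
      (RingHom.Finite.of_surjective _ Ideal.Quotient.mk_surjective))
    rw [RingHom.quasiFinite_algebraMap]
    exact quasiFinite B
  · rw [← RingHom.comap_ker, (RingHom.injective_iff_ker_eq_bot _).1 hinj, ← RingHom.ker_eq_comap_bot, Ideal.mk_ker]
  · intro c
    obtain ⟨⟨x, b⟩, hb⟩ := IsLocalization.surj (nonZeroDivisors B) (c : FractionRing B)
    obtain ⟨x', rfl⟩ := Ideal.Quotient.mk_surjective x
    obtain ⟨b', hb'⟩ := Ideal.Quotient.mk_surjective (b : B)
    refine ⟨b', x', ?_, ?_⟩
    · rw [RingHom.comp_apply, hb', Ne, map_eq_zero_iff _ hinj]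
      exact nonZeroDivisors.ne_zero b.2
    · apply Subtype.ext
      rw [RingHom.comp_apply, hb']
      change algebraMap B (FractionRing B) b * (c : FractionRing B) = algebraMap B (FractionRing B) _
      rw [mul_comm]
      exact hb

theorem hom_eq {O C : Type u} [CommRing O] [CommRing C] {K : Type u} [Field K] (φ : O →+* C)
    (hφ : ∀ c : C, ∃ b x : O, φ b ≠ 0 ∧ φ b * c = φ x) (α β : C →+* K) (h : α.comp φ = β.comp φ)
    (hk : RingHom.ker (α.comp φ) = RingHom.ker φ) : α = β := by
  ext c
  obtain ⟨b, x, hb, hbx⟩ := hφ c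
  have h0 : ∀ y, α (φ y) = β (φ y) := fun y => RingHom.congr_fun h y
  have h1 : α (φ b) ≠ 0 := by
    intro h1
    have h2 : b ∈ RingHom.ker (α.comp φ) := h1
    rw [hk] at h2
    exact hb h2
  apply mul_left_cancel₀ h1
  rw [← map_mul, hbx, h0 b, ← map_mul, hbx, h0]

/-- Points of a disjoint union. -/
theorem exists_factor {ι : Type u} (X : ι → Scheme.{u}) {K : Type u} [Field K]
    (a : Spec (CommRingCat.of K) ⟶ ∐ X) : ∃ (i : ι) (a' : Spec (CommRingCat.of K) ⟶ X i), a' ≫ Sigma.ι X i = a := by
  obtain ⟨y, hy⟩ := (sigmaOpenCover X).covers (a (IsLocalRing.closedPoint K))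
  let i := (sigmaOpenCover X).idx (a (IsLocalRing.closedPoint K))
  have h1 : Set.range a ⊆ Set.range (Sigma.ι X i) := by
    rintro _ ⟨t, rfl⟩
    have ht : t = IsLocalRing.closedPoint K := Subsingleton.elim (α := PrimeSpectrum K) _ _
    rw [ht]
    exact ⟨y, hy⟩
  exact ⟨i, IsOpenImmersion.lift (Sigma.ι X i) a h1, IsOpenImmersion.lift_fac _ _ _⟩

/-- **The normalizations of the components.** -/
theorem exists_cover (O : Type u) [CommRing O] [IsNoetherianRing O] [Ring.KrullDimLE 1 O]
    [Finite (MaximalSpectrum O)] : ∃ (ι : Type u) (_ : Finite ι) (C : ι → Type u) (_ : ∀ i, CommRing (C i))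
      (_ : ∀ i, IsDedekindDomain (C i)) (_ : ∀ i, Finite (MaximalSpectrum (C i))) (φ : ∀ i, O →+* C i),
      IsIntegralHom (Sigma.desc fun i => Spec.map (CommRingCat.ofHom (φ i))) ∧
      Surjective (Sigma.desc fun i => Spec.map (CommRingCat.ofHom (φ i))) ∧
      LocallyQuasiFinite (Sigma.desc fun i => Spec.map (CommRingCat.ofHom (φ i))) ∧
      ∀ (K : Type u) [Field K] (a b : Spec (CommRingCat.of K) ⟶ ∐ fun i => Spec (CommRingCat.of (C i))),
        a ≫ (Sigma.desc fun i => Spec.map (CommRingCat.ofHom (φ i))) =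
          b ≫ (Sigma.desc fun i => Spec.map (CommRingCat.ofHom (φ i))) →
        (∀ t : Spec (CommRingCat.of K), ¬ (((a ≫ (Sigma.desc fun i => Spec.map (CommRingCat.ofHom (φ i)))) t :
          PrimeSpectrum O).asIdeal.IsMaximal)) → a = b := by
  have hc : ∀ p : {p : Ideal O // p ∈ minimalPrimes O}, ∃ (C : Type u) (_ : CommRing C) (_ : IsDedekindDomain C)
      (_ : Finite (MaximalSpectrum C)) (φ : O →+* C), φ.IsIntegral ∧ φ.QuasiFinite ∧ RingHom.ker φ = p.1 ∧
        ∀ c : C, ∃ b x : O, φ b ≠ 0 ∧ φ b * c = φ x := fun p => by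
    have : p.1.IsPrime := p.2.1.1
    exact component O p.1
  choose C h1 h2 h3 φ h4 h5 h6 h6' using hc
  have hfin : Finite {p : Ideal O // p ∈ minimalPrimes O} := (minimalPrimes.finite_of_isNoetherianRing O).to_subtype
  have hint : (RingHom.pi φ).IsIntegral := by
    intro c
    have := Fintype.ofFinite {p : Ideal O // p ∈ minimalPrimes O}
    choose f hf hf' using fun i => h4 i (c i)
    refine ⟨∏ i, f i, Polynomial.monic_prod_of_monic _ _ fun i _ => hf i, ?_⟩
    funext j
    have h7 : Pi.evalRingHom C j (Polynomial.eval₂ (RingHom.pi φ) c (∏ i, f i)) =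
        Polynomial.eval₂ (φ j) (c j) (∏ i, f i) := by
      rw [Polynomial.hom_eval₂]
      rfl
    change Pi.evalRingHom C j (Polynomial.eval₂ (RingHom.pi φ) c (∏ i, f i)) = 0
    rw [h7, Polynomial.eval₂_finsetProd]
    exact Finset.prod_eq_zero (Finset.mem_univ j) (hf' j)
  have h7 : sigmaSpec (fun i => CommRingCat.of (C i)) ≫ Spec.map (CommRingCat.ofHom (RingHom.pi φ)) =
      Sigma.desc fun i => Spec.map (CommRingCat.ofHom (φ i)) := by
    refine Sigma.hom_ext _ _ fun i => ?_
    rw [ι_sigmaSpec_assoc, Sigma.ι_desc, ← Spec.map_comp]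
    rfl
  refine ⟨_, hfin, C, h1, h2, h3, φ, ?_, ?_, ?_, ?_⟩
  · rw [← h7]
    have : IsIntegralHom (Spec.map (CommRingCat.ofHom (RingHom.pi φ))) := IsIntegralHom.SpecMap_iff.2 hint
    infer_instance
  · refine ⟨fun x => ?_⟩
    obtain ⟨p, hp, hpx⟩ := Ideal.exists_minimalPrimes_le (I := (⊥ : Ideal O)) (J := PrimeSpectrum.asIdeal x) bot_le
    let i : {p : Ideal O // p ∈ minimalPrimes O} := ⟨p, hp⟩
    have hx : RingHom.ker (φ i) ≤ PrimeSpectrum.asIdeal x := by rw [h6 i]; exact hpx
    let _ := (φ i).toAlgebra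
    have hint' : Algebra.IsIntegral O (C i) := ⟨h4 i⟩
    obtain ⟨Q, hQ, hQ'⟩ := Ideal.exists_ideal_over_prime_of_isIntegral (S := C i) (PrimeSpectrum.asIdeal x) ⊥ (by
      change (⊥ : Ideal (C i)).comap (φ i) ≤ _
      rw [← RingHom.ker_eq_comap_bot]
      exact hx)
    let y : Spec (CommRingCat.of (C i)) := (⟨Q, hQ'.1⟩ : PrimeSpectrum (C i))
    refine ⟨(Sigma.ι (fun i => Spec (CommRingCat.of (C i))) i) y, ?_⟩
    rw [← Scheme.Hom.comp_apply, Sigma.ι_desc]
    exact PrimeSpectrum.ext hQ'.2
  · refine IsZariskiLocalAtSource.sigmaDesc fun i => ?_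
    rw [HasRingHomProperty.Spec_iff (P := @LocallyQuasiFinite)]
    exact h5 i
  · intro K _ a b hab ht
    obtain ⟨i, a', rfl⟩ := exists_factor _ a
    obtain ⟨j, b', rfl⟩ := exists_factor _ b
    obtain ⟨α, rfl⟩ := Spec.map_surjective a'
    obtain ⟨β, rfl⟩ := Spec.map_surjective b'
    rw [Category.assoc, Category.assoc, Sigma.ι_desc, Sigma.ι_desc, ← Spec.map_comp, ← Spec.map_comp] at hab
    have h8 : CommRingCat.ofHom (φ i) ≫ α = CommRingCat.ofHom (φ j) ≫ β := Spec.map_injective hab
    have h9 : α.hom.comp (φ i) = β.hom.comp (φ j) := congrArg CommRingCat.Hom.hom h8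
    have h10 := ht (IsLocalRing.closedPoint K)
    rw [Category.assoc, Sigma.ι_desc, ← Spec.map_comp] at h10
    have h11 : PrimeSpectrum.asIdeal ((Spec.map (CommRingCat.ofHom (φ i) ≫ α)) (IsLocalRing.closedPoint K)) =
        RingHom.ker (α.hom.comp (φ i)) := by
      change (IsLocalRing.maximalIdeal K).comap (α.hom.comp (φ i)) = _
      rw [IsLocalRing.maximalIdeal_eq_bot]
      rfl
    have h12 : ¬ (RingHom.ker (α.hom.comp (φ i))).IsMaximal := by
      rw [← h11]
      exact h10
    have hpr : (RingHom.ker (α.hom.comp (φ i))).IsPrime := RingHom.ker_isPrime _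
    have h13 := (Ring.krullDimLE_one_iff.1 ‹_› _ hpr).resolve_right h12
    have key : ∀ k : {p : Ideal O // p ∈ minimalPrimes O}, ∀ γ : C k →+* K, γ.comp (φ k) = α.hom.comp (φ i) →
        k.1 = RingHom.ker (α.hom.comp (φ i)) := by
      intro k γ hγ
      have h14 : k.1 ≤ RingHom.ker (α.hom.comp (φ i)) := by
        rw [← h6 k, ← hγ]
        intro x hx
        rw [RingHom.mem_ker] at hx ⊢
        rw [RingHom.comp_apply, hx, map_zero]
      exact le_antisymm h14 (h13.2 ⟨k.2.1.1, bot_le⟩ h14)
    have hij : i = j := Subtype.ext ((key i α.hom rfl).trans (key j β.hom h9.symm).symm)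
    subst hij
    have h15 := hom_eq (φ i) (h6' i) α.hom β.hom h9 ((key i α.hom rfl).symm.trans (h6 i).symm)
    have h16 : α = β := CommRingCat.hom_ext h15
    rw [h16]

end K632.FqAlg
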