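import Groth.Agent.AlgSp.K632.DimOne

/-!
# Sheaves all of whose finite sets of points have affine open neighbourhoods

No algebraicity is assumed; `HasPts X` : the points of `X` come from a scheme.
-/

set_option autoImplicit false
universe u
open CategoryTheory CategoryTheory.Limits AlgebraicGeometry Topology TopologicalSpace Opposite
open AlgSp

namespace K632.Fq

open K650.Sat K632.DimOne

variable {S : Scheme.{u}}

/-- The points of `X` come from a scheme. -/
def HasPts (X : Sp S) : Prop := ∃ (V : Over S) (v : (yon S).obj V ⟶ X), Function.Surjective (Points.map v)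

theorem injective_of_mono {X Z : Sp S} (j : Z ⟶ X) [Mono j] : Function.Injective (Points.map j) := by
  intro x y h
  obtain ⟨z, rfl, rfl⟩ := K647.Pts.exists_point (IsKernelPair.id_of_mono j) x y h
  rfl

theorem HasPts.exists_ofPt {X : Sp S} (h : HasPts X) : ∃ (V : Over S) (v : (yon S).obj V ⟶ X),
    ∀ x : Points X, ∃ t : V.left, Points.ofPt v t = x := by
  obtain ⟨V, v, hv⟩ := h
  refine ⟨V, v, fun x => ?_⟩
  obtain ⟨y, rfl⟩ := hv x
  obtain ⟨t, rfl⟩ := K647.Pts.exists_ofPt y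
  exact ⟨t, by rw [Points.ofPt_eq_map_ofScheme]⟩

theorem hasPts_yon (T : Over S) : HasPts ((yon S).obj T) :=
  ⟨T, 𝟙 _, fun x => ⟨x, Points.map_id x⟩⟩

theorem HasPts.prod {X : Sp S} (h : HasPts X) (T : Over S) : HasPts (X ⨯ (yon S).obj T) := by
  obtain ⟨V, v, hv⟩ := h
  refine ⟨V ⨯ T, (PreservesLimitPair.iso (yon S) V T).hom ≫ prod.map v (𝟙 _), fun z => ?_⟩
  obtain ⟨y, hy⟩ := hv (Points.map prod.fst z)
  obtain ⟨w, -, hw⟩ := K647.Pts.exists_point (K625.Prod.isPullback_map_left ((yon S).obj T) v) y z hy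
  refine ⟨Points.map (PreservesLimitPair.iso (yon S) V T).inv w, ?_⟩
  rw [← Points.map_comp, Iso.inv_hom_id_assoc]
  exact hw

theorem HasPts.of_isPullback {X Z X' : Sp S} {Z' : Sp S} {p : X' ⟶ X} {q : X' ⟶ Z'} {f : X ⟶ Z} {c : Z' ⟶ Z}
    (sq : IsPullback p q f c) (hX : HasPts X') (hc : Function.Surjective (Points.map c)) : HasPts X := by
  obtain ⟨V, v, hv⟩ := hX
  refine ⟨V, v ≫ p, fun x => ?_⟩
  obtain ⟨z, hz⟩ := hc (Points.map f x)
  obtain ⟨y, rfl, -⟩ := K647.Pts.exists_point sq x z hz.symm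
  obtain ⟨w, rfl⟩ := hv y
  exact ⟨w, Points.map_comp _ _ _⟩

theorem exists_rep {X : Sp S} (hX : HasPts X) (h : ∀ x : Points X, InAffine X {x}) :
    ∃ Y : Over S, Nonempty ((yon S).obj Y ≅ X) := by
  obtain ⟨V, v, hv⟩ := hX.exists_ofPt
  choose T j hT hj hx using fun t : V.left => h (Points.ofPt v t)
  obtain ⟨H, e, -⟩ := K610.ZarGlue.exists_iso_of_openCover T j hj (fun x => by
    obtain ⟨t, rfl⟩ := hv x
    refine ⟨t, ?_⟩
    rw [← K610.SchLocus.range_ofPt]
    exact hx t rfl)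
  exact ⟨H, ⟨e⟩⟩

/-- The scheme representing a sheaf in which finite sets of points have affine neighbourhoods. -/
theorem exists_rep_FA {X : Sp S} (hX : HasPts X) (h : FA X) :
    ∃ (Y : Over S) (_ : (yon S).obj Y ≅ X), ∀ F : Set Y.left, F.Finite → ∃ U : Y.left.Opens,
      IsAffineOpen U ∧ F ⊆ U := by
  obtain ⟨Y, ⟨e⟩⟩ := exists_rep hX fun x => h _ (Set.finite_singleton x)
  refine ⟨Y, e, fun F hF => ?_⟩
  obtain ⟨T, j, hT, hj, hFj⟩ := h (Points.ofPt e.hom '' F) (hF.image _)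
  obtain ⟨φ, hφ, hφ'⟩ := exists_hom e j hj
  refine ⟨φ.left.opensRange, isAffineOpen_opensRange φ.left, fun y hy => ?_⟩
  obtain ⟨t, ht⟩ := hFj ⟨y, hy, rfl⟩
  refine ⟨t, ofPt_injective e ?_⟩
  rw [← ht, ← hφ, K647.Pts.ofPt_map]

/-- Finite disjoint unions of the base. -/
theorem fa_sigma {X : Sp S} (hX : HasPts X) {ι : Type*} [Finite ι] (N : Over S) (C : ι → Over S)
    (c : ∀ i, C i ⟶ N) (hc : ∀ i, IsOpenImmersion (c i).left) (hcov : ∀ n : N.left, ∃ i m, (c i).left m = n)
    (hdisj : ∀ i j m m', (c i).left m = (c j).left m' → i = j) (h : ∀ i, FA (X ⨯ (yon S).obj (C i))) :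
    FA (X ⨯ (yon S).obj N) := by
  intro E hE
  have hb : ∀ i, RepWith @IsOpenImmersion (K626.W5.bcMap X (c i)) := fun i => by
    have := hc i
    exact K626.W5.openImm_bcMap X (c i)
  have hinj : ∀ i, Function.Injective (Points.map (K626.W5.bcMap X (c i))) := fun i => by
    have := K610.Factor.mono_of_isOpenImmersion (hb i)
    exact injective_of_mono _
  have hsurj : ∀ x : Points (X ⨯ (yon S).obj N), ∃ i y, Points.map (K626.W5.bcMap X (c i)) y = x := fun x => by
    obtain ⟨n, hn⟩ := K647.Pts.exists_ofPt (Points.map prod.snd x)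
    obtain ⟨i, m, rfl⟩ := hcov n
    obtain ⟨z, -, hz⟩ := K647.Pts.exists_point (K625.Prod.isPullback_map_right X ((yon S).map (c i)))
      (Points.ofScheme (C i) m) x (by rw [← hn, K609.Points.map_yon_map_ofScheme])
    exact ⟨i, z, hz⟩
  have hd : ∀ i j y z, Points.map (K626.W5.bcMap X (c i)) y = Points.map (K626.W5.bcMap X (c j)) z → i = j :=
    fun i j y z hyz => by
      obtain ⟨m, hm⟩ := K647.Pts.exists_ofPt (Points.map prod.snd y)
      obtain ⟨m', hm'⟩ := K647.Pts.exists_ofPt (Points.map prod.snd z)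
      refine hdisj i j m m' (K609.Points.ofScheme_injective N ?_)
      rw [← K609.Points.map_yon_map_ofScheme, ← K609.Points.map_yon_map_ofScheme, hm, hm']
      have h1 := congrArg (Points.map prod.snd) hyz
      rw [← Points.map_comp, ← Points.map_comp, prod.map_snd, prod.map_snd, Points.map_comp, Points.map_comp] at h1
      exact h1
  obtain ⟨Y, ⟨e⟩⟩ := exists_rep (hX.prod N) fun x => by
    obtain ⟨i, y, rfl⟩ := hsurj x
    refine (InAffine.of_open (hb i) (h i {y} (Set.finite_singleton y))).mono ?_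
    rw [Set.image_singleton]
  have hfin : ∀ i, (Points.map (K626.W5.bcMap X (c i)) ⁻¹' E).Finite := fun i => hE.preimage (hinj i).injOn
  choose T j hT hj hEj using fun i => h i _ (hfin i)
  choose φ hφ hφ' using fun i => exists_hom e (j i ≫ K626.W5.bcMap X (c i))
    (MorphismProperty.comp_mem (RepWith @IsOpenImmersion) _ _ (hj i) (hb i))
  have hU : IsAffineOpen (⨆ i, (φ i).left.opensRange) := by
    refine IsAffineOpen.iSup_of_disjoint (fun i => isAffineOpen_opensRange _) fun i k hik => ?_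
    rw [Function.onFun, ← Opens.coe_disjoint, Set.disjoint_left]
    rintro _ ⟨t, rfl⟩ ⟨t', ht'⟩
    refine hik (hd i k (Points.ofPt (j i) t) (Points.ofPt (j k) t') ?_)
    rw [Points.map_ofPt, Points.map_ofPt, ← hφ, ← hφ, K647.Pts.ofPt_map, K647.Pts.ofPt_map, ht']
  refine ⟨Over.mk ((⨆ i, (φ i).left.opensRange).ι ≫ Y.hom),
    (yon S).map (Over.homMk (⨆ i, (φ i).left.opensRange).ι rfl) ≫ e.hom, hU, ?_, ?_⟩
  · refine MorphismProperty.comp_mem (RepWith @IsOpenImmersion) _ _ ((repWith_yon_map_iff _ _).2 ?_)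
      (K610.SchLocus.repWith_iso e)
    exact (inferInstance : IsOpenImmersion (⨆ i, (φ i).left.opensRange).ι)
  · intro x hx
    obtain ⟨i, y, rfl⟩ := hsurj x
    obtain ⟨t, rfl⟩ := hEj i hx
    have h1 : (φ i).left t ∈ (⨆ i, (φ i).left.opensRange) := Opens.mem_iSup.2 ⟨i, t, rfl⟩
    refine ⟨⟨(φ i).left t, h1⟩, ?_⟩
    rw [Points.map_ofPt, ← hφ, K647.Pts.ofPt_map, K647.Pts.ofPt_map]
    rfl

/-- Finite fibres. -/
theorem finite_fibre {X : Sp S} {Y : Over S} {g : (yon S).obj Y ⟶ X} (hX : HasPts X)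
    (hq : RepWith @LocallyQuasiFinite g) (hqc : RepWith @QuasiCompact g) (x : Points X) :
    {y : Y.left | Points.ofPt g y = x}.Finite := by
  obtain ⟨V, p, hps⟩ := hX.exists_ofPt
  obtain ⟨W, i, q, sq⟩ := hq.1 p
  have h1 : LocallyQuasiFinite i.left := hq.2 p q i sq
  have h2 : QuasiCompact i.left := hqc.2 p q i sq
  obtain ⟨v, rfl⟩ := hps x
  have h4 : (i.left ⁻¹' {v}).Finite := i.left.finite_preimage_singleton v
  let a : W.left → Y.left := ((yon S).preimage q).left
  refine (h4.image a).subset fun y hy => ?_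
  have hy' : Points.map g (Points.ofScheme Y y) = Points.ofPt p v := by
    rw [← Points.ofPt_eq_map_ofScheme]
    exact hy
  obtain ⟨w, hw, hw'⟩ := K647.Pts.exists_point_rep sq _ v hy'
  refine ⟨w, hw', K609.Points.ofScheme_injective Y ?_⟩
  rw [← hw]
  change Points.ofScheme Y (((yon S).preimage q).left w) = _
  rw [← K609.Points.ofPt_yon_map, (yon S).map_preimage]

end K632.Fq
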