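import Mathlib

/-!
# The closed points of a semi-local ring
-/

set_option autoImplicit false
universe u
open CategoryTheory CategoryTheory.Limits AlgebraicGeometry

namespace K632.FqClosed

theorem exists_closed (O : Type u) [CommRing O] [Finite (MaximalSpectrum O)] :
    ∃ (ι : Type u) (_ : Finite ι) (k : ι → Type u) (_ : ∀ i, Field (k i)) (φ : ∀ i, O →+* k i),
      IsClosedImmersion (Sigma.desc fun i => Spec.map (CommRingCat.ofHom (φ i))) ∧
      ∀ x : Spec (CommRingCat.of O), (PrimeSpectrum.asIdeal x).IsMaximal →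
        x ∈ Set.range (Sigma.desc fun i => Spec.map (CommRingCat.ofHom (φ i))) := by
  have hm : ∀ m : MaximalSpectrum O, m.asIdeal.IsMaximal := fun m => m.isMaximal
  let k : MaximalSpectrum O → Type u := fun m => O ⧸ m.asIdeal
  let F : ∀ m, Field (k m) := fun m => Ideal.Quotient.field m.asIdeal
  let φ : ∀ m, O →+* k m := fun m => Ideal.Quotient.mk m.asIdeal
  have h7 : sigmaSpec (fun i => CommRingCat.of (k i)) ≫ Spec.map (CommRingCat.ofHom (RingHom.pi φ)) =
      Sigma.desc fun i => Spec.map (CommRingCat.ofHom (φ i)) := by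
    refine Sigma.hom_ext _ _ fun i => ?_
    rw [ι_sigmaSpec_assoc, Sigma.ι_desc, ← Spec.map_comp]
    rfl
  have hs : Function.Surjective (RingHom.pi φ) := by
    have h1 := Ideal.quotientInfToPiQuotient_surj (I := fun m : MaximalSpectrum O => m.asIdeal) (by
      intro i j hij
      exact Ideal.isCoprime_of_isMaximal fun h => hij (MaximalSpectrum.ext h))
    intro x
    obtain ⟨y, hy⟩ := h1 x
    obtain ⟨z, rfl⟩ := Ideal.Quotient.mk_surjective y
    exact ⟨z, hy⟩
  refine ⟨MaximalSpectrum O, inferInstance, k, F, φ, ?_, ?_⟩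
  · have : IsClosedImmersion (Spec.map (CommRingCat.ofHom (RingHom.pi φ))) :=
      IsClosedImmersion.spec_of_surjective _ hs
    have h8 : IsClosedImmersion (sigmaSpec (fun i => CommRingCat.of (k i)) ≫
      Spec.map (CommRingCat.ofHom (RingHom.pi φ))) := inferInstance
    rw [h7] at h8
    exact h8
  · intro x hx
    let m : MaximalSpectrum O := ⟨PrimeSpectrum.asIdeal x, hx⟩
    let y : Spec (CommRingCat.of (k m)) := (⊥ : PrimeSpectrum (k m))
    refine ⟨(Sigma.ι (fun i => Spec (CommRingCat.of (k i))) m) y, ?_⟩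
    rw [← Scheme.Hom.comp_apply, Sigma.ι_desc]
    refine PrimeSpectrum.ext ?_
    change (⊥ : Ideal (k m)).comap (Ideal.Quotient.mk m.asIdeal) = PrimeSpectrum.asIdeal x
    rw [← RingHom.ker_eq_comap_bot, Ideal.mk_ker]

end K632.FqClosed
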