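import Groth.Agent.AlgSp.K624.LocSys
import Groth.Agent.AlgSp.K625.Prod

/-!
# The system of basic open neighbourhoods of a localization
-/

set_option autoImplicit false
universe u
open CategoryTheory CategoryTheory.Limits AlgebraicGeometry Topology TopologicalSpace Opposite
open AlgSp

namespace K632.SemiLocSys

variable {A : CommRingCat.{u}}

/-- The elements of a submonoid. -/
structure Nb (M : Submonoid A) : Type u where
  /-- the function -/
  f : A
  /-- it lies in the submonoid -/
  hf : f ∈ M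

variable {M : Submonoid A}

/-- The non-vanishing locus. -/
noncomputable def Nb.U (n : Nb M) : (Spec A).Opens := PrimeSpectrum.basicOpen n.f

noncomputable instance : Preorder (Nb M) := Preorder.lift Nb.U

theorem Nb.le_iff (n m : Nb M) : n ≤ m ↔ n.U ≤ m.U := Iff.rfl

/-- The element `1`. -/
def Nb.one (M : Submonoid A) : Nb M := ⟨1, M.one_mem⟩

instance : Nonempty (Nb M) := ⟨Nb.one M⟩

theorem Nb.le_one (n : Nb M) : n ≤ Nb.one M := by
  rw [Nb.le_iff]
  change _ ≤ PrimeSpectrum.basicOpen (1 : A)
  rw [PrimeSpectrum.basicOpen_one]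
  exact le_top

instance : IsDirected (Nb M) (· ≥ ·) := ⟨fun n m => ⟨⟨n.f * m.f, M.mul_mem n.hf m.hf⟩,
    (Nb.le_iff _ _).2 ((PrimeSpectrum.basicOpen_mul n.f m.f).trans_le inf_le_left),
    (Nb.le_iff _ _).2 ((PrimeSpectrum.basicOpen_mul n.f m.f).trans_le inf_le_right)⟩⟩

instance : IsCofiltered (Nb M) := isCofiltered_of_directed_ge_nonempty _

variable {S : Scheme.{u}} (a : Spec A ⟶ S)

/-- The basic open as a scheme over `S`. -/
noncomputable abbrev O (n : Nb M) : Over S := Over.mk (n.U.ι ≫ a)

theorem isAffine_O (n : Nb M) : IsAffine (O a n).left :=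
  IsAffineOpen.Spec_basicOpen n.f

theorem hom_ext {T V : Over S} [Mono V.hom] (f g : T ⟶ V) : f = g := by
  ext1
  rw [← cancel_mono V.hom]
  exact (Over.w f).trans (Over.w g).symm

variable [Mono a]

instance mono_O (n : Nb M) : Mono (O a n).hom := inferInstanceAs (Mono (n.U.ι ≫ a))

/-- The system of basic open neighbourhoods. -/
noncomputable def sys (M : Submonoid A) (a : Spec A ⟶ S) [Mono a] : Nb M ⥤ Over S where
  obj n := O a n
  map {n m} φ := Over.homMk ((Spec A).homOfLE ((Nb.le_iff n m).1 (leOfHom φ))) (by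
    change (Spec A).homOfLE _ ≫ m.U.ι ≫ a = n.U.ι ≫ a
    rw [Scheme.homOfLE_ι_assoc])
  map_id n := hom_ext _ _
  map_comp {n m k} φ ψ := hom_ext (V := O a k) _ _

/-- The localization. -/
noncomputable abbrev loc (M : Submonoid A) (a : Spec A ⟶ S) : Over S :=
  Over.mk (Spec.map (CommRingCat.ofHom (algebraMap A (Localization M))) ≫ a)

instance mono_loc : Mono (loc M a).hom := by
  have : Epi (CommRingCat.ofHom (algebraMap A (Localization M))) := inferInstance
  have h2 : Mono (Spec.map (CommRingCat.ofHom (algebraMap A (Localization M)))) :=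
    inferInstanceAs (Mono (Scheme.Spec.map (CommRingCat.ofHom (algebraMap A (Localization M))).op))
  exact inferInstanceAs (Mono (Spec.map (CommRingCat.ofHom (algebraMap A (Localization M))) ≫ a))

theorem range_subset (n : Nb M) :
    Set.range (Spec.map (CommRingCat.ofHom (algebraMap A (Localization M)))) ⊆ Set.range n.U.ι := by
  rw [Scheme.Opens.range_ι]
  rintro _ ⟨x, rfl⟩
  intro hx
  have h1 : algebraMap A (Localization M) n.f ∈ PrimeSpectrum.asIdeal x := hx
  exact x.2.ne_top (Ideal.eq_top_of_isUnit_mem _ h1 (IsLocalization.map_units _ (⟨n.f, n.hf⟩ : M)))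

/-- The map from the localization to a basic open. -/
noncomputable def toO (n : Nb M) : loc M a ⟶ O a n :=
  Over.homMk (IsOpenImmersion.lift n.U.ι
    (Spec.map (CommRingCat.ofHom (algebraMap A (Localization M)))) (range_subset n)) (by
      change IsOpenImmersion.lift n.U.ι _ _ ≫ n.U.ι ≫ a = _
      rw [IsOpenImmersion.lift_fac_assoc]
      rfl)

/-- The cone given by the localization. -/
noncomputable def cone (M : Submonoid A) (a : Spec A ⟶ S) [Mono a] : Cone (sys M a) where
  pt := loc M a
  π :=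
    { app := fun n => toO a n
      naturality := fun _ m _ => hom_ext (V := O a m) _ _ }

/-- The structure map to `Spec A`. -/
noncomputable def tA {T : Over S} (k : ∀ n : Nb M, T ⟶ O a n) : T.left ⟶ Spec A := (k (Nb.one M)).left ≫ (Nb.one M).U.ι

theorem tA_eq {T : Over S} (k : ∀ n : Nb M, T ⟶ O a n) (n : Nb M) : (k n).left ≫ n.U.ι = tA a k := by
  rw [← cancel_mono a, tA, Category.assoc, Category.assoc]
  exact (Over.w (k n)).trans (Over.w (k (Nb.one M))).symm

omit [Mono a] in
theorem tA_comp {T : Over S} (k : ∀ n : Nb M, T ⟶ O a n) : tA a k ≫ a = T.hom := by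
  rw [tA, Category.assoc]
  exact Over.w (k (Nb.one M))

theorem exists_lift {T : Over S} (k : ∀ n : Nb M, T ⟶ O a n) : Nonempty (T ⟶ loc M a) := by
  let g : A ⟶ Γ(T.left, ⊤) := (Scheme.ΓSpecIso A).inv ≫ (tA a k).appTop
  have hg : T.left.toSpecΓ ≫ Spec.map g = tA a k := by
    rw [Spec.map_comp, ← Category.assoc, ← Scheme.toSpecΓ_naturality, Category.assoc,
      toSpecΓ_SpecMap_ΓSpecIso_inv, Category.comp_id]
  have hu : ∀ f : M, IsUnit (g.hom (f : A)) := by
    intro f
    refine K624.LocSys.isUnit_of_basicOpen_eq_top _ ?_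
    change T.left.basicOpen ((tA a k).appTop ((Scheme.ΓSpecIso A).inv (f : A))) = ⊤
    rw [← Scheme.preimage_basicOpen_top, basicOpen_eq_of_affine, eq_top_iff]
    intro t _
    have h1 := tA_eq a k ⟨f, f.2⟩
    change (tA a k) t ∈ (⟨f, f.2⟩ : Nb M).U
    rw [← h1, Scheme.Hom.comp_apply]
    exact ((k ⟨f, f.2⟩).left t : (⟨f, f.2⟩ : Nb M).U).2
  let l : CommRingCat.of (Localization M) ⟶ Γ(T.left, ⊤) := CommRingCat.ofHom (IsLocalization.lift (M := M) hu)
  have hl : CommRingCat.ofHom (algebraMap A (Localization M)) ≫ l = g := by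
    ext x
    exact IsLocalization.lift_eq (M := M) hu x
  refine ⟨Over.homMk (T.left.toSpecΓ ≫ Spec.map l) ?_⟩
  change (T.left.toSpecΓ ≫ Spec.map l) ≫ Spec.map _ ≫ a = T.hom
  rw [Category.assoc, ← Spec.map_comp_assoc, hl, ← Category.assoc, hg, tA_comp]

/-- The localization is the limit of the basic open neighbourhoods. -/
noncomputable def isLimit (M : Submonoid A) (a : Spec A ⟶ S) [Mono a] : IsLimit (cone M a) where
  lift s := (exists_lift a fun n => s.π.app n).some
  fac _ n := hom_ext (V := O a n) _ _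
  uniq _ _ _ := hom_ext (V := loc M a) _ _

section prod

variable (X : Sp S)

/-- The system `X × D(f)`. -/
noncomputable abbrev psys (M : Submonoid A) (a : Spec A ⟶ S) [Mono a] : Nb M ⥤ Sp S :=
  (sys M a ⋙ yon S) ⋙ prod.functor.obj X

/-- The cone `X × Spec M⁻¹A`. -/
noncomputable abbrev pcone (M : Submonoid A) (a : Spec A ⟶ S) [Mono a] : Cone (psys X M a) :=
  (prod.functor.obj X).mapCone ((yon S).mapCone (cone M a))

theorem exists_lift_prod {C : Type*} [Category C] [HasBinaryProducts C] (X : C) {J : Type*} [Category J]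
    [IsConnected J] {F : J ⥤ C} {c : Cone F} (hc : IsLimit c) {T : C} (p : ∀ j, T ⟶ X ⨯ F.obj j)
    (hp : ∀ {j k : J} (φ : j ⟶ k), p j ≫ prod.map (𝟙 X) (F.map φ) = p k) :
    ∃ l : T ⟶ X ⨯ c.pt, ∀ j, l ≫ prod.map (𝟙 X) (c.π.app j) = p j := by
  have j₀ : J := Classical.arbitrary J
  have key : ∀ j : J, p j ≫ prod.fst = p j₀ ≫ prod.fst := by
    intro j
    refine constant_of_preserves_morphisms (fun j => (p j ≫ prod.fst : T ⟶ X)) ?_ j j₀
    intro j k φ
    rw [← hp φ, Category.assoc, prod.map_fst, Category.comp_id]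
  let s : Cone F :=
    { pt := T
      π := { app := fun j => p j ≫ prod.snd
             naturality := fun j k φ => by
               change 𝟙 _ ≫ p k ≫ prod.snd = (p j ≫ prod.snd) ≫ F.map φ
               rw [Category.id_comp, ← hp φ, Category.assoc, Category.assoc, prod.map_snd] } }
  refine ⟨prod.lift (p j₀ ≫ prod.fst) (hc.lift s), fun j => ?_⟩
  apply Limits.prod.hom_ext
  · rw [Category.assoc, prod.map_fst, Category.comp_id, prod.lift_fst, key j]
  · rw [Category.assoc, prod.map_snd, prod.lift_snd_assoc]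
    exact hc.fac s j

theorem hom_ext_prod {C : Type*} [Category C] [HasBinaryProducts C] (X : C) {J : Type*} [Category J]
    [IsConnected J] {F : J ⥤ C} {c : Cone F} (hc : IsLimit c) {T : C} (l l' : T ⟶ X ⨯ c.pt)
    (h : ∀ j, l ≫ prod.map (𝟙 X) (c.π.app j) = l' ≫ prod.map (𝟙 X) (c.π.app j)) : l = l' := by
  have j₀ : J := Classical.arbitrary J
  apply Limits.prod.hom_ext
  · have h1 := congrArg (· ≫ prod.fst) (h j₀)
    simpa using h1
  · refine hc.hom_ext fun j => ?_
    have h1 := congrArg (· ≫ prod.snd) (h j)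
    simpa using h1

theorem nonempty_isLimit_prod {C : Type*} [Category C] [HasBinaryProducts C] (X : C) {J : Type*} [Category J]
    [IsConnected J] {F : J ⥤ C} {c : Cone F} (hc : IsLimit c) : Nonempty (IsLimit ((prod.functor.obj X).mapCone c)) :=
  ⟨IsLimit.mk (fun s => (exists_lift_prod X hc (fun j => s.π.app j) (fun φ => s.w φ)).choose)
    (fun s j => (exists_lift_prod X hc (fun j => s.π.app j) (fun φ => s.w φ)).choose_spec j)
    (fun s m hm => hom_ext_prod X hc _ _ fun j => (hm j).trans
      ((exists_lift_prod X hc (fun j => s.π.app j) (fun φ => s.w φ)).choose_spec j).symm)⟩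

theorem nonempty_isLimit_pcone (M : Submonoid A) (a : Spec A ⟶ S) [Mono a] : Nonempty (IsLimit (pcone X M a)) := by
  have h1 : IsLimit ((yon S).mapCone (cone M a)) := isLimitOfPreserves (yon S) (isLimit M a)
  have : IsConnected (Nb M) := IsCofiltered.isConnected _
  exact nonempty_isLimit_prod X h1

end prod

end K632.SemiLocSys
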