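import Groth.Agent.AlgSp.K632.FqCover
import Groth.Agent.AlgSp.K632.SemiLocSys
import Groth.Agent.Sga3B.LocLim789

/-!
# Fpqc sheaves: affine neighbourhoods over a localization spread out
-/

set_option autoImplicit false
universe u
open CategoryTheory CategoryTheory.Limits AlgebraicGeometry Topology TopologicalSpace Opposite
open AlgSp

namespace K632.Fq

open K650.Sat K632.DimOne K628.Fqc K625.Prod K651.FpqcSh K632.SemiLocSys K634.FpqcOpn

variable {S : Scheme.{u}}

theorem isPullback_comp_mono {C : Type*} [Category C] {P X Y Z W : C} {a : P ⟶ X} {b : P ⟶ Y} {f : X ⟶ Z}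
    {g : Y ⟶ Z} (h : IsPullback a b f g) (m : Z ⟶ W) [Mono m] : IsPullback a b (f ≫ m) (g ≫ m) :=
  IsPullback.mk' (by rw [← Category.assoc, h.w, Category.assoc]) (fun T φ φ' h1 h2 => h.hom_ext h1 h2)
    (fun T x y e => by
      have e' : x ≫ f = y ≫ g := by rw [← cancel_mono m, Category.assoc, e, Category.assoc]
      exact ⟨h.lift x y e', h.lift_fst _ _ _, h.lift_snd _ _ _⟩)

/-- Local finite presentation of an open subsheaf. -/
theorem lfp_of_open {X : Sp S} {Z U : Over S} (hZ : IsAffine Z.left) {T X' : Over S} [Flat T.hom]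
    [Surjective T.hom] [QuasiCompact T.hom] {q : X' ⟶ T} [LocallyOfFinitePresentation q.left]
    {p : (yon S).obj X' ⟶ X} (sq : IsPullback p ((yon S).map q) ((isTerminalBase S).from X) ((yon S).map (toBase T)))
    (j : (yon S).obj U ⟶ X ⨯ (yon S).obj Z) (hj : RepWith @IsOpenImmersion j) (v : U ⟶ Z)
    (hv : (yon S).map v = j ≫ prod.snd) : LocallyOfFinitePresentation v.left := by
  obtain ⟨Z', c, Y, y, t, b, p', hZ', hc, sqY, sq'⟩ := exists_square hZ sq
  have hy : LocallyOfFinitePresentation y.left :=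
    MorphismProperty.of_isPullback (P := @LocallyOfFinitePresentation) (sqY.map (Over.forget S))
      (inferInstanceAs (LocallyOfFinitePresentation q.left))
  obtain ⟨W, i, fst, sqW⟩ := hj.1 p'
  have hi : IsOpenImmersion i.left := hj.2 p' fst i sqW
  obtain ⟨w, rfl⟩ := (yon S).map_surjective fst
  have sq2 := sqW.paste_vert sq'
  rw [← hv, ← Functor.map_comp] at sq2
  have sq3 : IsPullback w (i ≫ y) v c := IsPullback.of_map (yon S) (by
    apply (yon S).map_injective
    rw [Functor.map_comp, Functor.map_comp]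
    exact sq2.w) sq2
  have h1 : LocallyOfFinitePresentation (i ≫ y).left :=
    inferInstanceAs (LocallyOfFinitePresentation (i.left ≫ y.left))
  exact MorphismProperty.of_isPullback_of_descendsAlong (P := @LocallyOfFinitePresentation)
    (Q := @Surjective ⊓ @Flat ⊓ @QuasiCompact) (sq3.map (Over.forget S)).flip hc.mem h1

/-- **Affine neighbourhoods of finite sets over a localization spread out.** -/
theorem inAffine_of_loc [QuasiSeparatedSpace ↥S] {X : Sp S} (hX : IsFpqcSh X) {T X' : Over S} [Flat T.hom]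
    [Surjective T.hom] [QuasiCompact T.hom] {q : X' ⟶ T} [IsSeparated q.left] [LocallyOfFinitePresentation q.left]
    {p : (yon S).obj X' ⟶ X} (sq : IsPullback p ((yon S).map q) ((isTerminalBase S).from X) ((yon S).map (toBase T)))
    {A : CommRingCat.{u}} (M : Submonoid A) (a : Spec A ⟶ S) [IsOpenImmersion a]
    {E : Set (Points (X ⨯ (yon S).obj (loc M a)))} (h : InAffine (X ⨯ (yon S).obj (loc M a)) E) :
    InAffine X (Points.map prod.fst '' E) := by
  obtain ⟨U, j, hU, hj, hE⟩ := h
  let Z : Over S := Over.mk a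
  have hZ : IsAffine Z.left := (inferInstance : IsAffine (Spec A))
  obtain ⟨Z', c, Y₀, y₀, t, b, p', hZ', hc, sqY, sq'⟩ := exists_square hZ sq
  have hy1 : LocallyOfFinitePresentation y₀.left :=
    MorphismProperty.of_isPullback (P := @LocallyOfFinitePresentation) (sqY.map (Over.forget S))
      (inferInstanceAs (LocallyOfFinitePresentation q.left))
  have hy2 : IsSeparated y₀.left :=
    MorphismProperty.of_isPullback (P := @IsSeparated) (sqY.map (Over.forget S))
      (inferInstanceAs (IsSeparated q.left))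
  let τ : (sys M a).obj (Nb.one M) ⟶ Z := Over.homMk (U := O a (Nb.one M)) (Nb.one M).U.ι rfl
  have hlocaff : IsAffine (loc M a).left := (inferInstance : IsAffine (Spec (CommRingCat.of (Localization M))))
  have hlocaff' : IsAffine (cone M a).pt.left := hlocaff
  obtain ⟨v, hv⟩ : ∃ v : U ⟶ (cone M a).pt, (yon S).map v = j ≫ prod.snd := (yon S).map_surjective (j ≫ prod.snd)
  have hv1 : LocallyOfFinitePresentation v.left := lfp_of_open hlocaff sq j hj v hv
  have hv2 : IsAffineHom v.left := inferInstance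
  have hv3 : QuasiCompact v.left := inferInstance
  have hv4 : QuasiSeparated v.left := inferInstance
  have hcaff : IsAffineHom c.left := inferInstance
  have ho : OpnIm (prod.snd : X ⨯ (yon S).obj Z ⟶ _) ((cone M a).π.app (Nb.one M) ≫ τ)
      (j ≫ K626.W5.bcMap X ((cone M a).π.app (Nb.one M) ≫ τ)) v :=
    ⟨X ⨯ (yon S).obj (loc M a), K626.W5.bcMap X ((cone M a).π.app (Nb.one M) ≫ τ), prod.snd, j,
      (K625.Prod.isPullback_map_right X ((yon S).map ((cone M a).π.app (Nb.one M) ≫ τ))).flip, rfl, hv.symm, hj⟩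
  have hconn : IsConnected (Nb M) := IsCofiltered.isConnected _
  have hlim : IsLimit ((Over.forget S).mapCone (cone M a)) := isLimitOfPreserves (Over.forget S) (isLimit M a)
  obtain ⟨n, φ, Y, y, r, ρ, hoY, sqρ, hρ, hr1, hr2, hr3⟩ := exists_opn (sys M a) (cone M a) (hX.prod (isFpqcSh_yon Z)) hc
    hcaff sq' hlim (fun i => isAffine_O a i) (Nb.one M) τ ho
  -- affine at a later stage
  have hOn : IsAffine ((sys M a).obj n).left := isAffine_O a n
  obtain ⟨ι, hιa, hιo, hιr⟩ : ∃ ι : ((sys M a).obj n).left ⟶ Spec A, ι ≫ a = ((sys M a).obj n).hom ∧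
      IsOpenImmersion ι ∧
      ((cone M a).π.app n).left ≫ ι = Spec.map (CommRingCat.ofHom (algebraMap A (Localization M))) :=
    ⟨n.U.ι, rfl, (inferInstance : IsOpenImmersion (Scheme.Opens.ι n.U)),
      IsOpenImmersion.lift_fac (Scheme.Opens.ι n.U) _ (range_subset n)⟩
  have hι : IsAffineHom ι := inferInstance
  have hιm : Mono ι := inferInstance
  have hιq : QuasiCompact ι := inferInstance
  have hιs : QuasiSeparated ι := inferInstance
  have hrι1 : QuasiCompact (r.left ≫ ι) := inferInstance
  have hrι2 : QuasiSeparated (r.left ≫ ι) := inferInstance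
  have sq5 : IsPullback ρ.left v.left r.left ((cone M a).π.app n).left := sqρ.map (Over.forget S)
  have sq4 : IsPullback ρ.left v.left (r.left ≫ ι) (((cone M a).π.app n).left ≫ ι) :=
    isPullback_comp_mono sq5 ι
  rw [hιr] at sq4
  have haff : IsAffine (pullback (r.left ≫ ι) (Spec.map (CommRingCat.ofHom (algebraMap A (Localization M))))) :=
    IsAffine.of_isIso (sq4.isoPullback).inv
  obtain ⟨g, hg, hgaff⟩ := Groth.Agent.Sga3B.LocLim789.exists_isAffineOpen (M := M) (Localization M) (r.left ≫ ι) haff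
  let W : Y.left.Opens := (r.left ≫ ι) ⁻¹ᵁ (PrimeSpectrum.basicOpen g)
  -- the open immersion
  have hy : RepWith @IsOpenImmersion y := by
    obtain ⟨P, α, β, l, sqP, hl1, hl2, hl3⟩ := hoY
    have h1 : IsOpenImmersion ((sys M a).map φ ≫ τ).left := by
      have h2 : ((sys M a).map φ ≫ τ).left = ι := by
        rw [← cancel_mono a, hιa]
        exact Over.w ((sys M a).map φ ≫ τ)
      rw [h2]
      exact hιo
    have h3 : RepWith @IsOpenImmersion α :=
      K606.RepWithBasic.of_isPullback sqP.flip ((repWith_yon_map_iff _ _).2 h1)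
    rw [← hl1]
    exact MorphismProperty.comp_mem (RepWith @IsOpenImmersion) _ _ hl3 h3
  have hfst : RepWith @IsOpenImmersion (prod.fst : X ⨯ (yon S).obj Z ⟶ X) :=
    K625.Prod.repWith_fst @IsOpenImmersion X Z (inferInstanceAs (IsOpenImmersion a))
  refine ⟨opnObj W, (yon S).map (opnInc W) ≫ y ≫ prod.fst, hgaff,
    MorphismProperty.comp_mem (RepWith @IsOpenImmersion) _ _ ((repWith_yon_map_iff _ _).2 inferInstance)
      (MorphismProperty.comp_mem (RepWith @IsOpenImmersion) _ _ hy hfst), ?_⟩
  rintro _ ⟨z, hz, rfl⟩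
  obtain ⟨u, rfl⟩ := hE hz
  have hu : ρ.left u ∈ W := by
    change (r.left ≫ ι) (ρ.left u) ∈ PrimeSpectrum.basicOpen g
    rw [← Scheme.Hom.comp_apply, sq4.w, Scheme.Hom.comp_apply]
    intro hx
    have h1 : algebraMap A (Localization M) g ∈ PrimeSpectrum.asIdeal (v.left u) := hx
    exact (PrimeSpectrum.isPrime (R := Localization M) (v.left u)).ne_top
      (Ideal.eq_top_of_isUnit_mem _ h1 (IsLocalization.map_units _ (⟨g, hg⟩ : M)))
  refine ⟨⟨ρ.left u, hu⟩, ?_⟩
  rw [K647.Pts.ofPt_map]
  change Points.ofPt (y ≫ prod.fst) (ρ.left u) = _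
  rw [← K647.Pts.ofPt_map, ← Category.assoc, hρ, Category.assoc, Points.map_ofPt]
  congr 1
  rw [prod.map_fst, Category.comp_id]

end K632.Fq
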