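import Groth.Agent.AlgSp.K632.FqSemi
import Groth.Agent.AlgSp.K632.FqSpread
import Groth.Agent.AlgSp.K632.SemiLocRing

/-!
# Fpqc sheaves over a locally Noetherian base of dimension at most one

An fpqc sheaf which becomes a separated scheme locally of finite presentation after a faithfully flat quasi-compact base
change, and whose base changes to semi-local Dedekind schemes are schemes of type (FA), is a scheme of type (FA).
-/

set_option autoImplicit false
universe u
open CategoryTheory CategoryTheory.Limits AlgebraicGeometry Topology TopologicalSpace Opposite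
open AlgSp

namespace K632.Fq

open K650.Sat K632.DimOne K628.Fqc K625.Prod K651.FpqcSh K632.SemiLocSys K632.SemiLocRing

variable {S : Scheme.{u}}

/-- A finite set of points over an affine open of the base. -/
theorem inAffine (hP : PinchT S) [IsLocallyNoetherian S] (hS : topologicalKrullDim ↥S ≤ 1) {X : Sp S}
    (hX : IsFpqcSh X) {T X' : Over S} [Flat T.hom] [Surjective T.hom] [QuasiCompact T.hom] {q : X' ⟶ T}
    [IsSeparated q.left] [LocallyOfFinitePresentation q.left] {p : (yon S).obj X' ⟶ X}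
    (sq : IsPullback p ((yon S).map q) ((isTerminalBase S).from X) ((yon S).map (toBase T)))
    (hD : DedFA X) {V : S.Opens} (hV : IsAffineOpen V) (E : Set (Points X)) (hE : E.Finite)
    (hEV : ∀ x ∈ E, ∃ v ∈ V, Points.map ((isTerminalBase S).from X) x =
      Points.ofScheme (Over.mk (𝟙 S)) v) : InAffine X E := by
  have hp : ∀ x ∈ E, ∃ p : Spec Γ(S, V), Points.map ((isTerminalBase S).from X) x =
      Points.ofScheme (Over.mk (𝟙 S)) (hV.fromSpec p) := fun x hx => by
    obtain ⟨v, hv, hxv⟩ := hEV x hx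
    have h1 : v ∈ Set.range hV.fromSpec := by rw [hV.range_fromSpec]; exact hv
    obtain ⟨p, rfl⟩ := h1
    exact ⟨p, hxv⟩
  choose pr hpr using hp
  let s : Set (PrimeSpectrum Γ(S, V)) := Set.range fun x : E => pr x.1 x.2
  have hEf : Finite E := hE.to_subtype
  have hs : s.Finite := Set.finite_range _
  have hfin := finite_maximalSpectrum hs
  have hk : Ring.KrullDimLE 1 Γ(S, V) := krullDimLE_of_isAffineOpen hS hV
  have hk' := krullDimLE (A := Γ(S, V)) (away s)
  have hn : IsNoetherianRing Γ(S, V) := IsLocallyNoetherian.component_noetherian ⟨V, hV⟩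
  have hn' : IsNoetherianRing (Localization (away s)) := IsLocalization.isNoetherianRing (away s) _ hn
  have hFA := fa_semiLocal hP hX sq hD (Localization (away s))
    (Spec.map (CommRingCat.ofHom (algebraMap Γ(S, V) (Localization (away s)))) ≫ hV.fromSpec)
  have hz : ∀ x : E, ∃ z : Points (X ⨯ (yon S).obj (loc (away s) hV.fromSpec)), Points.map prod.fst z = x.1 := fun x => by
    have h2 := mem_range (s := s) (p := pr x.1 x.2) ⟨x, rfl⟩
    obtain ⟨r, hr⟩ := h2
    let r' : (loc (away s) hV.fromSpec).left := r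
    obtain ⟨z, hz, -⟩ := K647.Pts.exists_point (isPullback_prod X ((yon S).obj (loc (away s) hV.fromSpec)))
      x.1 (Points.ofScheme (loc (away s) hV.fromSpec) r') (by
        rw [hpr x.1 x.2, from_eq, K609.Points.map_yon_map_ofScheme]
        congr 1
        change _ = (Spec.map (CommRingCat.ofHom (algebraMap Γ(S, V) (Localization (away s)))) ≫ hV.fromSpec) r'
        rw [Scheme.Hom.comp_apply]
        congr 1
        exact hr.symm)
    exact ⟨z, hz⟩
  choose z hz using hz
  refine (inAffine_of_loc hX sq (away s) hV.fromSpec (hFA (Set.range z) (Set.finite_range z))).mono ?_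
  intro x hx
  exact ⟨z ⟨x, hx⟩, ⟨_, rfl⟩, hz ⟨x, hx⟩⟩

/-- **Fpqc sheaves over a locally Noetherian base of dimension at most one.** -/
theorem main (hP : PinchT S) [IsLocallyNoetherian S] (hS : topologicalKrullDim ↥S ≤ 1) {X : Sp S}
    (hX : IsFpqcSh X) {T X' : Over S} [Flat T.hom] [Surjective T.hom] [QuasiCompact T.hom] {q : X' ⟶ T}
    [IsSeparated q.left] [LocallyOfFinitePresentation q.left] {p : (yon S).obj X' ⟶ X}
    (sq : IsPullback p ((yon S).map q) ((isTerminalBase S).from X) ((yon S).map (toBase T)))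
    (hD : DedFA X) : ∃ (Q : Over S) (_ : (yon S).obj Q ≅ X), ∀ (E : Set ↥Q.left), E.Finite →
      (∃ V : S.Opens, IsAffineOpen V ∧ E ⊆ (Q.hom ⁻¹ᵁ V : Set ↥Q.left)) →
        ∃ U : Q.left.Opens, IsAffineOpen U ∧ E ⊆ (U : Set ↥Q.left) := by
  obtain ⟨Q, ⟨e⟩⟩ := exists_rep (hasPts sq) fun x => by
    obtain ⟨v, hv⟩ := K647.Pts.exists_ofPt (Points.map ((isTerminalBase S).from X) x)
    obtain ⟨V, hV, hvV, -⟩ := exists_isAffineOpen_mem_and_subset (U := ⊤) (show v ∈ (⊤ : S.Opens) from trivial)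
    refine inAffine hP hS hX sq hD hV {x} (Set.finite_singleton x) ?_
    rintro _ rfl
    exact ⟨v, hvV, hv.symm⟩
  refine ⟨Q, e, fun E hE ⟨V, hV, hEV⟩ => ?_⟩
  obtain ⟨U, j, hU, hj, hEj⟩ := inAffine hP hS hX sq hD hV (Points.ofPt e.hom '' E) (hE.image _) (by
    rintro _ ⟨y, hy, rfl⟩
    refine ⟨Q.hom y, hEV hy, ?_⟩
    rw [Points.ofPt_eq_map_ofScheme, ← Points.map_comp]
    have h1 : e.hom ≫ (isTerminalBase S).from X = (yon S).map (toBase Q) :=
      (isTerminalBase S).hom_ext _ _
    rw [h1, K609.Points.map_yon_map_ofScheme]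
    rfl)
  obtain ⟨φ, hφ, hφ'⟩ := exists_hom e j hj
  refine ⟨φ.left.opensRange, isAffineOpen_opensRange φ.left, fun y hy => ?_⟩
  obtain ⟨t, ht⟩ := hEj ⟨y, hy, rfl⟩
  refine ⟨t, ofPt_injective e ?_⟩
  rw [← ht, ← hφ, K647.Pts.ofPt_map]

/-- **Reduction to semi-local Dedekind schemes.** -/
theorem main_R (hP : PinchT S) [IsLocallyNoetherian S] (hS : topologicalKrullDim ↥S ≤ 1) {X : Sp S}
    (hX : IsFpqcSh X) {T X' : Over S} [Flat T.hom] [Surjective T.hom] [QuasiCompact T.hom] {q : X' ⟶ T}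
    [IsSeparated q.left] [LocallyOfFinitePresentation q.left] {p : (yon S).obj X' ⟶ X}
    (sq : IsPullback p ((yon S).map q) ((isTerminalBase S).from X) ((yon S).map (toBase T)))
    (hA : ∀ (C : Type u) [CommRing C] [IsDedekindDomain C] [Finite (MaximalSpectrum C)]
      (g : Spec (CommRingCat.of C) ⟶ S), IsAlgSpace ((K595.ChBase.R g).obj X))
    (h : ∀ (C : Type u) [CommRing C] [IsDedekindDomain C] [Finite (MaximalSpectrum C)]
      (g : Spec (CommRingCat.of C) ⟶ S) (E : Set (Points ((K595.ChBase.R g).obj X))), E.Finite →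
        K650.Sat.InAffine ((K595.ChBase.R g).obj X) E) :
    ∃ (Q : Over S) (_ : (yon S).obj Q ≅ X), ∀ (E : Set ↥Q.left), E.Finite →
      (∃ V : S.Opens, IsAffineOpen V ∧ E ⊆ (Q.hom ⁻¹ᵁ V : Set ↥Q.left)) →
        ∃ U : Q.left.Opens, IsAffineOpen U ∧ E ⊆ (U : Set ↥Q.left) := by
  refine main hP hS hX sq fun C _ _ _ g => ?_
  obtain ⟨Y, e, hY⟩ := FA.exists_rep (hA C g) (h C g)
  exact fa_of_rep (Y := (Over.map g).obj Y)
    (K595.ChBase.yonIso (g := g) Y ≪≫ (K595.ChBase.L g).mapIso e ≪≫ K595.ChBase.isoProd X ≪≫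
      prod.braiding _ _) hY

end K632.Fq
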