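import Groth.Agent.AlgSp.K632.FqCover
import Groth.Agent.AlgSp.K632.FqAlg
import Groth.Agent.AlgSp.K632.FqClosed

/-!
# Fpqc sheaves over a semi-local Noetherian scheme of dimension at most one
-/

set_option autoImplicit false
universe u
open CategoryTheory CategoryTheory.Limits AlgebraicGeometry Topology TopologicalSpace Opposite
open AlgSp

namespace K632.Fq

open K650.Sat K632.DimOne K628.Fqc K625.Prod K651.FpqcSh

variable {S : Scheme.{u}}

/-- The pinching statement. -/
def PinchT (S : Scheme.{u}) : Prop :=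
  ∀ {G : Sp S} {Z Z' X' : Over S} {f : G ⟶ (yon S).obj Z} {c : Z' ⟶ Z} {p : (yon S).obj X' ⟶ G} {q : X' ⟶ Z'},
    IsFpqcSh G → FqC c → IsAffine Z.left → IsAffine Z'.left → IsPullback p ((yon S).map q) f ((yon S).map c) →
    IsSeparated q.left → ∀ {D GD : Over S} {d : D ⟶ Z} {j : (yon S).obj GD ⟶ G} {δ : GD ⟶ D},
    IsPullback j ((yon S).map δ) f ((yon S).map d) → IsIntegralHom d.left → Surjective d.left →
    K622.AnDefs.FinAff GD.left → ∀ {C GC : Over S} {i : C ⟶ Z} {jC : (yon S).obj GC ⟶ G} {γ : GC ⟶ C},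
    IsPullback jC ((yon S).map γ) f ((yon S).map i) → IsClosedImmersion i.left → K622.AnDefs.FinAff GC.left →
    (∀ x : Points G, {y | Points.ofPt j y = x}.Finite) →
    (∀ (K : Type u) [Field K] (a b : Spec (CommRingCat.of K) ⟶ D.left), a ≫ d.left = b ≫ d.left →
      (∀ t, (a ≫ d.left) t ∉ Set.range i.left) → a = b) →
    ∀ E : Set (Points G), E.Finite → InAffine G E

/-- Base changes to finite disjoint unions of affine schemes. -/
theorem fa_coprod {X : Sp S} (hX : HasPts X) {ι : Type u} [Finite ι] {O : Type u} [CommRing O]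
    (o : Spec (CommRingCat.of O) ⟶ S) (C : ι → Type u) [∀ i, CommRing (C i)] (φ : ∀ i, O →+* C i)
    (h : ∀ i, FA (X ⨯ (yon S).obj (Over.mk (Spec.map (CommRingCat.ofHom (φ i)) ≫ o)))) :
    FA (X ⨯ (yon S).obj (Over.mk ((Sigma.desc fun i => Spec.map (CommRingCat.ofHom (φ i))) ≫ o))) := by
  let N : Over S := Over.mk ((Sigma.desc fun i => Spec.map (CommRingCat.ofHom (φ i))) ≫ o)
  let c : ∀ i, Over.mk (Spec.map (CommRingCat.ofHom (φ i)) ≫ o) ⟶ N := fun i =>
    Over.homMk (U := Over.mk (Spec.map (CommRingCat.ofHom (φ i)) ≫ o)) (V := N)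
      (Sigma.ι (fun i => Spec (CommRingCat.of (C i))) i) (by
        change Sigma.ι (fun i => Spec (CommRingCat.of (C i))) i ≫ _ ≫ o = _
        rw [Sigma.ι_desc_assoc]
        rfl)
  refine fa_sigma hX N _ c (fun i => ?_) ?_ ?_ h
  · exact (inferInstance : IsOpenImmersion (Sigma.ι (fun i => Spec (CommRingCat.of (C i))) i))
  · intro x
    obtain ⟨y, hy⟩ := (sigmaOpenCover fun i => Spec (CommRingCat.of (C i))).covers x
    exact ⟨_, y, hy⟩
  · intro i j m m' hm
    exact (Sigma.mk.inj_iff.1 ((sigmaι_eq_iff _ _ _ _ _).1 hm)).1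

/-- **Semi-local Noetherian bases of dimension at most one.** -/
theorem fa_semiLocal (hP : PinchT S) {X : Sp S} (hX : IsFpqcSh X) {T X' : Over S} [Flat T.hom] [Surjective T.hom]
    [QuasiCompact T.hom] {q : X' ⟶ T} [IsSeparated q.left] {p : (yon S).obj X' ⟶ X}
    (sq : IsPullback p ((yon S).map q) ((isTerminalBase S).from X) ((yon S).map (toBase T)))
    (hD : DedFA X) (O : Type u) [CommRing O] [IsNoetherianRing O] [Ring.KrullDimLE 1 O] [Finite (MaximalSpectrum O)]
    (o : Spec (CommRingCat.of O) ⟶ S) : FA (X ⨯ (yon S).obj (Over.mk o)) := by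
  have hpts := hasPts sq
  obtain ⟨ι, hι, C, h1, h2, h3, φ, hφi, hφs, hφq, hφinj⟩ := K632.FqAlg.exists_cover O
  obtain ⟨ι', hι', k, hk, ψ, hψc, hψr⟩ := K632.FqClosed.exists_closed O
  let Z : Over S := Over.mk o
  have hZ : IsAffine Z.left := (inferInstance : IsAffine (Spec (CommRingCat.of O)))
  obtain ⟨Z', c, Y, y, t, b, p', hZ', hc, sqY, sq'⟩ := exists_square hZ sq
  have hy : IsSeparated y.left := by
    have h := sqY.map (Over.forget S)
    exact MorphismProperty.of_isPullback (P := @IsSeparated) h (inferInstanceAs (IsSeparated q.left))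
  have hDN := fa_coprod hpts o C φ fun i => hD (C i) _
  have hCN := fa_coprod hpts o k ψ fun i => hD (k i) _
  let d : Over.mk ((Sigma.desc fun i => Spec.map (CommRingCat.ofHom (φ i))) ≫ o) ⟶ Z :=
    Over.homMk (Sigma.desc fun i => Spec.map (CommRingCat.ofHom (φ i))) rfl
  let i : Over.mk ((Sigma.desc fun i => Spec.map (CommRingCat.ofHom (ψ i))) ≫ o) ⟶ Z :=
    Over.homMk (Sigma.desc fun i => Spec.map (CommRingCat.ofHom (ψ i))) rfl
  obtain ⟨GD, e, δ, sqD, hGD⟩ := exists_piece hpts d hDN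
  obtain ⟨GC, e', γ, sqC, hGC⟩ := exists_piece hpts i hCN
  have hdi : IsIntegralHom d.left := hφi
  have hds : Surjective d.left := hφs
  have hdq : LocallyQuasiFinite d.left := hφq
  have hic : IsClosedImmersion i.left := hψc
  have hg3 : RepWith @LocallyQuasiFinite (e.hom ≫ K626.W5.bcMap X d) :=
    K606.RepWithBasic.precomp_iso e (K625.Prod.repWith_map_right @LocallyQuasiFinite X d hdq)
  have hg4 : RepWith @QuasiCompact (e.hom ≫ K626.W5.bcMap X d) :=
    K606.RepWithBasic.precomp_iso e (K625.Prod.repWith_map_right @QuasiCompact X d inferInstance)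
  refine hP (hX.prod (isFpqcSh_yon Z)) hc hZ hZ' sq' hy sqD hdi hds hGD sqC hic hGC
    (fun x => finite_fibre (hpts.prod Z) hg3 hg4 x) ?_
  intro K _ a b hab ht
  refine hφinj K a b hab fun t hm => ht t (hψr _ hm)

end K632.Fq
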