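import Groth.Agent.AlgSp.K632.FqMain
import Groth.Agent.AlgSp.K626.Pinch

/-!
# Fpqc sheaves over a locally Noetherian base of dimension at most one: final form
-/

set_option autoImplicit false
universe u
open CategoryTheory CategoryTheory.Limits AlgebraicGeometry Topology TopologicalSpace Opposite
open AlgSp

namespace K632.Fq

open K650.Sat K632.DimOne K628.Fqc K625.Prod K651.FpqcSh

theorem pinchT (S : Scheme.{u}) : PinchT S := by
  intro G Z Z' X' f c p q hG hc hZ hZ' sq _ D GD d j δ sqD h1 h2 hD C GC i jC γ sqC h3 hC hfin hinj E hE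
  exact K626.Pinch.main hG hc hZ hZ' sq sqD hD sqC hC hfin hinj E hE

end K632.Fq
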