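import Groth.Agent.AlgSp.K632.IntThick
import Groth.Agent.AlgSp.K597.EtLoc
import Groth.Agent.AlgSp.K597.LocP
import Groth.Agent.AlgSp.K610.Factor
import Groth.Agent.S1313
import Groth.Agent.S1316

/-!
# Finite morphisms and immersions over thickenings of algebraic spaces

For a cartesian square `X = Y ×_{Y'} X'` over a thickening `Y ⊂ Y'` with `f'` locally of finite type, `f'` is finite
(resp. a closed immersion, an immersion) as soon as `f` is; in particular `f'` is representable.
-/

set_option autoImplicit false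
universe u
open CategoryTheory CategoryTheory.Limits AlgebraicGeometry Opposite

namespace K632.Global

open AlgSp K632.Basic K632.Chart K632.IntThick

variable {S : Scheme.{u}}

theorem repWith_mono {P Q : MorphismProperty Scheme.{u}}
    (h : ∀ ⦃X Y : Scheme.{u}⦄ (f : X ⟶ Y), P f → Q f) {F G : Sp S} {f : F ⟶ G} (hf : RepWith P f) :
    RepWith Q f := ⟨hf.1, fun _ _ g fst snd sq => h _ (hf.2 g fst snd sq)⟩

theorem repWith_isFinite {X X' Y Y' : Sp S} (hX' : IsAlgSpace X') (hY' : IsAlgSpace Y')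
    {i : X ⟶ X'} {j : Y ⟶ Y'} {f : X ⟶ Y} {f' : X' ⟶ Y'}
    (sq : IsPullback i f f' j) (hj : IsThickMor j) (hf' : LocP @LocallyOfFiniteType f')
    (hf : RepWith @IsFinite f) : RepWith @IsFinite f' := by
  have hi : IsThickMor i := IsThickMor.of_isPullback sq.flip hj
  have h1 : RepWith @IsIntegralHom f := repWith_mono (fun X Y f h => by
    have : IsFinite f := h
    exact (inferInstance : IsIntegralHom f)) hf
  have h2 := repWith_isIntegralHom hX' hY' hi hj sq.w h1
  have h3 := K597.repWith_of_locP K597.etLoc_lft hY'.hasAtlas h2.1 hf'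
  refine ⟨h2.1, fun U V g fst snd s => ?_⟩
  exact (IsFinite.iff_isIntegralHom_and_locallyOfFiniteType _).2 ⟨h2.2 _ _ _ s, h3.2 _ _ _ s⟩

theorem repWith_isClosedImmersion {X X' Y Y' : Sp S} (hX' : IsAlgSpace X') (hY' : IsAlgSpace Y')
    {i : X ⟶ X'} {j : Y ⟶ Y'} {f : X ⟶ Y} {f' : X' ⟶ Y'}
    (sq : IsPullback i f f' j) (hj : IsThickMor j) (hf' : LocP @LocallyOfFiniteType f')
    (hf : RepWith @IsClosedImmersion f) : RepWith @IsClosedImmersion f' := by
  have h1 : RepWith @IsFinite f := repWith_mono (fun X Y f h => by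
    have : IsClosedImmersion f := h
    exact (inferInstance : IsFinite f)) hf
  have h2 : RepWith @LocallyOfFiniteType f' :=
    K597.repWith_of_locP K597.etLoc_lft hY'.hasAtlas (repWith_isFinite hX' hY' sq hj hf' h1).1 hf'
  refine repWith_of_thick (P := @IsClosedImmersion) (Q := @LocallyOfFiniteType) ?_ sq hj h2 hf
  intro A A' B B' iA iB g g' ht hc hg' hg
  have : LocallyOfFiniteType g' := hg'
  have : IsClosedImmersion g := hg
  exact (Groth.Agent.S1313.result iA iB g g' ht hc).1 hg

theorem representable_of_isImmersion {X X' Y Y' : Sp S} (hX' : IsAlgSpace X') (hY' : IsAlgSpace Y')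
    {i : X ⟶ X'} {j : Y ⟶ Y'} {f : X ⟶ Y} {f' : X' ⟶ Y'}
    (sq : IsPullback i f f' j) (hj : IsThickMor j) (hf' : LocP @LocallyOfFiniteType f')
    (hf : RepWith @IsImmersion f) : Representable f' := by
  have hi : IsThickMor i := IsThickMor.of_isPullback sq.flip hj
  intro T' g
  have hP' : IsAlgSpace (pullback f' g) := K613.Chart.isAlgSpace_pullback hX' (IsAlgSpace.yon_obj _) hY' f' g
  have sq' : IsPullback (pullback.fst f' g) (pullback.snd f' g) f' g := IsPullback.of_hasPullback _ _
  obtain ⟨T, P, τ, k, π, e, ι, h1, h2, h3, h4, h5, h6⟩ := exists_thin_pullback hi hj sq.w hf.1 g sq'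
  have hτ1 : IsClosedImmersion τ.left := h6.1
  have hτ2 : Surjective τ.left := h6.2
  have hπ : IsImmersion π.left := hf.2 _ _ _ h2
  have hcart : IsPullback ι ((yon S).map π) (pullback.snd f' g) ((yon S).map τ) := by
    refine IsPullback.of_right (h₁₂ := pullback.fst f' g) (h₂₂ := g) (v₁₃ := f') ?_ (by rw [h5, Functor.map_comp]) sq'
    rw [← h3.w, ← h1.w]
    exact h2.paste_horiz sq
  -- the open subschemes
  have hemb : Topology.IsClosedEmbedding τ.left := τ.left.isClosedEmbedding
  have hopen : IsOpenMap τ.left := by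
    intro O hO
    have h := hemb.isClosedMap _ hO.isClosed_compl
    rw [Set.image_compl_eq ⟨hemb.injective, hτ2.surj⟩] at h
    exact isClosed_compl_iff.1 h
  let O : T.left.Opens := π.left.coborderRange
  let O' : T'.left.Opens := ⟨τ.left '' O, hopen _ O.isOpen⟩
  let o : Over.mk (O.ι ≫ T.hom) ⟶ T := Over.homMk O.ι rfl
  let o' : Over.mk (O'.ι ≫ T'.hom) ⟶ T' := Over.homMk O'.ι rfl
  have ho : IsOpenImmersion o.left := (inferInstance : IsOpenImmersion O.ι)
  have ho' : IsOpenImmersion o'.left := (inferInstance : IsOpenImmersion O'.ι)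
  let c : P ⟶ Over.mk (O.ι ≫ T.hom) := Over.homMk π.left.liftCoborder (by
    change π.left.liftCoborder ≫ O.ι ≫ T.hom = P.hom
    rw [← Category.assoc, Scheme.Hom.liftCoborder_ι, Over.w])
  have hc : c ≫ o = π := by
    apply Over.OverMorphism.ext
    exact π.left.liftCoborder_ι
  have hcc : IsClosedImmersion c.left := (inferInstance : IsClosedImmersion π.left.liftCoborder)
  have hr : Set.range (O.ι ≫ τ.left) ⊆ Set.range O'.ι := by
    rw [Scheme.Opens.range_ι]
    rintro _ ⟨x, rfl⟩
    exact ⟨O.ι x, x.2, (Scheme.Hom.comp_apply _ _ _).symm⟩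
  let μ : Over.mk (O.ι ≫ T.hom) ⟶ Over.mk (O'.ι ≫ T'.hom) :=
    Over.homMk (IsOpenImmersion.lift O'.ι (O.ι ≫ τ.left) hr) (by
      simp)
  have hμ : μ ≫ o' = o ≫ τ := by
    apply Over.OverMorphism.ext
    exact IsOpenImmersion.lift_fac _ _ _
  have sq1 : IsPullback μ.left o.left o'.left τ.left := by
    refine IsOpenImmersion.isPullback _ _ _ _ (congrArg (·.left) hμ).symm ?_
    ext x
    rw [Scheme.Hom.coe_preimage, Set.mem_preimage, Scheme.Hom.coe_opensRange, Scheme.Hom.coe_opensRange]
    have e1 : Set.range o'.left = τ.left '' O := O'.range_ι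
    have e2 : Set.range o.left = O := O.range_ι
    rw [e1, e2]
    exact ⟨fun ⟨y, hy, h⟩ => hemb.injective h ▸ hy, fun h => ⟨x, h, rfl⟩⟩
  have sq2 : IsPullback μ o o' τ := IsPullback.of_map (Over.forget S) hμ sq1
  have sq3 := sq2.map (yon S)
  have hO' : RepWith @IsOpenImmersion ((yon S).map o') := (repWith_yon_map_iff _ _).2 ho'
  -- `P' ⟶ T'` factors through `O'`
  obtain ⟨p'', hp''⟩ : ∃ p'' : pullback f' g ⟶ (yon S).obj (Over.mk (O'.ι ≫ T'.hom)),
      p'' ≫ (yon S).map o' = pullback.snd f' g := by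
    rw [K610.Factor.factors_open_iff hO']
    rintro _ ⟨x', rfl⟩
    have hs : Function.Surjective (Points.map ι) := (K609.Points.repWith_surjective_iff h4.1).1
      (repWith_mono (fun X Y f h => h.2) h4)
    obtain ⟨x, rfl⟩ := hs x'
    rw [← Points.map_comp]
    have e : ι ≫ pullback.snd f' g = (yon S).map (c ≫ μ) ≫ (yon S).map o' := by
      rw [h5, ← Functor.map_comp, Category.assoc, hμ, ← Category.assoc, hc]
    rw [e]
    exact K610.Factor.range_comp_subset _ _ ⟨x, rfl⟩
  have hom : Mono ((yon S).map o') := K610.Factor.mono_of_isOpenImmersion hO'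
  have sq4 : IsPullback ι ((yon S).map c) p'' ((yon S).map μ) := by
    refine IsPullback.of_bot (h₃₁ := (yon S).map τ) (v₂₁ := (yon S).map o) (v₂₂ := (yon S).map o') ?_ ?_ sq3
    · rw [hp'', ← Functor.map_comp, hc]
      exact hcart
    · rw [← cancel_mono ((yon S).map o'), Category.assoc, hp'', h5, Category.assoc, ← Functor.map_comp,
        ← Functor.map_comp, hμ, ← Category.assoc, hc]
  have hμt : IsThickMor ((yon S).map μ) := IsThickMor.of_isPullback sq3.flip
    ((repWith_yon_map_iff thick τ).2 h6)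
  have hl : LocP @LocallyOfFiniteType (pullback.snd f' g) := K597.locP_bc K597.etLoc_lft sq' hX'.hasAtlas
    hY'.hasAtlas (IsAlgSpace.yon_obj T').hasAtlas hf'
  have hl' : LocP @LocallyOfFiniteType p'' := by
    rw [← hp''] at hl
    exact K597.locP_of_comp' K597.etLoc_lft (fun A B C u v h => by
      have : LocallyOfFiniteType (u ≫ v) := h
      exact locallyOfFiniteType_of_comp u v) hP'.hasAtlas (IsAlgSpace.yon_obj _).hasAtlas
      (IsAlgSpace.yon_obj _).hasAtlas hl
  have hcl : RepWith @IsClosedImmersion p'' := repWith_isClosedImmersion hP' (IsAlgSpace.yon_obj _) sq4 hμt hl'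
    ((repWith_yon_map_iff _ _).2 hcc)
  obtain ⟨W, a, b, hW⟩ := hcl.1 (𝟙 _)
  have hb : IsIso b := hW.isIso_fst_of_isIso
  refine ⟨W, a ≫ o', b ≫ pullback.fst f' g, ?_⟩
  have e : b ≫ pullback.snd f' g = (yon S).map (a ≫ o') := by
    rw [← hp'', ← Category.assoc, hW.w, Category.comp_id, Functor.map_comp]
  exact IsPullback.of_iso sq' (asIso b).symm (Iso.refl _) (Iso.refl _) (Iso.refl _) (by simp) (by simp [← e])
    (by simp) (by simp)

theorem repWith_isImmersion {X X' Y Y' : Sp S} (hX' : IsAlgSpace X') (hY' : IsAlgSpace Y')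
    {i : X ⟶ X'} {j : Y ⟶ Y'} {f : X ⟶ Y} {f' : X' ⟶ Y'}
    (sq : IsPullback i f f' j) (hj : IsThickMor j) (hf' : LocP @LocallyOfFiniteType f')
    (hf : RepWith @IsImmersion f) : RepWith @IsImmersion f' := by
  have h2 : RepWith @LocallyOfFiniteType f' :=
    K597.repWith_of_locP K597.etLoc_lft hY'.hasAtlas (representable_of_isImmersion hX' hY' sq hj hf' hf) hf'
  refine repWith_of_thick (P := @IsImmersion) (Q := @LocallyOfFiniteType) ?_ sq hj h2 hf
  intro A A' B B' iA iB g g' ht hc hg' hg
  have : LocallyOfFiniteType g' := hg'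
  have : IsImmersion g := hg
  exact (Groth.Agent.S1316.result iA iB g g' ht hc).1 hg

end K632.Global
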