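import Groth.Agent.AlgSp.K632.Global
import Groth.Agent.AlgSp.K617.FinLoc
import Groth.Agent.S10587
import Groth.Agent.S10589

/-!
# Closed immersions, proper and finite morphisms, immersions over thickenings (equivalences)
-/

set_option autoImplicit false
universe u
open CategoryTheory CategoryTheory.Limits AlgebraicGeometry Opposite

namespace K632.GlobalIff

open AlgSp K632.Basic K632.Chart K632.Global

variable {S : Scheme.{u}}

theorem locP_lft_of_repWith {P : MorphismProperty Scheme.{u}}
    (h : ∀ ⦃X Y : Scheme.{u}⦄ (f : X ⟶ Y), P f → LocallyOfFiniteType f) {F G : Sp S} {f : F ⟶ G}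
    (hf : RepWith P f) : LocP @LocallyOfFiniteType f :=
  K597.locP_of_repWith K597.etLoc_lft.precomp (repWith_mono (Q := @LocallyOfFiniteType) h hf)

theorem all {X X' Y Y' : AlgSp.Space S} (i : X ⟶ X') (j : Y ⟶ Y')
    (f : X ⟶ Y) (f' : X' ⟶ Y') (hi : AlgSp.IsThickMor i.hom)
    (hj : AlgSp.IsThickMor j.hom) (w : i ≫ f' = f ≫ j)
    (hcart : IsPullback i.hom f.hom f'.hom j.hom)
    (hft : AlgSp.LocP @LocallyOfFiniteType f.hom → AlgSp.LocP @LocallyOfFiniteType f'.hom) :
    (AlgSp.RepWith @IsClosedImmersion f.hom ↔ AlgSp.RepWith @IsClosedImmersion f'.hom) ∧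
    (AlgSp.IsProperMor f.hom ↔ AlgSp.IsProperMor f'.hom) ∧
    (AlgSp.IsFiniteMor f.hom ↔ AlgSp.IsFiniteMor f'.hom) ∧
    (AlgSp.RepWith @IsImmersion f.hom ↔ AlgSp.RepWith @IsImmersion f'.hom) := by
  have hlft : LocP @LocallyOfFiniteType f'.hom → LocP @LocallyOfFiniteType f.hom := fun h =>
    K597.locP_bc K597.etLoc_lft hcart X'.property.hasAtlas Y'.property.hasAtlas Y.property.hasAtlas h
  obtain ⟨t1, t2, t3, -, -⟩ := Groth.Agent.S10587.result i j f f' hi hj w
  have hsep := (Groth.Agent.S10589.result i j f f' hi hj w).1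
  refine ⟨⟨fun h => ?_, fun h => repWith_of_isPullback hcart h⟩, ?_, ?_,
    ⟨fun h => ?_, fun h => repWith_of_isPullback hcart h⟩⟩
  · refine repWith_isClosedImmersion X'.property Y'.property hcart hj (hft ?_) h
    exact locP_lft_of_repWith (fun X Y f h => by
      have : IsClosedImmersion f := h
      infer_instance) h
  · constructor
    · rintro ⟨a, ⟨b, c⟩, d⟩
      exact ⟨hsep.1 a, ⟨hft b, t2.1 c⟩, t3.1 d⟩
    · rintro ⟨a, ⟨b, c⟩, d⟩
      exact ⟨hsep.2 a, ⟨hlft b, t2.2 c⟩, t3.2 d⟩
  · rw [K617.FinLoc.isFiniteMor_iff, K617.FinLoc.isFiniteMor_iff]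
    refine ⟨fun h => ?_, fun h => repWith_of_isPullback hcart h⟩
    refine repWith_isFinite X'.property Y'.property hcart hj (hft ?_) h
    exact locP_lft_of_repWith (fun X Y f h => by
      have : IsFinite f := h
      infer_instance) h
  · refine repWith_isImmersion X'.property Y'.property hcart hj (hft ?_) h
    exact locP_lft_of_repWith (fun X Y f h => by
      have : IsImmersion f := h
      infer_instance) h

end K632.GlobalIff
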