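import Groth.Agent.AlgSp.K632.HomMain
import Groth.Agent.AlgSp.K632.FATwo
import Groth.Agent.AlgSp.K632.FlatClos
import Groth.Agent.AlgSp.K612.ConclOpn
import Groth.Agent.AlgSp.K612.NodeU
import Groth.Agent.AlgSp.K629.Fppf

/-!
# Homogeneous spaces over a semi-local Dedekind domain: reduction to the flat case and to fields
-/

set_option autoImplicit false
universe u
open CategoryTheory CategoryTheory.Limits AlgebraicGeometry Opposite MonoidalCategory
  CartesianMonoidalCategory MonObj AlgSp

namespace K632.HomDed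

open K632.FlatClos

variable {S : Scheme.{u}}

/-- A morphism of sheaves which lifts locally over a chart of the target is an epimorphism. -/
theorem epi_of_chart {A B : Sp S} (f : A ⟶ B) {P : Over S} (p : (yon S).obj P ⟶ B) [Epi p] {I : Type u}
    (W : I → Over S) (c : ∀ i, W i ⟶ P) (l : ∀ i, (yon S).obj (W i) ⟶ A)
    (hl : ∀ i, l i ≫ f = (yon S).map (c i) ≫ p)
    (hc : ∀ i, (@Flat ⊓ @LocallyOfFinitePresentation : MorphismProperty Scheme.{u}) (c i).left)
    (hs : ∀ v : ↥P.left, ∃ i, v ∈ Set.range (c i).left) : Epi f := by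
  refine ⟨fun {Z} u v huv => ?_⟩
  rw [← cancel_epi p]
  refine K610.Site.eq_of_cover fun x => ?_
  obtain ⟨i, hi⟩ := hs x
  refine ⟨W i, c i, (hc i).1, (hc i).2, hi, ?_⟩
  rw [← Category.assoc, ← hl, ← Category.assoc, ← hl, Category.assoc, Category.assoc, huv]

variable {E : Over S}

/-- **The flat closure of a homogeneous space.** -/
theorem exists_flat (hE : IsDed E) {G M : Over ((yon S).obj (Over.mk (𝟙 S)))} [GrpObj G] (act : GAction G M)
    (hG : IsAlgSpace G.left) (hM : IsAlgSpace M.left) (he : Epi (lift act.act (snd G M)).left) :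
    ∃ (H N : Over ((yon S).obj (Over.mk (𝟙 S)))) (_ : GrpObj H) (b : GAction H N) (i : H ⟶ G) (c : N ⟶ M),
      RepWith @IsClosedImmersion i.left ∧ RepWith @IsClosedImmersion c.left ∧ IsAlgSpace H.left ∧ IsAlgSpace N.left ∧
      FlatSp H.left ∧ FlatSp N.left ∧ Epi (lift b.act (snd H N)).left ∧
      ∀ (F : Sp S) (_ : F ⟶ (yon S).obj E) (f : F ⟶ M.left), ∃ k : F ⟶ N.left, k ≫ c.left = f := by
  obtain ⟨H, _, i, _, hi, hil, hH, hic, hHf, -, huH, -, -, -⟩ := exists_grp hE G hG
  obtain ⟨Z, c₀, hZ, hc, hcm, hZf, huM, hgM, -⟩ := exists_flatClos hE hM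
  let N : Over ((yon S).obj (Over.mk (𝟙 S))) := Over.mk (c₀ ≫ M.hom)
  let c : N ⟶ M := Over.homMk c₀ rfl
  have hcl : Mono c.left := hcm
  have hc' : Mono c := Over.mono_of_mono_left c
  have key : ∀ (F : Over ((yon S).obj (Over.mk (𝟙 S)))), IsAlgSpace F.left → FlatSp F.left → ∀ f : F ⟶ M,
      ∃ k : F ⟶ N, k ≫ c = f := by
    intro F hF hFf f
    obtain ⟨k, hk⟩ := huM F.left hF hFf f.left
    refine ⟨Over.homMk k ?_, ?_⟩
    · change k ≫ c₀ ≫ M.hom = F.hom
      rw [← Category.assoc, hk, Over.w]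
    · ext1
      exact hk
  have hHN : IsAlgSpace (H ⊗ N).left :=
    K613.Chart.isAlgSpace_of_isPullback (IsAlgSpace.yon_obj _).diag hH hZ (IsPullback.of_hasPullback H.hom N.hom)
  have hHNf : FlatSp (H ⊗ N).left :=
    FlatSp.of_isPullback hH hZ hHf hZf (IsPullback.of_hasPullback H.hom N.hom)
  obtain ⟨b, hb⟩ := key (H ⊗ N) hHN hHNf ((i ⊗ₘ c) ≫ act.act)
  let bact : GAction H N :=
    { act := b
      one_act := by
        rw [← cancel_mono c, Category.assoc, hb, ← tensorHom_id, tensorHom_comp_tensorHom_assoc,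
          IsMonHom.one_hom, Category.id_comp, tensorHom_def', Category.assoc, act.one_act, leftUnitor_naturality]
      mul_act := by
        rw [← cancel_mono c, Category.assoc, hb, ← tensorHom_id, tensorHom_comp_tensorHom_assoc, IsMonHom.mul_hom,
          Category.id_comp, Category.assoc, Category.assoc, hb, ← id_tensorHom, tensorHom_comp_tensorHom_assoc, hb,
          Category.id_comp]
        have h1 : ((i ⊗ₘ i) ≫ μ[G]) ⊗ₘ c = ((i ⊗ₘ i) ⊗ₘ c) ≫ (μ[G] ▷ M) := by
          rw [← tensorHom_id, tensorHom_comp_tensorHom, Category.comp_id]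
        have h2 : i ⊗ₘ ((i ⊗ₘ c) ≫ act.act) = (i ⊗ₘ (i ⊗ₘ c)) ≫ (G ◁ act.act) := by
          rw [← id_tensorHom, tensorHom_comp_tensorHom, Category.comp_id]
        rw [h1, h2, Category.assoc, act.mul_act, associator_naturality_assoc, Category.assoc] }
  refine ⟨H, N, inferInstance, bact, i, c, hic, hc, hH, hZ, hHf, hZf, ?_, hgM⟩
  have hNN : IsAlgSpace (N ⊗ N).left :=
    K613.Chart.isAlgSpace_of_isPullback (IsAlgSpace.yon_obj _).diag hZ hZ (IsPullback.of_hasPullback N.hom N.hom)
  have hNNf : FlatSp (N ⊗ N).left :=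
    FlatSp.of_isPullback hZ hZ hZf hZf (IsPullback.of_hasPullback N.hom N.hom)
  obtain ⟨P, p, hp, hps⟩ := hNN.atlas
  have hPf : Flat P.hom := hNNf p hp
  have hpe : Epi p := K610.Site.epi_of_etale hp hps
  obtain ⟨I, W, w, l, hl, hw, hws⟩ := K629.Fppf.exists_lift ((Sheaf.isLocallySurjective_iff_epi _).2 he)
    (p ≫ (c ⊗ₘ c).left)
  have hl' : ∀ j, ∃ l' : (yon S).obj (W j) ⟶ (H ⊗ N).left,
      l' ≫ (lift bact.act (snd H N)).left = (yon S).map (w j) ≫ p := by
    intro j
    have hWf : Flat (W j).hom := by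
      have h1 : Flat (w j).left := (hw j).1
      rw [← Over.w (w j)]
      infer_instance
    obtain ⟨k, hk⟩ := huH _ (IsAlgSpace.yon_obj (W j)) (flatSp_yon hWf) (l j ≫ (fst G M).left)
    let T : Over ((yon S).obj (Over.mk (𝟙 S))) := Over.mk ((K625.Prod.isTerminalBase S).from ((yon S).obj (W j)))
    let lo : T ⟶ G ⊗ M := Over.homMk (l j) ((K625.Prod.isTerminalBase S).hom_ext _ _)
    let po : T ⟶ N ⊗ N := Over.homMk ((yon S).map (w j) ≫ p) ((K625.Prod.isTerminalBase S).hom_ext _ _)
    let ko : T ⟶ H := Over.homMk k ((K625.Prod.isTerminalBase S).hom_ext _ _)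
    have e1 : lo ≫ lift act.act (snd G M) = po ≫ (c ⊗ₘ c) := by
      apply Over.OverMorphism.ext
      change l j ≫ _ = ((yon S).map (w j) ≫ p) ≫ _
      rw [hl, Category.assoc]
    have e2 : ko ≫ i = lo ≫ fst G M := Over.OverMorphism.ext hk
    have e3 : lo ≫ snd G M = po ≫ snd N N ≫ c := by
      have := congrArg (· ≫ snd M M) e1
      simpa using this
    have e4 : lo = lift (ko ≫ i) (po ≫ snd N N ≫ c) := by
      rw [e2, ← e3, ← comp_lift, lift_fst_snd, Category.comp_id]
    refine ⟨(lift ko (po ≫ snd N N)).left, ?_⟩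
    have e5 : lift ko (po ≫ snd N N) ≫ lift bact.act (snd H N) = po := by
      apply CartesianMonoidalCategory.hom_ext
      · rw [Category.assoc, lift_fst, ← cancel_mono c, Category.assoc]
        change lift ko (po ≫ snd N N) ≫ b ≫ c = _
        rw [hb, lift_map_assoc, Category.assoc (po), ← e4]
        have := congrArg (· ≫ fst M M) e1
        simpa using this
      · rw [Category.assoc, lift_snd, lift_snd]
    exact congrArg (·.left) e5
  choose l' hl' using hl'
  exact epi_of_chart _ p W w l' hl' hw hws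

open K622.AnDefs K650.Sat K632.DimOne

theorem repWith_mono' {P Q : MorphismProperty Scheme.{u}} (h : P ≤ Q) {F F' : Sp S} {f : F ⟶ F'}
    (hf : RepWith P f) : RepWith Q f := ⟨hf.1, fun _ _ g fst snd sq => h _ (hf.2 g fst snd sq)⟩

/-- The flat case. -/
theorem fa_of_thmB (hB : ThmB.{u}) {C : Type u} [CommRing C] [IsDedekindDomain C] [Finite (MaximalSpectrum C)]
    (hC : ¬ IsField C) {G M : Over ((yon (Spec (CommRingCat.of C))).obj (Over.mk (𝟙 (Spec (CommRingCat.of C)))))}
    [GrpObj G] (act : GAction G M) (hG : IsAlgSpace G.left) (hGft : LocP @LocallyOfFiniteType G.hom)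
    (hGs : IsSeparatedSp G.left ∨ G.left.obj.IsRepresentable) (hM : IsAlgSpace M.left)
    (hMft : LocP @LocallyOfFiniteType M.hom) (hMs : IsSeparatedSp M.left)
    (he : Epi (lift act.act (snd G M)).left) (hGf : FlatSp G.left) (hMf : FlatSp M.left) : FA M.left := by
  intro E hE
  obtain ⟨U, hU, hUc, hEU⟩ := K650.ThmK.exists_compact_open hM hE
  have hι := K610.Sub.repWith_openPred hU
  have hrange := K610.Sub.range_openPred (X := M.left) U
  set Z := (K610.Sub.openPred (X := M.left) U).sub with hZdef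
  let j : Z ⟶ M.left := (K610.Sub.openPred (X := M.left) U).ι
  have hm : Mono j := K610.Factor.mono_of_isOpenImmersion hι
  have hZ : IsAlgSpace Z := K610.Sub.isAlgSpace_of_mono hι.1 hM
  have hemb := K610.OpenImm.isOpenEmbedding_points hM hι
  have hqcZ : IsQuasiCompactSp Z := by
    rw [K609.QC.isQuasiCompactSp_iff hZ]
    refine ⟨?_⟩
    rw [hemb.isInducing.isCompact_iff, Set.image_univ, hrange]
    exact hUc
  have hN : IsLocNoethSp M.left := K612.NodeU.isLocNoethSp_of_lft hM hMft
  have hNZ : IsLocNoethSp Z := isLocNoethSp_of_repWith hN (repWith_mono' (fun _ _ f hf => by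
      have : IsOpenImmersion f := hf
      infer_instance) hι)
  have hqs : IsQuasiSeparatedSp Z :=
    K647.QcIdl.isQuasiSeparatedSp_of_mono j (K608.GrpSch.isQuasiSeparatedSp_of_isSeparatedSp hMs)
  have hsit : Sit act j := ⟨hG, hGft, hM, hMft, hMs, he, hι, hqcZ⟩
  have hcon := hB C hC G M act Z j hsit hGs hGf hMf
  refine (InAffine.of_open hι (K612.ConclOpn.inAffine_of_concl hZ hNZ hqs hcon (Points.map j ⁻¹' E)
    (hE.preimage hemb.injective.injOn))).mono fun x hx => ?_
  have h1 : x ∈ Set.range (Points.map j) := by rw [hrange]; exact hEU hx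
  obtain ⟨z, rfl⟩ := h1
  exact ⟨z, hx, rfl⟩

/-- The case of a field. -/
def FieldA : Prop := ∀ (k : Type u) [Field k]
  (G M : Over ((yon (Spec (CommRingCat.of k))).obj (Over.mk (𝟙 (Spec (CommRingCat.of k)))))) [GrpObj G]
  (act : GAction G M), IsAlgSpace G.left → LocP @LocallyOfFiniteType G.hom →
  (IsSeparatedSp G.left ∨ G.left.obj.IsRepresentable) →
  IsAlgSpace M.left → LocP @LocallyOfFiniteType M.hom → IsSeparatedSp M.left →
  Epi (lift act.act (snd G M)).left → FA M.left

section closed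

variable (C : Type u) [CommRing C] [IsDedekindDomain C] [Finite (MaximalSpectrum C)]

/-- The residue fields. -/
noncomputable abbrev kq (q : MaximalSpectrum C) : CommRingCat.{u} := CommRingCat.of (C ⧸ q.asIdeal)

/-- The closed points. -/
noncomputable abbrev clo : Over (Spec (CommRingCat.of C)) :=
  Over.mk (sigmaSpec (kq C) ≫ Spec.map (CommRingCat.ofHom (RingHom.pi fun q : MaximalSpectrum C =>
    Ideal.Quotient.mk q.asIdeal)))

instance isClosedImmersion_clo : IsClosedImmersion (clo C).hom := by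
  have h1 : Function.Surjective (RingHom.pi fun q : MaximalSpectrum C => Ideal.Quotient.mk q.asIdeal) := by
    intro x
    obtain ⟨r, hr⟩ := Ideal.pi_quotient_surjective (I := fun q : MaximalSpectrum C => q.asIdeal)
      (fun q q' hqq => Ideal.isCoprime_of_isMaximal (fun h => hqq (MaximalSpectrum.ext h))) x
    exact ⟨r, funext hr⟩
  have h2 : IsClosedImmersion (Spec.map (CommRingCat.ofHom (RingHom.pi fun q : MaximalSpectrum C =>
    Ideal.Quotient.mk q.asIdeal))) := IsClosedImmersion.spec_of_surjective _ h1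
  exact (inferInstance : IsClosedImmersion (sigmaSpec (kq C) ≫ Spec.map (CommRingCat.ofHom
    (RingHom.pi fun q : MaximalSpectrum C => Ideal.Quotient.mk q.asIdeal))))

/-- The inclusion of a closed point. -/
noncomputable abbrev gq (q : MaximalSpectrum C) : Spec (kq C q) ⟶ Spec (CommRingCat.of C) :=
  Spec.map (CommRingCat.ofHom (Ideal.Quotient.mk q.asIdeal))

omit [IsDedekindDomain C] [Finite (MaximalSpectrum C)] in
theorem gq_eq (q : MaximalSpectrum C) : Sigma.ι (fun q => Spec (kq C q)) q ≫ (clo C).hom = gq C q := by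
  change Sigma.ι (fun q => Spec (kq C q)) q ≫ sigmaSpec (kq C) ≫ _ = _
  rw [ι_sigmaSpec_assoc, ← Spec.map_comp]
  rfl

theorem mem_range_clo (s : PrimeSpectrum C) (hs : s.asIdeal.IsMaximal) : s ∈ Set.range (clo C).hom := by
  let q : MaximalSpectrum C := ⟨s.asIdeal, hs⟩
  have h1 : s ∈ Set.range (PrimeSpectrum.comap (Ideal.Quotient.mk q.asIdeal)) := by
    rw [range_comap_of_surjective _ _ Ideal.Quotient.mk_surjective, Ideal.mk_ker]
    exact le_refl s.asIdeal
  obtain ⟨t, ht⟩ := h1
  have h2 : gq C q t = s := ht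
  rw [← gq_eq] at h2
  exact ⟨_, h2⟩

end closed

theorem locP_lft_of_closed {N M : Over ((yon S).obj (Over.mk (𝟙 S)))} (c : N ⟶ M)
    (hc : RepWith @IsClosedImmersion c.left) (hM : IsAlgSpace M.left) (h : LocP @LocallyOfFiniteType M.hom) :
    LocP @LocallyOfFiniteType N.hom := by
  have hc' : Mono c.left := K610.Factor.mono_of_isClosedImmersion hc
  have hN : IsAlgSpace N.left := K610.Sub.isAlgSpace_of_mono hc.1 hM
  have h1 : LocP @LocallyOfFiniteType c.left :=
    (K597.locP_iff_repWith K597.etLoc_lft hM.hasAtlas hc.1).2 (repWith_mono' (fun _ _ f hf => by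
      have : IsClosedImmersion f := hf
      infer_instance) hc)
  rw [← Over.w c]
  exact K597.locP_comp K597.etLoc_lft hN.hasAtlas hM.hasAtlas (IsAlgSpace.yon_obj _).hasAtlas h1 h

/-- The closed fibres. -/
theorem fa_clo (hF : FieldA.{u}) {C : Type u} [CommRing C] [IsDedekindDomain C] [Finite (MaximalSpectrum C)]
    {G M : Over ((yon (Spec (CommRingCat.of C))).obj (Over.mk (𝟙 (Spec (CommRingCat.of C)))))}
    [GrpObj G] (act : GAction G M) (hG : IsAlgSpace G.left) (hGft : LocP @LocallyOfFiniteType G.hom)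
    (hGs : IsSeparatedSp G.left ∨ G.left.obj.IsRepresentable) (hM : IsAlgSpace M.left)
    (hMft : LocP @LocallyOfFiniteType M.hom) (hMs : IsSeparatedSp M.left)
    (he : Epi (lift act.act (snd G M)).left) : FA (M.left ⨯ (yon _).obj (clo C)) := by
  refine fa_sigma hM (clo C) (fun q : MaximalSpectrum C => Over.mk (gq C q))
    (fun q => Over.homMk (Sigma.ι (fun q => Spec (kq C q)) q) (gq_eq C q)) (fun q => ?_) (fun x => ?_) ?_ fun q => ?_
  · exact (inferInstance : IsOpenImmersion (Sigma.ι (fun q => Spec (kq C q)) q))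
  · obtain ⟨y, hy⟩ := (sigmaOpenCover fun q => Spec (kq C q)).covers x
    exact ⟨_, y, hy⟩
  · intro q q' m m' hm
    exact (Sigma.mk.inj_iff.1 ((sigmaι_eq_iff _ _ _ _ _).1 hm)).1
  · have : q.asIdeal.IsMaximal := q.isMaximal
    refine fa_prod_of_R (gq C q) hM ?_
    exact @hF (C ⧸ q.asIdeal) (Ideal.Quotient.field q.asIdeal) ((K624.GrpBC.F (gq C q)).obj G)
      ((K624.GrpBC.F (gq C q)).obj M) _ (K624.GrpBC.gact (gq C q) act)
      (K595.ChBase.isAlgSpace_R hG) (K624.AnBC.locP_hom (gq C q) K597.etLoc_lft hG hGft)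
      (hGs.imp (K624.AnBC.isSeparatedSp_R (gq C q)) (K624.AnBC.isRepresentable_R (gq C q)))
      (K595.ChBase.isAlgSpace_R hM)
      (K624.AnBC.locP_hom (gq C q) K597.etLoc_lft hM hMft) (K624.AnBC.isSeparatedSp_R (gq C q) hMs)
      (K624.GrpBC.epi_lift_act (gq C q) act he)

/-- **Reduction to the flat case and to fields.** -/
theorem main (hB : ThmB.{u}) (hF : FieldA.{u}) : K632.HomMain.A.{u} := by
  intro C _ _ _ G M _ act hG hGft hGs hM hMft hMs he
  by_cases hC : IsField C
  · exact @hF C hC.toField G M _ act hG hGft hGs hM hMft hMs he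
  have hE := isDed_spec C (FractionRing C)
  obtain ⟨H, N, _, b, i, c, hi, hc, hH, hN, hHf, hNf, hbe, hgen⟩ := exists_flat hE act hG hM he
  have hHft : LocP @LocallyOfFiniteType H.hom := locP_lft_of_closed i hi hG hGft
  have hNft : LocP @LocallyOfFiniteType N.hom := locP_lft_of_closed c hc hM hMft
  have hi' : Mono i.left := K610.Factor.mono_of_isClosedImmersion hi
  have hc' : Mono c.left := K610.Factor.mono_of_isClosedImmersion hc
  have hHs : IsSeparatedSp H.left ∨ H.left.obj.IsRepresentable := by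
    refine hGs.imp (fun h => isSeparatedSp_of_mono h i.left) fun h => ?_
    obtain ⟨Y, ⟨e⟩⟩ := K610.ZarGlue.isRepresentable_iff.1 h
    obtain ⟨T₀, t, a, sq⟩ := hi.1 e.hom
    have h2 : IsIso a := sq.isIso_fst_of_isIso
    exact K624.AnBC.isRepresentable_of_iso (asIso a)
  have hNs : IsSeparatedSp N.left := isSeparatedSp_of_mono hMs c.left
  have h1 : FA N.left := fa_of_thmB hB hC b hH hHft hHs hN hNft hNs hbe hHf hNf
  have h2 : FA (M.left ⨯ (yon _).obj (clo C)) := fa_clo hF act hG hGft hGs hM hMft hMs he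
  refine K632.FATwo.fa_of_two hM (K612.NodeU.isLocNoethSp_of_lft hM hMft) c.left prod.fst hc
    (K625.Prod.repWith_fst @IsClosedImmersion M.left (clo C) (isClosedImmersion_clo C)) ?_ h1 h2
  intro x
  obtain ⟨s, hs⟩ := K647.Pts.exists_ofPt (Points.map ((K625.Prod.isTerminalBase _).from M.left) x)
  by_cases hsm : (show PrimeSpectrum C from s).asIdeal = ⊥
  · left
    let E : Over (Spec (CommRingCat.of C)) :=
      Over.mk (Spec.map (CommRingCat.ofHom (algebraMap C (FractionRing C))))
    have h3 : s ∈ Set.range E.hom := by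
      refine ⟨(⊥ : PrimeSpectrum (FractionRing C)), ?_⟩
      apply PrimeSpectrum.ext
      change Ideal.comap (algebraMap C (FractionRing C)) ⊥ = (show PrimeSpectrum C from s).asIdeal
      rw [hsm, ← RingHom.ker_eq_comap_bot]
      exact (RingHom.injective_iff_ker_eq_bot _).1 (IsFractionRing.injective C (FractionRing C))
    obtain ⟨t, rfl⟩ := h3
    obtain ⟨z, hz, -⟩ := K647.Pts.exists_point (K625.Prod.isPullback_prod M.left ((yon _).obj E)) x
      (Points.ofScheme E t) (by
        rw [← hs, K625.Prod.from_eq, K609.Points.map_yon_map_ofScheme]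
        rfl)
    obtain ⟨k, hk⟩ := hgen (M.left ⨯ (yon _).obj E) prod.snd prod.fst
    exact ⟨Points.map k z, by rw [← Points.map_comp, hk, hz]⟩
  · right
    have h3 : (show PrimeSpectrum C from s).asIdeal.IsMaximal :=
      Ring.DimensionLEOne.maximalOfPrime hsm (show PrimeSpectrum C from s).2
    obtain ⟨t, rfl⟩ := mem_range_clo C s h3
    obtain ⟨z, hz, -⟩ := K647.Pts.exists_point (K625.Prod.isPullback_prod M.left ((yon _).obj (clo C))) x
      (Points.ofScheme (clo C) t) (by
        rw [← hs, K625.Prod.from_eq, K609.Points.map_yon_map_ofScheme]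
        rfl)
    exact ⟨z, hz⟩

end K632.HomDed
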