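import Groth.Agent.AlgSp.K632.DimOne
import Groth.Agent.AlgSp.K632.Coset
import Groth.Agent.AlgSp.K624.AnBC

/-!
# Homogeneous spaces over a locally Noetherian base of dimension at most one
-/

set_option autoImplicit false
universe u
open CategoryTheory CategoryTheory.Limits AlgebraicGeometry Opposite MonoidalCategory
  CartesianMonoidalCategory MonObj AlgSp

namespace K632.HomMain

/-- Finite sets of points of a homogeneous space over a semi-local Dedekind domain (possibly a field) are
contained in affine open subspaces. -/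
def A : Prop := ∀ (C : Type u) [CommRing C] [IsDedekindDomain C] [Finite (MaximalSpectrum C)]
  (G M : Over ((yon (Spec (CommRingCat.of C))).obj (Over.mk (𝟙 (Spec (CommRingCat.of C)))))) [GrpObj G]
  (act : GAction G M), IsAlgSpace G.left → LocP @LocallyOfFiniteType G.hom →
  (IsSeparatedSp G.left ∨ G.left.obj.IsRepresentable) →
  IsAlgSpace M.left → LocP @LocallyOfFiniteType M.hom → IsSeparatedSp M.left →
  Epi (lift act.act (snd G M)).left → K632.DimOne.FA M.left

variable {S : Scheme.{u}}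

/-- **Homogeneous spaces** over a locally Noetherian scheme of dimension at most one. -/
theorem main (hA : A.{u}) [IsLocallyNoetherian S] (hS : topologicalKrullDim ↥S ≤ 1)
    {G M : Over ((yon S).obj (Over.mk (𝟙 S)))} [GrpObj G] (act : GAction G M) (hG : IsAlgSpace G.left)
    (hGft : LocP @LocallyOfFiniteType G.hom) (hGs : IsSeparatedSp G.left ∨ G.left.obj.IsRepresentable)
    (hM : IsAlgSpace M.left) (hMft : LocP @LocallyOfFiniteType M.hom) (hMs : IsSeparatedSp M.left)
    (he : Epi (lift act.act (snd G M)).left) :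
    ∃ (Q : Over S) (_ : (yon S).obj Q ≅ M.left), ∀ (E : Set ↥Q.left), E.Finite →
      (∃ V : S.Opens, IsAffineOpen V ∧ E ⊆ (Q.hom ⁻¹ᵁ V : Set ↥Q.left)) →
        ∃ U : Q.left.Opens, IsAffineOpen U ∧ E ⊆ (U : Set ↥Q.left) := by
  have h1 : M.hom = (K625.Prod.isTerminalBase S).from M.left := (K625.Prod.isTerminalBase S).hom_ext _ _
  refine K632.DimOne.main_R hS hM (K608.GrpSch.isQuasiSeparatedSp_of_isSeparatedSp hMs) (h1 ▸ hMft) ?_
  intro C _ _ _ g
  exact hA C ((K624.GrpBC.F g).obj G) ((K624.GrpBC.F g).obj M) (K624.GrpBC.gact g act)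
    (K595.ChBase.isAlgSpace_R hG) (K624.AnBC.locP_hom g K597.etLoc_lft hG hGft)
    (hGs.imp (K624.AnBC.isSeparatedSp_R g) (K624.AnBC.isRepresentable_R g)) (K595.ChBase.isAlgSpace_R hM)
    (K624.AnBC.locP_hom g K597.etLoc_lft hM hMft) (K624.AnBC.isSeparatedSp_R g hMs)
    (K624.GrpBC.epi_lift_act g act he)

/-- **Coset spaces** (S16025). -/
theorem coset (hA : A.{u}) [IsLocallyNoetherian S] (hS : topologicalKrullDim ↥S ≤ 1)
    (G H : Over S) [GrpObj G] [GrpObj H] [LocallyOfFiniteType G.hom] [Flat H.hom]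
    (i : H ⟶ G) [IsMonHom i] [IsClosedImmersion i.left] :
    ∃ (Q : Over S) (_ : (yon S).obj Q ≅ K632.Coset.cs i),
      ∀ (E : Set ↥Q.left), E.Finite → (∃ V : S.Opens, IsAffineOpen V ∧ E ⊆ (Q.hom ⁻¹ᵁ V : Set ↥Q.left)) →
        ∃ U : Q.left.Opens, IsAffineOpen U ∧ E ⊆ (U : Set ↥Q.left) := by
  have h1 : LocallyOfFiniteType H.hom := by
    rw [← Over.w i]
    infer_instance
  have h2 : LocallyOfFinitePresentation H.hom := LocallyOfFinitePresentation.iff_locallyOfFiniteType.2 h1
  obtain ⟨b, hb⟩ := K632.Coset.exists_act i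
  exact main hA hS b (IsAlgSpace.yon_obj G)
    (by
      have h3 : ((K632.Coset.P S).obj G).hom = (yon S).map (K625.Prod.toBase G) :=
        (K625.Prod.isTerminalBase S).hom_ext _ _
      rw [h3]
      exact K632.Coset.locP_yon K597.etLoc_lft _ ‹LocallyOfFiniteType G.hom›)
    (Or.inr ⟨⟨G, ⟨representableByOfIso (Iso.refl _)⟩⟩⟩) (K632.Coset.isAlgSpace i) (K632.Coset.locP_lft i)
    (K632.Coset.isSeparatedSp i) (K632.HomSp.epi_quot _ b (K632.Coset.πo i) hb K632.HomSp.epi_self)

end K632.HomMain
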