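import Groth.Agent.AlgSp.K622.AnDefs
import Groth.Agent.AlgSp.K607.Act
import Groth.Agent.AlgSp.K607.FreeQuot
import Groth.Agent.AlgSp.K610.Site
import Groth.Agent.ShfCat.K186.Epi

/-!
# Quotients of homogeneous sheaves

An action passes to a quotient by an epimorphism whose kernel relation it preserves.
-/

set_option autoImplicit false
universe u
open CategoryTheory CategoryTheory.Limits AlgebraicGeometry Opposite MonoidalCategory
  CartesianMonoidalCategory MonObj AlgSp

namespace K632.HomSp

variable {S : Scheme.{u}} {B : Sp S}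

theorem isPullback_whisker (Z : Over B) {X M : Over B} (π : X ⟶ M) :
    IsPullback (Z ◁ π).left (snd Z X).left (snd Z M).left π.left := by
  refine IsPullback.of_right (h₁₂ := (fst Z M).left) (h₂₂ := M.hom) (v₁₃ := Z.hom) ?_ ?_
    (K607.FreeQuot.isPullback_tensor Z M)
  · rw [← Over.comp_left, whiskerLeft_fst, Over.w π]
    exact K607.FreeQuot.isPullback_tensor Z X
  · rw [← Over.comp_left, whiskerLeft_snd, Over.comp_left]

theorem epi_whisker (Z : Over B) {X M : Over B} (π : X ⟶ M) [h : Epi π.left] : Epi (Z ◁ π).left :=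
  K186.Epi.epi_of_isPullback (isPullback_whisker Z π).flip

theorem epi_of_left {X M : Over B} (π : X ⟶ M) (h : Epi π.left) : Epi π :=
  (Over.forget B).epi_of_epi_map h

theorem isPullback_whiskerRight (Z : Over B) {X M : Over B} (π : X ⟶ M) :
    IsPullback (π ▷ Z).left (fst X Z).left (fst M Z).left π.left := by
  refine IsPullback.of_right (h₁₂ := (snd M Z).left) (h₂₂ := M.hom) (v₁₃ := Z.hom) ?_ ?_
    (K607.FreeQuot.isPullback_tensor M Z).flip
  · rw [← Over.comp_left, whiskerRight_snd, Over.w π]
    exact (K607.FreeQuot.isPullback_tensor X Z).flip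
  · rw [← Over.comp_left, whiskerRight_fst, Over.comp_left]

theorem epi_whiskerRight (Z : Over B) {X M : Over B} (π : X ⟶ M) [h : Epi π.left] : Epi (π ▷ Z).left :=
  K186.Epi.epi_of_isPullback (isPullback_whiskerRight Z π).flip

/-- Descent of a morphism in `Over B`. -/
theorem exists_desc {X M N : Over B} (p : X ⟶ M) [Epi p.left] (m : X ⟶ N)
    (h : ∀ (T : Over S) (β : (yon S).obj T ⟶ B) (a b : Over.mk β ⟶ X), a ≫ p = b ≫ p → a ≫ m = b ≫ m) :
    ∃ d : M ⟶ N, p ≫ d = m := by
  obtain ⟨d, hd⟩ := K610.Site.exists_desc p.left m.left fun T a b hab => by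
    have hβ : b ≫ X.hom = a ≫ X.hom := by rw [← Over.w p, ← Category.assoc, ← hab, Category.assoc]
    exact congrArg (·.left) (h T (a ≫ X.hom) (Over.homMk a rfl) (Over.homMk b hβ)
      (Over.OverMorphism.ext hab))
  refine ⟨Over.homMk d ?_, Over.OverMorphism.ext hd⟩
  rw [← cancel_epi p.left, ← Category.assoc, hd, Over.w m, Over.w p]

variable {G X M : Over B} [GrpObj G]

/-- An action passes to a quotient. -/
theorem exists_quotAct (a : GAction G X) (π : X ⟶ M) [Epi π.left]
    (h : ∀ (T : Over S) (β : (yon S).obj T ⟶ B) (g : Over.mk β ⟶ G) (x y : Over.mk β ⟶ X), x ≫ π = y ≫ π →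
      lift g x ≫ a.act ≫ π = lift g y ≫ a.act ≫ π) :
    ∃ b : GAction G M, (G ◁ π) ≫ b.act = a.act ≫ π := by
  have hπ := epi_whisker G π
  obtain ⟨act, hact⟩ := exists_desc (G ◁ π) (a.act ≫ π) fun T β x y hxy => by
    have h1 : x ≫ fst G X = y ≫ fst G X := by
      have := congrArg (· ≫ fst G M) hxy
      simpa using this
    have h2 : (x ≫ snd G X) ≫ π = (y ≫ snd G X) ≫ π := by
      have := congrArg (· ≫ snd G M) hxy
      simpa using this
    have hx : x = lift (x ≫ fst G X) (x ≫ snd G X) := by simp [← comp_lift]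
    have hy : y = lift (y ≫ fst G X) (y ≫ snd G X) := by simp [← comp_lift]
    rw [hx, hy, ← h1]
    exact h T β _ _ _ h2
  refine ⟨⟨act, ?_, ?_⟩, hact⟩
  · have h1 := epi_of_left _ (epi_whisker (𝟙_ (Over B)) π)
    rw [← cancel_epi (𝟙_ (Over B) ◁ π), whisker_exchange_assoc, hact, ← Category.assoc, a.one_act,
      leftUnitor_naturality]
  · have h1 := epi_of_left _ (epi_whisker (G ⊗ G) π)
    rw [← cancel_epi ((G ⊗ G) ◁ π), whisker_exchange_assoc, hact, ← Category.assoc, a.mul_act,
      associator_naturality_right_assoc, ← whiskerLeft_comp_assoc, hact, whiskerLeft_comp_assoc, hact,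
      Category.assoc, Category.assoc]

/-- Homogeneity passes to a quotient. -/
theorem epi_quot (a : GAction G X) (b : GAction G M) (π : X ⟶ M) [hπ : Epi π.left]
    (h : (G ◁ π) ≫ b.act = a.act ≫ π) (ha : Epi (lift a.act (snd G X)).left) :
    Epi (lift b.act (snd G M)).left := by
  have h1 : (G ◁ π) ≫ lift b.act (snd G M) = lift a.act (snd G X) ≫ (π ⊗ₘ π) := by
    rw [comp_lift, h, whiskerLeft_snd, lift_map]
  have h2 : Epi (π ⊗ₘ π).left := by
    rw [MonoidalCategory.tensorHom_def, Over.comp_left]
    have := epi_whiskerRight X π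
    have := epi_whisker M π
    infer_instance
  have h3 : Epi ((G ◁ π).left ≫ (lift b.act (snd G M)).left) := by
    rw [← Over.comp_left, h1, Over.comp_left]
    infer_instance
  exact epi_of_epi (G ◁ π).left _

/-- The shear map of the translation action is an isomorphism. -/
theorem epi_self : Epi (lift (K622.AnDefs.selfAct G).act (snd G G)).left := by
  have hμ : fst G G * snd G G = μ[G] := by rw [Hom.mul_def, lift_fst_snd, Category.id_comp]
  have h1 : IsIso (lift (K622.AnDefs.selfAct G).act (snd G G)) := by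
    change IsIso (lift μ[G] (snd G G))
    refine ⟨lift (fst G G * (snd G G)⁻¹) (snd G G), ?_, ?_⟩
    · rw [comp_lift, MonObj.comp_mul, GrpObj.comp_inv, lift_fst, lift_snd, ← hμ, mul_inv_cancel_right, lift_fst_snd]
    · rw [comp_lift, ← hμ, MonObj.comp_mul, lift_fst, lift_snd, inv_mul_cancel_right, lift_fst_snd]
  have h2 : IsIso (lift (K622.AnDefs.selfAct G).act (snd G G)).left :=
    inferInstanceAs (IsIso ((Over.forget B).map (lift (K622.AnDefs.selfAct G).act (snd G G))))
  infer_instance

end K632.HomSp
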