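import Groth.Agent.AlgSp.K632.DeformIso
import Groth.Agent.AlgSp.K632.Chart
import Groth.Agent.S1382

/-!
# Thickenings with an étale chart which has a section over the thin part

* `isIso_of_etale_of_thick`: an étale morphism to an algebraic space which becomes an isomorphism over a thickening is
  an isomorphism.
* `exists_iso_of_section`: let `i : P ⟶ P'` be a thickening, `P` a scheme, `a : U' ⟶ P'` an étale chart and
  `σ : P ⟶ P ×_{P'} U'` a section. Then `P'` is an open subscheme of `U'`.
-/

set_option autoImplicit false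
universe u
open CategoryTheory CategoryTheory.Limits AlgebraicGeometry Opposite

namespace K632.IntThickA

open AlgSp K632.Basic K632.Chart

variable {S : Scheme.{u}}

/-- scheme level: an étale morphism which becomes an isomorphism over a thickening is an isomorphism. -/
theorem isIso_of_etale {X X' Y Y' : Scheme.{u}} (iX : X ⟶ X') (iY : Y ⟶ Y') (f : X ⟶ Y) (f' : X' ⟶ Y')
    (hY : MoreMor.IsThickening iY) (hc : IsPullback iX f f' iY) [Etale f'] [IsIso f] : IsIso f' := by
  have h1 : IsPullback iX (f ≫ 𝟙 Y) (f' ≫ 𝟙 Y') iY := by simpa using hc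
  have h2 : IsPullback iY (𝟙 Y) (𝟙 Y') iY := IsPullback.of_vert_isIso ⟨by simp⟩
  have : Etale (f' ≫ 𝟙 Y') := by simpa
  exact (Groth.Agent.S1382.result iX iY iY f f' (𝟙 Y) (𝟙 Y') hY h1 h2 hc.w).1 ‹_›

/-- An étale morphism of sheaves which becomes an isomorphism over a thickening is an isomorphism. -/
theorem isIso_of_repWith_etale {X X' A A' : Sp S} {i : X ⟶ X'} {φ : X ⟶ A} {φ' : X' ⟶ A'} {m : A ⟶ A'}
    (sq : IsPullback i φ φ' m) (hm : IsThickMor m) (hφ' : RepWith @Etale φ') [IsIso φ] : IsIso φ' := by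
  have h1 : RepWith (MorphismProperty.isomorphisms Scheme.{u}) φ := by
    have h := DeformIso.repWith_open_of_isIso φ
    refine ⟨h.1, fun U V g fst snd sq => ?_⟩
    have h2 : IsIso ((yon S).map snd) := sq.isIso_snd_of_isIso
    have h3 : IsIso snd := isIso_of_fully_faithful (yon S) snd
    exact (inferInstance : IsIso ((Over.forget S).map snd))
  refine DeformIso.isIso_of_repWith_isIso (repWith_of_thick (P := MorphismProperty.isomorphisms Scheme.{u})
    (Q := @Etale) ?_ sq hm hφ' h1)
  intro X X' Y Y' iX iY f f' hY hc h1 h2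
  have : IsIso f := h2
  have : Etale f' := h1
  exact isIso_of_etale iX iY f f' hY hc

theorem exists_iso_of_section {P' : Sp S} {P U U' : Over S} {i : (yon S).obj P ⟶ P'} (hi : IsThickMor i)
    {a : (yon S).obj U' ⟶ P'} (ha : RepWith @Etale a) {q : U ⟶ P} {iU : U ⟶ U'}
    (hU : IsPullback ((yon S).map q) ((yon S).map iU) i a) (σ : P ⟶ U) (hσ : σ ≫ q = 𝟙 P) :
    ∃ (W' : Over S) (b : (yon S).obj W' ⟶ P'), IsIso b := by
  have hiU : MoreMor.IsThickening iU.left := hi.2 _ _ _ hU
  have hq : Etale q.left := ha.2 _ _ _ hU.flip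
  have e1 : σ.left ≫ q.left = 𝟙 _ := congrArg (·.left) hσ
  have h1 : Etale (σ.left ≫ q.left) := by rw [e1]; infer_instance
  have h2 : Etale σ.left := Etale.of_comp σ.left q.left
  have h3 : Mono σ.left := ⟨fun x y h => by
    have := congrArg (· ≫ q.left) h
    simpa [e1] using this⟩
  have hσo : IsOpenImmersion σ.left := IsOpenImmersion.of_flat_of_mono σ.left
  have hcl : IsClosedImmersion iU.left := hiU.1
  have hsu : Surjective iU.left := hiU.2
  have hemb : Topology.IsClosedEmbedding iU.left := iU.left.isClosedEmbedding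
  have hinj : Function.Injective iU.left := hemb.injective
  have hopen : IsOpenMap iU.left := by
    intro O hO
    have h := hemb.isClosedMap _ hO.isClosed_compl
    rw [Set.image_compl_eq ⟨hinj, hsu.surj⟩] at h
    exact isClosed_compl_iff.1 h
  let O : U'.left.Opens := ⟨iU.left '' Set.range σ.left, hopen _ σ.left.isOpenEmbedding.isOpen_range⟩
  let W' : Over S := Over.mk (O.ι ≫ U'.hom)
  let o : W' ⟶ U' := Over.homMk O.ι rfl
  have ho : IsOpenImmersion o.left := (inferInstance : IsOpenImmersion O.ι)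
  have hr : Set.range (σ.left ≫ iU.left) ⊆ Set.range O.ι := by
    rw [Scheme.Opens.range_ι]
    rintro _ ⟨x, rfl⟩
    exact ⟨σ.left x, ⟨x, rfl⟩, (Scheme.Hom.comp_apply _ _ _).symm⟩
  let m : P ⟶ W' := Over.homMk (IsOpenImmersion.lift O.ι (σ.left ≫ iU.left) hr) (by
    simp [W'])
  have hm : m ≫ o = σ ≫ iU := by
    apply Over.OverMorphism.ext
    exact IsOpenImmersion.lift_fac _ _ _
  have sq1 : IsPullback m.left σ.left o.left iU.left := by
    refine IsOpenImmersion.isPullback _ _ _ _ (congrArg (·.left) hm).symm ?_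
    ext x
    rw [Scheme.Hom.coe_preimage, Set.mem_preimage, Scheme.Hom.coe_opensRange, Scheme.Hom.coe_opensRange]
    have e : Set.range o.left = iU.left '' Set.range σ.left := O.range_ι
    rw [e]
    exact ⟨fun ⟨y, hy, h⟩ => hinj h ▸ hy, fun h => ⟨x, h, rfl⟩⟩
  have sq2 : IsPullback m σ o iU := IsPullback.of_map (Over.forget S) hm sq1
  have sq3 := (sq2.map (yon S)).paste_vert hU.flip
  have e2 : (yon S).map σ ≫ (yon S).map q = 𝟙 _ := by rw [← Functor.map_comp, hσ, (yon S).map_id]
  rw [e2] at sq3
  have ho1 : Etale o.left := inferInstance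
  exact ⟨W', _, isIso_of_repWith_etale sq3 hi (repWith_etale_yon_comp o ha)⟩

end K632.IntThickA
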