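import Mathlib.RingTheory.ZariskisMainTheorem
import Mathlib.RingTheory.Ideal.KrullsHeightTheorem
import Mathlib.RingTheory.DedekindDomain.Basic
import Mathlib.RingTheory.DedekindDomain.Dvr
import Mathlib.RingTheory.Flat.TorsionFree
import Mathlib.RingTheory.Flat.FaithfullyFlat.Basic
import Mathlib.FieldTheory.IsAlgClosed.Basic
import Mathlib.RingTheory.LocalRing.ResidueField.Instances

/-!
# Points with values in algebraically closed residue fields lift after a finite extension

Let `R` be a Dedekind domain (or a field), `Rb` its integral closure in an algebraically closed algebraic extension of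
its fraction field, `q` a prime of `Rb`, `B` a flat `R`-algebra of finite type. Every `R`-algebra map `B → κ(q)` lifts to
`B → Rb_q`, and even to `B → R₁[1/h]`, where `R₁ ⊆ Rb` is a finite `R`-subalgebra and `h ∈ R₁ \ q`.
-/

set_option autoImplicit false
universe u v w

open TensorProduct

namespace K632.LiftPt

section isolated

variable {R : Type u} {D : Type v} [CommRing R] [CommRing D] [Algebra R D]

/-- A prime which is maximal and minimal in its fibre is quasi-finite. -/
theorem quasiFiniteAt_of_isolated [Algebra.FiniteType R D] [IsNoetherianRing D] (n : Ideal D) [n.IsPrime]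
    (h1 : ∀ P : Ideal D, P.IsPrime → n ≤ P → P.comap (algebraMap R D) = n.comap (algebraMap R D) → P = n)
    (h2 : ∀ P : Ideal D, P.IsPrime → P ≤ n → P.comap (algebraMap R D) = n.comap (algebraMap R D) → P = n) :
    Algebra.QuasiFiniteAt R n := by
  let q : Ideal R := n.comap (algebraMap R D)
  let M : Set (Ideal D) := (q.map (algebraMap R D)).minimalPrimes
  have hfin : M.Finite := Ideal.finite_minimalPrimes_of_isNoetherianRing D _
  refine Algebra.QuasiFiniteAt.of_isOpen_singleton_fiber (R := R) (⟨n, inferInstance⟩ : PrimeSpectrum D) ?_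
  let Z : Set (PrimeSpectrum D) := ⋃ P ∈ M \ {n}, PrimeSpectrum.zeroLocus (P : Set D)
  have hZ : IsClosed Z := (hfin.subset Set.sdiff_subset).isClosed_biUnion
    fun P _ => PrimeSpectrum.isClosed_zeroLocus _
  refine ⟨Zᶜ, hZ.isOpen_compl, ?_⟩
  have hle : ∀ P : Ideal D, P ∈ M → P ≤ n → P = n := by
    intro P hP hPn
    refine h2 P hP.1.1 hPn (le_antisymm (Ideal.comap_mono hPn) ?_)
    exact Ideal.map_le_iff_le_comap.1 hP.1.2
  ext ⟨x, hx⟩
  simp only [Set.mem_preimage, Set.mem_compl_iff, Set.mem_singleton_iff, Subtype.mk.injEq]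
  constructor
  · intro hxZ
    have hx' : x.asIdeal.comap (algebraMap R D) = q := congrArg PrimeSpectrum.asIdeal hx
    obtain ⟨P, hP, hPx⟩ := Ideal.exists_minimalPrimes_le (I := q.map (algebraMap R D)) (J := x.asIdeal)
      (Ideal.map_le_iff_le_comap.2 hx'.ge)
    have hPn : P = n := by
      by_contra hne
      exact hxZ (Set.mem_biUnion (x := P) ⟨hP, hne⟩ hPx)
    subst hPn
    exact PrimeSpectrum.ext (h1 _ x.isPrime hPx hx')
  · rintro rfl hxZ
    obtain ⟨P, ⟨hP, hne⟩, hPx⟩ := Set.mem_iUnion₂.1 hxZ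
    exact hne (hle P hP hPx)

/-- In a Noetherian domain over a one dimensional domain: if no nonzero prime below `n` lies over zero then `n` is
minimal in its fibre. -/
theorem eq_of_maximal [IsDomain R] [Ring.DimensionLEOne R] [IsDomain D] [IsNoetherianRing D]
    (hinj : Function.Injective (algebraMap R D)) (n : Ideal D) [n.IsPrime]
    (hmax : ∀ P : Ideal D, P.IsPrime → P ≤ n → P.comap (algebraMap R D) = ⊥ → P = ⊥)
    (P : Ideal D) (hP : P.IsPrime) (hPn : P ≤ n) (hPc : P.comap (algebraMap R D) = n.comap (algebraMap R D)) :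
    P = n := by
  by_cases hq : n.comap (algebraMap R D) = ⊥
  · rw [hmax P hP hPn (hPc.trans hq), hmax n inferInstance le_rfl hq]
  obtain ⟨π, hπ, hπ0⟩ := Submodule.exists_mem_ne_zero_of_ne_bot hq
  have hπ1 : algebraMap R D π ∈ n := hπ
  have hπ2 : algebraMap R D π ≠ 0 := fun h => hπ0 (hinj (by rw [h, map_zero]))
  have hπP : algebraMap R D π ∈ P := by
    have : π ∈ P.comap (algebraMap R D) := hPc ▸ hπ
    exact this
  let M : Set (Ideal D) := (Ideal.span {algebraMap R D π}).minimalPrimes
  have hfin : M.Finite := Ideal.finite_minimalPrimes_of_isNoetherianRing D _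
  by_contra hne
  have hnM : n ∉ M := by
    intro h
    refine hne (le_antisymm hPn ?_)
    exact h.2 ⟨hP, (Ideal.span_singleton_le_iff_mem _).2 hπP⟩ hPn
  -- prime avoidance
  have hav : ¬ ((n : Set D) ⊆ ⋃ i ∈ hfin.toFinset, ((id i : Ideal D) : Set D)) := by
    intro h
    have h' := (Ideal.subset_union_prime (s := hfin.toFinset) (f := id) (I := n) ⊥ ⊥
      (fun i hi _ _ => ((hfin.mem_toFinset.1 hi).1.1 : Ideal.IsPrime i))).1 h
    obtain ⟨i, hi, hni⟩ := h'
    have hi' := hfin.mem_toFinset.1 hi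
    have : n = i := le_antisymm hni (hi'.2 ⟨inferInstance, (Ideal.span_singleton_le_iff_mem _).2 hπ1⟩ hni)
    exact hnM (this ▸ hi')
  obtain ⟨a, han, ha⟩ := Set.not_subset.1 hav
  have ha' : ∀ i ∈ M, a ∉ i := fun i hi hai => ha (Set.mem_biUnion (x := i) (hfin.mem_toFinset.2 hi) hai)
  obtain ⟨Q, hQ, hQn⟩ := Ideal.exists_minimalPrimes_le (I := Ideal.span {a}) (J := n)
    ((Ideal.span_singleton_le_iff_mem _).2 han)
  have hQp : Q.IsPrime := hQ.1.1
  have haQ : a ∈ Q := (Ideal.span_singleton_le_iff_mem _).1 hQ.1.2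
  have hh : Q.height ≤ 1 := Ideal.height_le_one_of_isPrincipal_of_mem_minimalPrimes _ _ hQ
  have hπQ : algebraMap R D π ∉ Q := by
    intro h
    obtain ⟨P', hP', hP'Q⟩ := Ideal.exists_minimalPrimes_le (I := Ideal.span {algebraMap R D π}) (J := Q)
      ((Ideal.span_singleton_le_iff_mem _).2 h)
    have hP'p : P'.IsPrime := hP'.1.1
    have hlt : P' < Q := lt_of_le_of_ne hP'Q fun e => ha' P' hP' (e ▸ haQ)
    have hlt0 : (⊥ : Ideal D) < P' := bot_lt_iff_ne_bot.2 fun e => hπ2 (by
      have := (Ideal.span_singleton_le_iff_mem _).1 hP'.1.2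
      rw [e] at this
      exact this)
    have h1 := Ideal.height_strict_mono_of_isPrime_of_isPrime hlt0
    have h2 := Ideal.height_strict_mono_of_isPrime_of_isPrime hlt
    have h3 : P'.height < 1 := h2.trans_le hh
    rw [Order.lt_one_iff] at h3
    rw [h3] at h1
    exact not_lt_bot h1
  have hQc : Q.comap (algebraMap R D) = ⊥ := by
    by_contra hQc
    have h1 : (Q.comap (algebraMap R D)).IsMaximal :=
      Ring.DimensionLEOne.maximalOfPrime hQc (Ideal.comap_isPrime _ _)
    have h2 : Q.comap (algebraMap R D) = n.comap (algebraMap R D) :=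
      h1.eq_of_le (Ideal.IsPrime.ne_top (Ideal.comap_isPrime _ _)) (Ideal.comap_mono hQn)
    have : π ∈ Q.comap (algebraMap R D) := h2 ▸ hπ
    exact hπQ this
  have hQ0 : Q = ⊥ := hmax Q hQp hQn hQc
  have ha0 : a = 0 := by rw [hQ0] at haQ; exact haQ
  obtain ⟨P', hP', -⟩ := Ideal.exists_minimalPrimes_le (I := Ideal.span {algebraMap R D π}) (J := n)
    ((Ideal.span_singleton_le_iff_mem _).2 hπ1)
  exact ha' P' hP' (ha0 ▸ zero_mem _)

/-- Minimal primes of a torsion free algebra lie over zero. -/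
theorem comap_eq_bot_of_minimal [IsDomain R] [Module.Flat R D] (p : Ideal D) (hp : p ∈ minimalPrimes D) :
    p.comap (algebraMap R D) = ⊥ := by
  rw [eq_bot_iff]
  intro r hr
  by_contra hr0
  have h1 : algebraMap R D r ∈ nonZeroDivisors D := by
    rw [mem_nonZeroDivisors_iff_right]
    intro x hx
    have hreg : IsSMulRegular D r := Module.Flat.isSMulRegular_of_isRegular (M := D)
      (IsRegular.of_ne_zero hr0)
    refine hreg ?_
    change r • x = r • 0
    rw [smul_zero, Algebra.smul_def, mul_comm]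
    exact hx
  exact Set.disjoint_left.1 (Ideal.disjoint_nonZeroDivisors_of_mem_minimalPrimes hp) hr h1

end isolated

section slice

variable {R : Type u} {B : Type v} [CommRing R] [CommRing B] [Algebra R B]

/-- Slicing: a prime `n` of `B` which is maximal in its fibre and specializes a point over zero is a quasi-finite point
of an integral closed subscheme dominating the base. -/
theorem exists_slice [IsDomain R] [Ring.DimensionLEOne R] [IsNoetherianRing R] [Algebra.FiniteType R B]
    (n : Ideal B) [n.IsPrime]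
    (hn : ∀ P : Ideal B, P.IsPrime → n ≤ P → P.comap (algebraMap R B) = n.comap (algebraMap R B) → P = n)
    (p₀ : Ideal B) (hp₀ : p₀.IsPrime) (h₀ : p₀ ≤ n) (h₀' : p₀.comap (algebraMap R B) = ⊥) :
    ∃ (p : Ideal B) (_ : p.IsPrime) (n' : Ideal (B ⧸ p)) (_ : n'.IsPrime),
      p.comap (algebraMap R B) = ⊥ ∧ n'.comap (Ideal.Quotient.mk p) = n ∧ Algebra.QuasiFiniteAt R n' := by
  have hN : IsNoetherianRing B := Algebra.FiniteType.isNoetherianRing R B
  obtain ⟨p, ⟨hp, hpn, hpc⟩, hmax⟩ := set_has_maximal_iff_noetherian.2 hN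
    {p : Ideal B | p.IsPrime ∧ p ≤ n ∧ p.comap (algebraMap R B) = ⊥} ⟨p₀, hp₀, h₀, h₀'⟩
  have hker : RingHom.ker (Ideal.Quotient.mk p) ≤ n := by rwa [Ideal.mk_ker]
  have hn' : (n.map (Ideal.Quotient.mk p)).IsPrime :=
    Ideal.map_isPrime_of_surjective Ideal.Quotient.mk_surjective hker
  have hcm : (n.map (Ideal.Quotient.mk p)).comap (Ideal.Quotient.mk p) = n := by
    rw [Ideal.comap_map_of_surjective _ Ideal.Quotient.mk_surjective, ← RingHom.ker_eq_comap_bot]
    exact sup_eq_left.2 hker
  have halg : algebraMap R (B ⧸ p) = (Ideal.Quotient.mk p).comp (algebraMap R B) := rfl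
  have hinj : Function.Injective (algebraMap R (B ⧸ p)) := by
    rw [injective_iff_map_eq_zero]
    intro r hr
    have : r ∈ Ideal.comap (algebraMap R B) p := Ideal.mem_comap.2 (Ideal.Quotient.eq_zero_iff_mem.1 hr)
    rwa [hpc] at this
  have hmax' : ∀ P : Ideal (B ⧸ p), P.IsPrime → P ≤ n.map (Ideal.Quotient.mk p) →
      P.comap (algebraMap R (B ⧸ p)) = ⊥ → P = ⊥ := by
    intro P hP hPn hPc
    have h1 : (P.comap (Ideal.Quotient.mk p)).IsPrime := Ideal.comap_isPrime _ _
    have h2 : p ≤ P.comap (Ideal.Quotient.mk p) := by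
      conv_lhs => rw [← Ideal.mk_ker (I := p)]
      exact Ideal.ker_le_comap _
    have h3 : P.comap (Ideal.Quotient.mk p) ≤ n := by
      rw [← hcm]
      exact Ideal.comap_mono hPn
    have h4 : P.comap (Ideal.Quotient.mk p) = p := by
      by_contra hne
      exact hmax _ ⟨h1, h3, by rwa [Ideal.comap_comap]⟩ (lt_of_le_of_ne h2 (Ne.symm hne))
    rw [← Ideal.map_comap_of_surjective _ Ideal.Quotient.mk_surjective P, h4, Ideal.map_quotient_self]
  refine ⟨p, hp, n.map (Ideal.Quotient.mk p), hn', hpc, hcm, quasiFiniteAt_of_isolated _ ?_ ?_⟩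
  · intro P hP hnP hPc
    have h1 : P.comap (Ideal.Quotient.mk p) = n := by
      refine hn _ (Ideal.comap_isPrime _ _) ?_ ?_
      · rw [← hcm]
        exact Ideal.comap_mono hnP
      · rw [Ideal.comap_comap, ← halg, hPc, halg, ← Ideal.comap_comap, hcm]
    rw [← Ideal.map_comap_of_surjective _ Ideal.Quotient.mk_surjective P, h1]
  · intro P hP hPn hPc
    exact eq_of_maximal hinj _ hmax' P hP hPn hPc

end slice

section section_

variable {V : Type u} {E : Type v} (Kb : Type w) [CommRing V] [IsIntegrallyClosed V] [Field Kb]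
  [IsAlgClosed Kb] [Algebra V Kb] [IsFractionRing V Kb] [CommRing E] [Algebra V E]

include Kb in
/-- Integral elements of a domain over an integrally closed domain with algebraically closed fraction field. -/
theorem mem_range_of_isIntegral [IsDomain E] (hinj : Function.Injective (algebraMap V E)) (x : E)
    (hx : IsIntegral V x) : ∃ v : V, algebraMap V E v = x := by
  let L := FractionRing E
  have hVL : Function.Injective ((algebraMap E L).comp (algebraMap V E)) :=
    (IsFractionRing.injective E L).comp hinj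
  let algKL : Algebra Kb L := (IsFractionRing.lift (K := Kb) hVL).toAlgebra
  have : IsScalarTower V Kb L := IsScalarTower.of_algebraMap_eq fun v => by
    rw [RingHom.algebraMap_toAlgebra, IsFractionRing.lift_algebraMap]
    rfl
  have hxL : IsIntegral V (algebraMap E L x) := hx.algebraMap
  obtain ⟨z, hz⟩ := hxL.mem_range_algebraMap_of_minpoly_splits (K := Kb) (IsAlgClosed.splits _)
  have hz' : IsIntegral V z := by
    rw [← isIntegral_algebraMap_iff (FaithfulSMul.algebraMap_injective Kb L), hz]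
    exact hxL
  obtain ⟨v, hv⟩ := IsIntegrallyClosed.isIntegral_iff.1 hz'
  refine ⟨v, IsFractionRing.injective E L ?_⟩
  rw [← hz, ← hv, ← IsScalarTower.algebraMap_apply V Kb L, ← IsScalarTower.algebraMap_apply V E L]

include Kb in
/-- Over a local normal domain with algebraically closed fraction field, every quasi-finite point of the closed fibre
of a flat algebra of finite type lifts to a section. -/
theorem exists_section [IsDomain V] [IsLocalRing V] [Algebra.FiniteType V E] [Module.Flat V E] (n : Ideal E) [n.IsPrime]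
    (hn : n.comap (algebraMap V E) = IsLocalRing.maximalIdeal V) [Algebra.QuasiFiniteAt V n] :
    ∃ s : E →ₐ[V] V, ∀ z, z - algebraMap V E (s z) ∈ n := by
  obtain ⟨p, hp, hpn⟩ := Ideal.exists_minimalPrimes_le (I := (⊥ : Ideal E)) (J := n) bot_le
  have hpp : p.IsPrime := hp.1.1
  have hpc := comap_eq_bot_of_minimal (R := V) p hp
  have hinj : Function.Injective (algebraMap V (E ⧸ p)) := by
    rw [injective_iff_map_eq_zero]
    intro r hr
    have : r ∈ p.comap (algebraMap V E) := Ideal.mem_comap.2 (Ideal.Quotient.eq_zero_iff_mem.1 hr)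
    rwa [hpc] at this
  obtain ⟨r, hrn, hr, H⟩ := Algebra.zariskisMainProperty_iff.1
    (Algebra.ZariskisMainProperty.of_finiteType (R := V) n)
  have hint : ∀ x : E, IsIntegral V x → ∃ v : V, x - algebraMap V E v ∈ p := by
    intro x hx
    obtain ⟨v, hv⟩ := mem_range_of_isIntegral Kb hinj (Ideal.Quotient.mk p x)
      (hx.map (Ideal.Quotient.mkₐ V p))
    exact ⟨v, Ideal.Quotient.eq_zero_iff_mem.1 (by rw [map_sub, ← hv, sub_eq_zero]; rfl)⟩
  obtain ⟨a, ha⟩ := hint r hr
  have hau : IsUnit a := by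
    by_contra hau
    have h1 : a ∈ n.comap (algebraMap V E) := by
      rw [hn]
      exact hau
    exact hrn (by simpa using n.add_mem (hpn ha) h1)
  have hsurj : Function.Surjective (algebraMap V (E ⧸ p)) := by
    intro z
    obtain ⟨z, rfl⟩ := Ideal.Quotient.mk_surjective z
    obtain ⟨m, hm⟩ := H z
    obtain ⟨v, hv⟩ := hint _ hm
    obtain ⟨b, hb⟩ := hau
    refine ⟨(↑b⁻¹) ^ m * v, ?_⟩
    have e1 : Ideal.Quotient.mk p r = algebraMap V (E ⧸ p) a := by
      rw [← sub_eq_zero]
      exact Ideal.Quotient.eq_zero_iff_mem.2 ha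
    have e2 : Ideal.Quotient.mk p (r ^ m * z) = algebraMap V (E ⧸ p) v := by
      rw [← sub_eq_zero]
      exact Ideal.Quotient.eq_zero_iff_mem.2 hv
    rw [map_mul, ← e2, map_mul, map_pow, map_pow, e1, ← hb, ← mul_assoc, ← mul_pow, ← map_mul, Units.inv_mul,
      map_one, one_pow, one_mul]
  let e : V ≃ₐ[V] (E ⧸ p) := AlgEquiv.ofBijective (Algebra.ofId V (E ⧸ p)) ⟨hinj, hsurj⟩
  refine ⟨e.symm.toAlgHom.comp (Ideal.Quotient.mkₐ V p), fun z => hpn ?_⟩
  refine Ideal.Quotient.eq_zero_iff_mem.1 ?_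
  rw [map_sub, sub_eq_zero]
  exact (e.apply_symm_apply (Ideal.Quotient.mk p z)).symm

end section_

section lift

variable {R Rb : Type u} [CommRing R] [CommRing Rb] [Algebra R Rb] [Algebra.IsIntegral R Rb]

/-- The kernel of a map to a residue field of an integral extension is maximal in its fibre. -/
theorem ker_maximal {B : Type v} [CommRing B] [Algebra R B] (q : Ideal Rb) [q.IsPrime] (y : B →ₐ[R] q.ResidueField)
    (P : Ideal B) (hle : RingHom.ker y ≤ P)
    (hc : P.comap (algebraMap R B) = (RingHom.ker y).comap (algebraMap R B)) : P = RingHom.ker y := by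
  let p₀ : Ideal R := q.under R
  have hint : Algebra.IsIntegral (R ⧸ p₀) (Rb ⧸ q) := Algebra.IsIntegral.tower_top R
  let alg := ((algebraMap (Rb ⧸ q) q.ResidueField).comp (algebraMap (R ⧸ p₀) (Rb ⧸ q))).toAlgebra
  have hst : IsScalarTower (R ⧸ p₀) (Rb ⧸ q) q.ResidueField := .of_algebraMap_eq' rfl
  have halg' : Algebra.IsAlgebraic (Rb ⧸ q) q.ResidueField := IsLocalization.isAlgebraic _ (nonZeroDivisors (Rb ⧸ q))
  have halg : Algebra.IsAlgebraic (R ⧸ p₀) q.ResidueField := .trans _ (Rb ⧸ q) _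
  have hmk : ∀ r : R, algebraMap (R ⧸ p₀) q.ResidueField (Ideal.Quotient.mk p₀ r) = algebraMap R q.ResidueField r :=
    fun r => by
      rw [IsScalarTower.algebraMap_apply (R ⧸ p₀) (Rb ⧸ q) q.ResidueField]
      have : algebraMap (R ⧸ p₀) (Rb ⧸ q) (Ideal.Quotient.mk p₀ r) = algebraMap R (Rb ⧸ q) r := rfl
      rw [this, ← IsScalarTower.algebraMap_apply R (Rb ⧸ q) q.ResidueField]
  have hst' : IsScalarTower R (R ⧸ p₀) q.ResidueField := .of_algebraMap_eq fun r => (hmk r).symm
  refine le_antisymm (fun b hb => ?_) hle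
  rw [RingHom.mem_ker]
  by_contra hyb
  obtain ⟨f, hf0, hf⟩ := (halg.isAlgebraic (y b)).exists_nonzero_coeff_and_aeval_eq_zero
    (mem_nonZeroDivisors_of_ne_zero hyb)
  obtain ⟨g, rfl⟩ := Polynomial.map_surjective (Ideal.Quotient.mk p₀) Ideal.Quotient.mk_surjective f
  have hg : y (Polynomial.aeval b g) = 0 := by
    rw [← hf, ← Polynomial.aeval_algHom_apply]
    exact (Polynomial.aeval_map_algebraMap (R ⧸ p₀) (y b) g).symm
  have h1 : Polynomial.aeval b g ∈ P := hle hg
  have h2 : algebraMap R B (g.coeff 0) ∈ P := by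
    rw [← Polynomial.divX_mul_X_add g, map_add, map_mul, Polynomial.aeval_X, Polynomial.aeval_C] at h1
    exact (P.add_mem_iff_right (P.mul_mem_left _ hb)).1 h1
  have h3 : g.coeff 0 ∈ (RingHom.ker y).comap (algebraMap R B) := hc ▸ h2
  have h4 : algebraMap R q.ResidueField (g.coeff 0) = 0 := by
    have : y (algebraMap R B (g.coeff 0)) = 0 := h3
    rwa [y.commutes] at this
  refine hf0 ?_
  rw [Polynomial.coeff_map, Ideal.Quotient.eq_zero_iff_mem]
  rw [IsScalarTower.algebraMap_apply R Rb q.ResidueField, Ideal.algebraMap_residueField_eq_zero] at h4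
  exact h4

variable [IsDedekindDomain R] [IsDomain Rb] [IsIntegrallyClosed Rb] (Kb : Type w) [Field Kb] [IsAlgClosed Kb]
  [Algebra Rb Kb] [IsFractionRing Rb Kb]

include Kb in
/-- Lifting to the local ring. -/
theorem exists_lift_local {B : Type v} [CommRing B] [Algebra R B] [Algebra.FiniteType R B] [Module.Flat R B]
    (q : Ideal Rb) [q.IsPrime] (y : B →ₐ[R] q.ResidueField) :
    ∃ s : B →ₐ[R] Localization.AtPrime q, ∀ b, IsLocalRing.residue (Localization.AtPrime q) (s b) = y b := by
  have hker : (RingHom.ker y).IsPrime := RingHom.ker_isPrime y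
  obtain ⟨p₀, hp₀, hp₀n⟩ := Ideal.exists_minimalPrimes_le (I := (⊥ : Ideal B)) (J := RingHom.ker y) bot_le
  obtain ⟨p, hp, n', hn', hpc, hcm, hqf⟩ := exists_slice (R := R) (RingHom.ker y)
    (fun P _ hle hc => ker_maximal q y P hle hc) p₀ hp₀.1.1 hp₀n (comap_eq_bot_of_minimal (R := R) p₀ hp₀)
  have hpn : p ≤ RingHom.ker y := by
    rw [← hcm]
    conv_lhs => rw [← Ideal.mk_ker (I := p)]
    exact Ideal.ker_le_comap _
  have hinj : Function.Injective (algebraMap R (B ⧸ p)) := by
    rw [injective_iff_map_eq_zero]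
    intro r hr
    have : r ∈ Ideal.comap (algebraMap R B) p := Ideal.mem_comap.2 (Ideal.Quotient.eq_zero_iff_mem.1 hr)
    rwa [hpc] at this
  have hfs : FaithfulSMul R (B ⧸ p) := (faithfulSMul_iff_algebraMap_injective R (B ⧸ p)).2 hinj
  have hflat : Module.Flat R (B ⧸ p) := inferInstance
  let V := Localization.AtPrime q
  have hVi : IsIntegrallyClosed V := isIntegrallyClosed_of_isLocalization V q.primeCompl
    q.primeCompl_le_nonZeroDivisors
  let algVK : Algebra V Kb := (IsLocalization.lift (M := q.primeCompl) (g := algebraMap Rb Kb) (fun y =>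
    IsUnit.mk0 _ (fun h => y.2 (by
      have := (IsFractionRing.injective Rb Kb) (h.trans (map_zero _).symm)
      rw [this]
      exact zero_mem _)))).toAlgebra
  have hst : IsScalarTower Rb V Kb := .of_algebraMap_eq fun r => by
    rw [RingHom.algebraMap_toAlgebra, IsLocalization.lift_eq]
  have hfr : IsFractionRing V Kb := IsFractionRing.isFractionRing_of_isDomain_of_isLocalization q.primeCompl V Kb
  let yD : (B ⧸ p) →ₐ[R] q.ResidueField := Ideal.Quotient.liftₐ p y fun b hb => hpn hb
  let yE : V ⊗[R] (B ⧸ p) →ₐ[V] q.ResidueField := Algebra.TensorProduct.lift (Algebra.ofId V q.ResidueField) yD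
    fun _ _ => Commute.all _ _
  have hnE : (RingHom.ker yE).IsPrime := RingHom.ker_isPrime yE
  have h1 : n' = (RingHom.ker yE).comap (Algebra.TensorProduct.includeRight : (B ⧸ p) →ₐ[R] V ⊗[R] (B ⧸ p)).toRingHom := by
    ext z
    obtain ⟨b, rfl⟩ := Ideal.Quotient.mk_surjective z
    have e1 : Ideal.Quotient.mk p b ∈ n' ↔ b ∈ RingHom.ker y := by
      rw [← hcm]
      rfl
    rw [e1, Ideal.mem_comap, RingHom.mem_ker, RingHom.mem_ker]
    have e2 : yE ((Algebra.TensorProduct.includeRight : (B ⧸ p) →ₐ[R] V ⊗[R] (B ⧸ p)) (Ideal.Quotient.mk p b)) = y b := by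
      simp [yE, yD]
    change _ ↔ yE ((Algebra.TensorProduct.includeRight : (B ⧸ p) →ₐ[R] V ⊗[R] (B ⧸ p)) (Ideal.Quotient.mk p b)) = 0
    rw [e2]
  have h2 : (RingHom.ker yE).comap (algebraMap V (V ⊗[R] (B ⧸ p))) = IsLocalRing.maximalIdeal V := by
    ext v
    rw [Ideal.mem_comap, RingHom.mem_ker, AlgHom.commutes, ← IsLocalRing.residue_eq_zero_iff]
    rfl
  have hq : Algebra.QuasiFiniteAt V (RingHom.ker yE) := Algebra.QuasiFiniteAt.baseChange n' _ h1
  obtain ⟨s, hs⟩ := exists_section Kb (RingHom.ker yE) h2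
  refine ⟨(s.restrictScalars R).comp ((Algebra.TensorProduct.includeRight : (B ⧸ p) →ₐ[R] V ⊗[R] (B ⧸ p)).comp
    (Ideal.Quotient.mkₐ R p)), fun b => ?_⟩
  have h3 := hs ((Algebra.TensorProduct.includeRight : (B ⧸ p) →ₐ[R] V ⊗[R] (B ⧸ p)) (Ideal.Quotient.mk p b))
  rw [RingHom.mem_ker, map_sub, sub_eq_zero, AlgHom.commutes] at h3
  have e2 : yE ((Algebra.TensorProduct.includeRight : (B ⧸ p) →ₐ[R] V ⊗[R] (B ⧸ p)) (Ideal.Quotient.mk p b)) = y b := by
    simp [yE, yD]
  rw [e2] at h3
  exact h3.symm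

include Kb in
/-- **Lifting of points of closed fibres.** Let `Rb` be integral over the Dedekind domain `R`, a normal domain with
algebraically closed fraction field, `q` a prime of `Rb` and `B` a flat `R`-algebra of finite type. Every `R`-algebra map
`y : B → κ(q)` lifts to `B → R₁[1/h]` for a finite `R`-subalgebra `R₁` of `Rb` and some `h ∈ R₁` outside `q`. -/
theorem exists_lift {B : Type v} [CommRing B] [Algebra R B] [Algebra.FiniteType R B] [Module.Flat R B]
    (q : Ideal Rb) [q.IsPrime] (y : B →ₐ[R] q.ResidueField) :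
    ∃ (R₁ : Subalgebra R Rb) (_ : Module.Finite R R₁) (h : R₁), (h : Rb) ∉ q ∧
      ∃ s : B →ₐ[R] Localization.Away h, ∀ (φ : Localization.Away h →+* q.ResidueField),
        (∀ r : R₁, φ (algebraMap R₁ _ r) = algebraMap Rb q.ResidueField r) → ∀ b, φ (s b) = y b := by
  classical
  obtain ⟨s₀, hs₀⟩ := exists_lift_local (R := R) Kb q y
  obtain ⟨T, hT⟩ := (Algebra.FiniteType.out : (⊤ : Subalgebra R B).FG)
  choose cd hcd using fun t : B => IsLocalization.mk'_surjective (M := q.primeCompl) (s₀ t)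
  choose! c d hcd using fun t : B => (⟨(cd t).1, (cd t).2, hcd t⟩ :
    ∃ (c : Rb) (d : q.primeCompl), IsLocalization.mk' (Localization.AtPrime q) c d = s₀ t)
  let W : Set Rb := (T.image c : Set Rb) ∪ (T.image fun t => (d t : Rb) : Set Rb)
  have hW : W.Finite := (Finset.finite_toSet _).union (Finset.finite_toSet _)
  let R₁ : Subalgebra R Rb := Algebra.adjoin R W
  have hfin : Module.Finite R R₁ := Module.Finite.iff_fg.2
    (fg_adjoin_of_finite hW fun x _ => Algebra.IsIntegral.isIntegral x)
  have hcW : ∀ t ∈ T, c t ∈ R₁ := fun t ht => Algebra.subset_adjoin (Or.inl (by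
    rw [Finset.coe_image]; exact ⟨t, ht, rfl⟩))
  have hdW : ∀ t ∈ T, (d t : Rb) ∈ R₁ := fun t ht => Algebra.subset_adjoin (Or.inr (by
    rw [Finset.coe_image]; exact ⟨t, ht, rfl⟩))
  let h : R₁ := ⟨∏ t ∈ T, (d t : Rb), R₁.prod_mem hdW⟩
  have hh : (h : Rb) ∉ q := (Submonoid.prod_mem q.primeCompl fun t _ => (d t).2 : (∏ t ∈ T, (d t : Rb)) ∈ q.primeCompl)
  have hu : ∀ x : Submonoid.powers h,
      IsUnit (((IsScalarTower.toAlgHom R Rb (Localization.AtPrime q)).comp R₁.val) x) := by
    rintro ⟨_, m, rfl⟩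
    rw [map_pow]
    exact (IsLocalization.map_units (Localization.AtPrime q) (⟨_, hh⟩ : q.primeCompl)).pow m
  let ψ : Localization.Away h →ₐ[R] Localization.AtPrime q :=
    IsLocalization.liftAlgHom (M := Submonoid.powers h) (f := (IsScalarTower.toAlgHom R Rb (Localization.AtPrime q)).comp
      R₁.val) hu
  have hψ : ∀ r : R₁, ψ (algebraMap R₁ _ r) = algebraMap Rb (Localization.AtPrime q) r := fun r => by
    simp [ψ]
  have hinjV : Function.Injective (algebraMap Rb (Localization.AtPrime q)) :=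
    IsLocalization.injective _ q.primeCompl_le_nonZeroDivisors
  have hψinj : Function.Injective ψ := by
    rw [injective_iff_map_eq_zero]
    intro x hx
    obtain ⟨a, m, rfl⟩ := IsLocalization.exists_mk'_eq (Submonoid.powers h) x
    have h1 : ψ (algebraMap R₁ _ a) = 0 := by
      rw [← IsLocalization.mk'_spec (Localization.Away h) a m, map_mul, hx, zero_mul]
    rw [hψ] at h1
    have h2 : a = 0 := Subtype.ext (hinjV (h1.trans (map_zero _).symm))
    rw [h2, IsLocalization.mk'_zero]
  have hrange : ∀ b, s₀ b ∈ ψ.range := by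
    have h1 : (⊤ : Subalgebra R B) ≤ ψ.range.comap s₀ := by
      rw [← hT, Algebra.adjoin_le_iff]
      intro t ht
      have ht' : t ∈ T := ht
      change s₀ t ∈ ψ.range
      -- `d t` divides `h`
      obtain ⟨e, he⟩ : ∃ e : R₁, (⟨d t, hdW t ht'⟩ : R₁) * e = h := by
        refine ⟨⟨∏ t' ∈ T.erase t, (d t' : Rb), R₁.prod_mem fun t' h' => hdW t' (Finset.mem_of_mem_erase h')⟩, ?_⟩
        refine Subtype.ext ?_
        exact Finset.mul_prod_erase T (fun t => (d t : Rb)) ht'
      refine ⟨IsLocalization.mk' (Localization.Away h) ((⟨c t, hcW t ht'⟩ : R₁) * e) (⟨h, 1, pow_one h⟩ :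
        Submonoid.powers h), ?_⟩
      have hd0 : IsUnit (algebraMap Rb (Localization.AtPrime q) (h : Rb)) :=
        IsLocalization.map_units (Localization.AtPrime q) (⟨_, hh⟩ : q.primeCompl)
      refine hd0.mul_right_cancel ?_
      have h2 : ψ (IsLocalization.mk' (Localization.Away h) ((⟨c t, hcW t ht'⟩ : R₁) * e) (⟨h, 1, pow_one h⟩ :
        Submonoid.powers h)) * algebraMap Rb (Localization.AtPrime q) (h : Rb) =
          algebraMap Rb (Localization.AtPrime q) (c t) * algebraMap Rb (Localization.AtPrime q) (e : Rb) := by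
        rw [← hψ h, ← map_mul, IsLocalization.mk'_spec (Localization.Away h) _ (⟨h, 1, pow_one h⟩ :
          Submonoid.powers h), hψ, ← map_mul]
        rfl
      refine h2.trans ?_
      have h3 : (h : Rb) = d t * e := congrArg Subtype.val he.symm
      rw [h3, map_mul, ← mul_assoc, ← hcd t, IsLocalization.mk'_spec]
    exact fun b => h1 Algebra.mem_top
  let ε : Localization.Away h ≃ₐ[R] ψ.range := AlgEquiv.ofInjective ψ hψinj
  let s : B →ₐ[R] Localization.Away h := ε.symm.toAlgHom.comp (s₀.codRestrict ψ.range hrange)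
  have hs : ∀ b, ψ (s b) = s₀ b := fun b => by
    have h1 : ε (s b) = s₀.codRestrict ψ.range hrange b := ε.apply_symm_apply _
    exact congrArg Subtype.val h1
  refine ⟨R₁, hfin, h, hh, s, fun φ hφ b => ?_⟩
  have h4 : φ = (IsLocalRing.residue (Localization.AtPrime q)).comp ψ.toRingHom := by
    refine IsLocalization.ringHom_ext (Submonoid.powers h) ?_
    ext r
    change φ (algebraMap R₁ _ r) = IsLocalRing.residue _ (ψ (algebraMap R₁ _ r))
    rw [hφ, hψ]
    rfl
  rw [h4, ← hs₀ b, ← hs b]
  rfl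

end lift

end K632.LiftPt
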