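import Groth.Agent.AlgSp.K632.LiftPt
import Mathlib.AlgebraicGeometry.Morphisms.Flat
import Mathlib.AlgebraicGeometry.Morphisms.FiniteType
import Mathlib.AlgebraicGeometry.AffineScheme

/-!
# Points with values in algebraically closed residue fields lift after a finite extension: schemes
-/

set_option autoImplicit false
universe u w

open CategoryTheory AlgebraicGeometry

namespace K632.LiftPt

variable {R Rb : Type u} [CommRing R] [CommRing Rb] [Algebra R Rb] [Algebra.IsIntegral R Rb]
  [IsDedekindDomain R] [IsDomain Rb] [IsIntegrallyClosed Rb] (Kb : Type w) [Field Kb] [IsAlgClosed Kb]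
  [Algebra Rb Kb] [IsFractionRing Rb Kb]

include Kb in
/-- `exists_lift` for flat schemes locally of finite type over a Dedekind domain. -/
theorem exists_lift_scheme {Y : Scheme.{u}} (f : Y ⟶ Spec (CommRingCat.of R)) [Flat f] [LocallyOfFiniteType f]
    (q : Ideal Rb) [q.IsPrime] (y : Spec (CommRingCat.of q.ResidueField) ⟶ Y)
    (hy : y ≫ f = Spec.map (CommRingCat.ofHom (algebraMap R q.ResidueField))) :
    ∃ (R₁ : Subalgebra R Rb) (_ : Module.Finite R R₁) (h : R₁), (h : Rb) ∉ q ∧
      ∃ s : Spec (CommRingCat.of (Localization.Away h)) ⟶ Y,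
        s ≫ f = Spec.map (CommRingCat.ofHom (algebraMap R (Localization.Away h))) ∧
        ∀ φ : Localization.Away h →+* q.ResidueField,
          (∀ r : R₁, φ (algebraMap R₁ _ r) = algebraMap Rb q.ResidueField r) →
            Spec.map (CommRingCat.ofHom φ) ≫ s = y := by
  let x₀ : Spec (CommRingCat.of q.ResidueField) := default
  obtain ⟨U, hU, hxU, -⟩ := exists_isAffineOpen_mem_and_subset (x := y x₀) (U := (⊤ : Y.Opens)) trivial
  let j : Spec Γ(Y, U) ⟶ Y := hU.fromSpec
  have hj : Set.range y ⊆ Set.range j := by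
    rintro _ ⟨x, rfl⟩
    rw [hU.range_fromSpec, Subsingleton.elim x x₀]
    exact hxU
  let y₁ : Spec (CommRingCat.of q.ResidueField) ⟶ Spec Γ(Y, U) := IsOpenImmersion.lift j y hj
  have hy₁ : y₁ ≫ j = y := IsOpenImmersion.lift_fac _ _ _
  obtain ⟨y₂, hy₂⟩ := Spec.map_surjective y₁
  obtain ⟨ψ, hψ⟩ := Spec.map_surjective (j ≫ f)
  let alg : Algebra R Γ(Y, U) := ψ.hom.toAlgebra
  have hft : LocallyOfFiniteType (Spec.map ψ) := by
    rw [hψ]
    infer_instance
  have hfl : Flat (Spec.map ψ) := by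
    rw [hψ]
    infer_instance
  have h1 : Algebra.FiniteType R Γ(Y, U) := (HasRingHomProperty.Spec_iff (P := @LocallyOfFiniteType)).1 hft
  have h2 : Module.Flat R Γ(Y, U) := (HasRingHomProperty.Spec_iff (P := @Flat)).1 hfl
  have h3 : ψ ≫ y₂ = CommRingCat.ofHom (algebraMap R q.ResidueField) := by
    refine Spec.map_injective ?_
    rw [Spec.map_comp, hy₂, hψ, ← Category.assoc, hy₁, hy]
  let y₃ : Γ(Y, U) →ₐ[R] q.ResidueField := ⟨y₂.hom, fun r => congrArg (fun g => g.hom r) h3⟩
  obtain ⟨R₁, hR₁, h, hh, s, hs⟩ := exists_lift (R := R) Kb q y₃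
  refine ⟨R₁, hR₁, h, hh, Spec.map (CommRingCat.ofHom s.toRingHom) ≫ j, ?_, fun φ hφ => ?_⟩
  · rw [Category.assoc, ← hψ, ← Spec.map_comp]
    congr 1
    ext r
    exact s.commutes r
  · rw [← Category.assoc, ← Spec.map_comp, ← hy₁, ← hy₂]
    congr 2
    ext b
    exact hs φ hφ b

end K632.LiftPt
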