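import Groth.Agent.AlgSp.K632.EtaleModel

/-!
# The groupoid modulo an invariant ideal
-/

set_option autoImplicit false
set_option linter.style.haveILetI false
universe u

open CategoryTheory CategoryTheory.Limits AlgebraicGeometry TensorProduct

namespace K632.NilLevel

/-- Base change of a quotient map. -/
theorem isPushout_quotient {R R' : CommRingCat.{u}} (f : R ⟶ R') (I : Ideal R) (J : Ideal R')
    (hJ : J = I.map f.hom) (h : I ≤ J.comap f.hom) :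
    IsPushout f (CommRingCat.ofHom (Ideal.Quotient.mk I)) (CommRingCat.ofHom (Ideal.Quotient.mk J))
      (CommRingCat.ofHom (Ideal.quotientMap J f.hom h)) := by
  subst hJ
  refine ⟨⟨rfl⟩, ⟨PushoutCocone.IsColimit.mk _ (fun c => CommRingCat.ofHom (Ideal.Quotient.lift _ c.inl.hom ?_))
    ?_ ?_ ?_⟩⟩
  · intro x hx
    have h1 : I.map f.hom ≤ RingHom.ker c.inl.hom := by
      rw [Ideal.map_le_iff_le_comap]
      intro y hy
      change c.inl (f y) = 0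
      have h2 : c.inl (f y) = c.inr (Ideal.Quotient.mk I y) :=
        congrArg (fun (g : R ⟶ c.pt) => g.hom y) c.condition
      rw [h2, Ideal.Quotient.eq_zero_iff_mem.2 hy, map_zero]
    exact h1 hx
  · intro c
    ext x
    rfl
  · intro c
    ext x
    exact congrArg (fun (g : R ⟶ c.pt) => g.hom x) c.condition
  · intro c m h1 h2
    ext x
    exact congrArg (fun (g : R' ⟶ c.pt) => g.hom x) h1

/-- An affine étale groupoid `(B' ⇉ C' ⇛ D')` whose reduction along a thickening is the Čech nerve of a faithfully flat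
étale ring map. -/
structure Dat (A B R₀ B' C' D' : CommRingCat.{u}) where
  j : A ⟶ B
  hj : Etale (Spec.map j)
  hjf : j.hom.FaithfullyFlat
  π : B' ⟶ B
  hπ : MoreMor.IsThickening (Spec.map π)
  ρ : C' ⟶ R₀
  s : B' ⟶ C'
  t : B' ⟶ C'
  s₀ : B ⟶ R₀
  t₀ : B ⟶ R₀
  hs : IsPushout s π ρ s₀
  ht : IsPushout t π ρ t₀
  h0 : IsPushout j j t₀ s₀
  hset : Etale (Spec.map s)
  htet : Etale (Spec.map t)
  p : C' ⟶ D'
  q : C' ⟶ D'
  m : C' ⟶ D'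
  hD : IsPushout t s p q
  hm1 : s ≫ m = s ≫ p
  hm2 : t ≫ m = t ≫ q
  e : C' ⟶ B'
  he : s ≫ e = 𝟙 B'

variable {A B R₀ B' C' D' : CommRingCat.{u}} (X : Dat A B R₀ B' C' D')

namespace Dat

/-- invariant ideals contained in the ideal of the thin part -/
structure Inv (I : Ideal B') : Prop where
  le : I ≤ RingHom.ker X.π.hom
  map : I.map X.s.hom = I.map X.t.hom

variable {X} {I : Ideal B'}

theorem Inv.le_s (_ : X.Inv I) : I ≤ (I.map X.s.hom).comap X.s.hom := Ideal.le_comap_map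

theorem Inv.le_t (hI : X.Inv I) : I ≤ (I.map X.s.hom).comap X.t.hom := by
  rw [hI.map]
  exact Ideal.le_comap_map

variable (X) (I)

/-- `B' → B'/I` -/
abbrev b : B' ⟶ CommRingCat.of (B' ⧸ I) := CommRingCat.ofHom (Ideal.Quotient.mk I)

/-- `C' → C'/I` -/
abbrev c : C' ⟶ CommRingCat.of (C' ⧸ I.map X.s.hom) := CommRingCat.ofHom (Ideal.Quotient.mk _)

/-- the source map modulo `I` -/
abbrev s₁ : CommRingCat.of (B' ⧸ I) ⟶ CommRingCat.of (C' ⧸ I.map X.s.hom) :=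
  CommRingCat.ofHom (Ideal.quotientMap _ X.s.hom Ideal.le_comap_map)

variable {X I}

/-- the target map modulo `I` -/
abbrev Inv.t₁ (hI : X.Inv I) : CommRingCat.of (B' ⧸ I) ⟶ CommRingCat.of (C' ⧸ I.map X.s.hom) :=
  CommRingCat.ofHom (Ideal.quotientMap _ X.t.hom hI.le_t)

/-- `B'/I → B` -/
abbrev Inv.π₁ (hI : X.Inv I) : CommRingCat.of (B' ⧸ I) ⟶ B :=
  CommRingCat.ofHom (Ideal.Quotient.lift I X.π.hom hI.le)

theorem Inv.push_s (_ : X.Inv I) : IsPushout X.s (b I) (X.c I) (X.s₁ I) :=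
  isPushout_quotient X.s I _ rfl _

theorem Inv.push_t (hI : X.Inv I) : IsPushout X.t (b I) (X.c I) hI.t₁ :=
  isPushout_quotient X.t I _ hI.map _

theorem Inv.b_π₁ (hI : X.Inv I) : b I ≫ hI.π₁ = X.π := rfl

instance epi_b : Epi (b I) := ConcreteCategory.epi_of_surjective _ Ideal.Quotient.mk_surjective

/-- `C'/I → R₀` -/
noncomputable def Inv.ρ₁ (hI : X.Inv I) : CommRingCat.of (C' ⧸ I.map X.s.hom) ⟶ R₀ :=
  hI.push_s.desc X.ρ (hI.π₁ ≫ X.s₀) (by rw [X.hs.w, ← Category.assoc, hI.b_π₁])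

theorem Inv.c_ρ₁ (hI : X.Inv I) : X.c I ≫ hI.ρ₁ = X.ρ := hI.push_s.inl_desc _ _ _

theorem Inv.s₁_ρ₁ (hI : X.Inv I) : X.s₁ I ≫ hI.ρ₁ = hI.π₁ ≫ X.s₀ := hI.push_s.inr_desc _ _ _

theorem Inv.t₁_ρ₁ (hI : X.Inv I) : hI.t₁ ≫ hI.ρ₁ = hI.π₁ ≫ X.t₀ := by
  rw [← cancel_epi (b I), ← Category.assoc, ← hI.push_t.w, Category.assoc, hI.c_ρ₁, X.ht.w, ← Category.assoc,
    hI.b_π₁]

theorem Inv.push_t₁ (hI : X.Inv I) : IsPushout hI.t₁ hI.π₁ hI.ρ₁ X.t₀ := by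
  refine IsPushout.of_top (h₁₁ := X.t) (v₁₁ := b I) (v₁₂ := X.c I) ?_ hI.t₁_ρ₁ hI.push_t
  rw [hI.b_π₁, hI.c_ρ₁]
  exact X.ht

theorem Inv.thick (hI : X.Inv I) : MoreMor.IsThickening (Spec.map hI.π₁) := by
  have h1 : IsClosedImmersion (Spec.map X.π) := X.hπ.1
  have h2 : Surjective (Spec.map X.π) := X.hπ.2
  rw [← hI.b_π₁, Spec.map_comp] at h1 h2
  have h3 : IsClosedImmersion (Spec.map (b I)) := IsClosedImmersion.spec_of_surjective _ Ideal.Quotient.mk_surjective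
  have h4 : IsClosedImmersion (Spec.map hI.π₁) := IsClosedImmersion.of_comp _ (Spec.map (b I))
  refine ⟨h4, ⟨fun x => ?_⟩⟩
  obtain ⟨y, hy⟩ := h2.surj (Spec.map (b I) x)
  refine ⟨y, (Spec.map (b I)).isClosedEmbedding.injective ?_⟩
  rw [← hy, Scheme.Hom.comp_apply]

theorem Inv.etale_t₁ (hI : X.Inv I) : Etale (Spec.map hI.t₁) :=
  MorphismProperty.of_isPullback (P := @Etale) (isPullback_SpecMap_of_isPushout _ _ _ _ hI.push_t).flip.flip X.htet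

theorem Inv.injective_s₁ (hI : X.Inv I) : Function.Injective (X.s₁ I) := by
  let e₁ : CommRingCat.of (C' ⧸ I.map X.s.hom) ⟶ CommRingCat.of (B' ⧸ I) :=
    hI.push_s.desc (X.e ≫ b I) (𝟙 _) (by rw [← Category.assoc, X.he, Category.id_comp, Category.comp_id])
  have h : X.s₁ I ≫ e₁ = 𝟙 _ := hI.push_s.inr_desc _ _ _
  exact Function.LeftInverse.injective (g := e₁) fun x => congrArg (fun (f : _ ⟶ CommRingCat.of (B' ⧸ I)) => f.hom x) h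

/-- **The groupoid modulo an invariant ideal is the Čech nerve of a faithfully flat ring map**, as soon as the étale
faithfully flat map `A₀ → B₀` of which `A → B` is a base change lifts to it. -/
theorem Inv.level (hI : X.Inv I) {A₀ B₀ : CommRingCat.{u}} (κ : A₀ ⟶ B₀) (hκ : Etale (Spec.map κ))
    (hκf : κ.hom.FaithfullyFlat) (ι : A₀ ⟶ A) (ψ : B₀ ⟶ CommRingCat.of (B' ⧸ I))
    (hψ : (κ ≫ ψ) ≫ hI.t₁ = κ ≫ ψ ≫ X.s₁ I) (hB : IsPushout ι κ X.j (ψ ≫ hI.π₁)) :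
    ∃ (A₁ : CommRingCat.{u}) (ι₁ : A₁ ⟶ CommRingCat.of (B' ⧸ I)), ι₁.hom.FaithfullyFlat ∧
      IsPushout ι₁ ι₁ hI.t₁ (X.s₁ I) ∧ ∀ b, X.s₁ I b = hI.t₁ b → ∃ a, ι₁ a = b := by
  have hθ : IsPushout (κ ≫ ψ) κ hI.t₁ (ψ ≫ X.s₁ I) :=
    NilRing.isPushout_of_nil X.h0 hI.thick hI.s₁_ρ₁ hI.push_t₁ hI.etale_t₁ hκ hψ hB
  have hD₁ := IsPushout.of_hasPushout hI.t₁ (X.s₁ I)
  let p₁ := pushout.inl hI.t₁ (X.s₁ I)
  let q₁ := pushout.inr hI.t₁ (X.s₁ I)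
  let δ : D' ⟶ pushout hI.t₁ (X.s₁ I) := X.hD.desc (X.c I ≫ p₁) (X.c I ≫ q₁) (by
    rw [← Category.assoc, ← Category.assoc, hI.push_t.w, hI.push_s.w, Category.assoc, Category.assoc, hD₁.w])
  have hδ1 : X.p ≫ δ = X.c I ≫ p₁ := X.hD.inl_desc _ _ _
  have hδ2 : X.q ≫ δ = X.c I ≫ q₁ := X.hD.inr_desc _ _ _
  let m₁ : CommRingCat.of (C' ⧸ I.map X.s.hom) ⟶ pushout hI.t₁ (X.s₁ I) :=
    hI.push_s.desc (X.m ≫ δ) (X.s₁ I ≫ p₁) (by
      rw [← Category.assoc, X.hm1, Category.assoc, hδ1, ← Category.assoc, ← Category.assoc, hI.push_s.w])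
  have hm₁ : X.c I ≫ m₁ = X.m ≫ δ := hI.push_s.inl_desc _ _ _
  have hm₂ : X.s₁ I ≫ m₁ = X.s₁ I ≫ p₁ := hI.push_s.inr_desc _ _ _
  have hm₃ : hI.t₁ ≫ m₁ = hI.t₁ ≫ q₁ := by
    rw [← cancel_epi (b I), ← Category.assoc, ← hI.push_t.w, Category.assoc, hm₁, ← Category.assoc, X.hm2,
      Category.assoc, hδ2, ← Category.assoc, ← Category.assoc, hI.push_t.w]
  exact NilRing.exists_invariants hD₁ hm₂ hm₃ hI.injective_s₁ hκf hθ

/-- Lifting of invariants modulo a nilpotent invariant ideal. -/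
theorem Inv.lift (hI : X.Inv I) {A₁ : CommRingCat.{u}} {ι₁ : A₁ ⟶ CommRingCat.of (B' ⧸ I)}
    (hf : ι₁.hom.FaithfullyFlat) (hp : IsPushout ι₁ ι₁ hI.t₁ (X.s₁ I)) (n : ℕ) (hn : I ^ n = ⊥) (a : A₁) :
    ∃ b' : B', b I b' = ι₁ a ∧ X.s b' = X.t b' := by
  letI i1 : Algebra A₁ (B' ⧸ I) := ι₁.hom.toAlgebra
  letI i2 : Algebra A₁ (C' ⧸ I.map X.s.hom) := (ι₁ ≫ X.s₁ I).hom.toAlgebra
  have hff : Module.FaithfullyFlat A₁ (B' ⧸ I) := hf
  have hw : ∀ x : A₁, hI.t₁ (ι₁ x) = X.s₁ I (ι₁ x) := fun x =>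
    congrArg (fun (f : A₁ ⟶ CommRingCat.of (C' ⧸ I.map X.s.hom)) => f.hom x) hp.w
  let s₀ : (B' ⧸ I) →ₐ[A₁] (C' ⧸ I.map X.s.hom) := { (X.s₁ I).hom with commutes' := fun x => rfl }
  let t₀ : (B' ⧸ I) →ₐ[A₁] (C' ⧸ I.map X.s.hom) := { hI.t₁.hom with commutes' := hw }
  have hgen : Function.Surjective (Algebra.TensorProduct.productMap s₀ t₀) :=
    (NilRing.bijective_of_isPushout s₀ t₀ hp.flip).2
  -- the map `σ`
  let r₁ : CommRingCat.of (B' ⧸ I) ⟶ CommRingCat.of ((B' ⧸ I) ⊗[A₁] (C' ⧸ I.map X.s.hom)) :=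
    CommRingCat.ofHom Algebra.TensorProduct.includeLeftRingHom
  let r₂ : CommRingCat.of (C' ⧸ I.map X.s.hom) ⟶ CommRingCat.of ((B' ⧸ I) ⊗[A₁] (C' ⧸ I.map X.s.hom)) :=
    CommRingCat.ofHom Algebra.TensorProduct.includeRight.toRingHom
  let τ : CommRingCat.of (C' ⧸ I.map X.s.hom) ⟶ CommRingCat.of ((B' ⧸ I) ⊗[A₁] (C' ⧸ I.map X.s.hom)) :=
    hp.desc r₁ (hI.t₁ ≫ r₂) (by
      ext x
      change (ι₁ x) ⊗ₜ[A₁] 1 = 1 ⊗ₜ[A₁] (hI.t₁ (ι₁ x))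
      rw [hw]
      change (algebraMap A₁ (B' ⧸ I) x) ⊗ₜ[A₁] (1 : C' ⧸ I.map X.s.hom) =
        (1 : B' ⧸ I) ⊗ₜ[A₁] (algebraMap A₁ (C' ⧸ I.map X.s.hom) x)
      rw [Algebra.algebraMap_eq_smul_one, Algebra.algebraMap_eq_smul_one, TensorProduct.smul_tmul])
  have hτ1 : hI.t₁ ≫ τ = r₁ := hp.inl_desc _ _ _
  have hτ2 : X.s₁ I ≫ τ = hI.t₁ ≫ r₂ := hp.inr_desc _ _ _
  let σ : D' ⟶ CommRingCat.of ((B' ⧸ I) ⊗[A₁] (C' ⧸ I.map X.s.hom)) :=
    X.hD.desc (X.c I ≫ r₂) (X.c I ≫ τ) (by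
      rw [← Category.assoc, hI.push_t.w, Category.assoc, ← hτ2, ← Category.assoc, ← hI.push_s.w, Category.assoc])
  have hσ1 : X.p ≫ σ = X.c I ≫ r₂ := X.hD.inl_desc _ _ _
  have hσ2 : X.q ≫ σ = X.c I ≫ τ := X.hD.inr_desc _ _ _
  have hσ3 : X.t ≫ X.q ≫ σ = b I ≫ r₁ := by
    rw [hσ2, ← Category.assoc, hI.push_t.w, Category.assoc, hτ1]
  have hpf : X.p.hom.Flat := by
    have h1 : Flat (Spec.map X.p) := by
      have : Etale (Spec.map X.s) := X.hset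
      exact MorphismProperty.of_isPullback (P := @Flat) (isPullback_SpecMap_of_isPushout _ _ _ _ X.hD).flip
        (inferInstance : Flat (Spec.map X.s))
    exact (HasRingHomProperty.Spec_iff (P := @Flat)).1 h1
  have hk : RingHom.ker (Ideal.Quotient.mk I) = I := Ideal.mk_ker
  obtain ⟨b', h1, h2⟩ := SqZeroAlg.exists_equalizer_lift (A := A₁) (B := B' ⧸ I) (R₀ := C' ⧸ I.map X.s.hom)
    (Ideal.Quotient.mk I) Ideal.Quotient.mk_surjective (Ideal.Quotient.mk (I.map X.s.hom))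
    Ideal.Quotient.mk_surjective X.s.hom X.t.hom s₀ t₀ (fun _ => rfl) (fun _ => rfl) hgen X.p.hom X.q.hom X.m.hom
    (fun x => (congrArg (fun (f : B' ⟶ D') => f.hom x) X.hm1).symm)
    (fun x => congrArg (fun (f : B' ⟶ D') => f.hom x) X.hD.w)
    (fun x => congrArg (fun (f : B' ⟶ D') => f.hom x) X.hm2) hpf σ.hom
    (fun x => congrArg (fun (f : C' ⟶ CommRingCat.of ((B' ⧸ I) ⊗[A₁] (C' ⧸ I.map X.s.hom))) => f.hom x) hσ1)
    (fun x => congrArg (fun (f : B' ⟶ CommRingCat.of ((B' ⧸ I) ⊗[A₁] (C' ⧸ I.map X.s.hom))) => f.hom x) hσ3)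
    (by rw [Ideal.mk_ker, hk]) (by rw [Ideal.mk_ker, hk, hI.map]) n (by rw [hk, hn]) a
  exact ⟨b', h1, h2⟩

end Dat

end K632.NilLevel
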