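import Groth.Agent.AlgSp.K632.NilLevel
import Groth.Agent.Flat2C.Thick
import Mathlib.RingTheory.FinitePresentation

/-!
# Lifting invariant functions along nil thickenings of affine étale groupoids with affine quotient
-/

set_option autoImplicit false
set_option linter.style.haveILetI false
universe u

open CategoryTheory CategoryTheory.Limits AlgebraicGeometry TensorProduct

namespace K632.NilLevel.Dat

variable {A B R₀ B' C' D' : CommRingCat.{u}} (X : Dat A B R₀ B' C' D')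

/-- finitely generated invariant ideals in the ideal of the thin part -/
structure Good (I : Ideal B') : Prop where
  fg : I.FG
  inv : X.Inv I

variable {X}

theorem Good.sup {I J : Ideal B'} (hI : X.Good I) (hJ : X.Good J) : X.Good (I ⊔ J) :=
  ⟨Submodule.FG.sup hI.fg hJ.fg, ⟨sup_le hI.inv.le hJ.inv.le, by rw [Ideal.map_sup, Ideal.map_sup, hI.inv.map, hJ.inv.map]⟩⟩

theorem good_bot : X.Good (⊥ : Ideal B') := ⟨Submodule.fg_bot, ⟨bot_le, by rw [Ideal.map_bot, Ideal.map_bot]⟩⟩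

theorem exists_good_finset (hQC : ∀ x ∈ RingHom.ker X.π.hom, ∃ I, X.Good I ∧ x ∈ I) (F : Finset B')
    (hF : ∀ x ∈ F, x ∈ RingHom.ker X.π.hom) : ∃ I, X.Good I ∧ ∀ x ∈ F, x ∈ I := by
  classical
  induction F using Finset.induction with
  | empty => exact ⟨⊥, good_bot, fun x hx => absurd hx (Finset.notMem_empty x)⟩
  | insert a F _ ih =>
    obtain ⟨I, hI, h1⟩ := ih fun x hx => hF x (Finset.mem_insert_of_mem hx)
    obtain ⟨J, hJ, h2⟩ := hQC a (hF a (Finset.mem_insert_self a F))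
    refine ⟨I ⊔ J, hI.sup hJ, fun x hx => ?_⟩
    rcases Finset.mem_insert.1 hx with rfl | hx
    · exact (le_sup_right : J ≤ I ⊔ J) h2
    · exact (le_sup_left : I ≤ I ⊔ J) (h1 x hx)

theorem exists_good_map (hQC : ∀ x ∈ RingHom.ker X.π.hom, ∃ I, X.Good I ∧ x ∈ I) (z : C')
    (hz : z ∈ (RingHom.ker X.π.hom).map X.s.hom) : ∃ I, X.Good I ∧ z ∈ I.map X.s.hom := by
  induction hz using Submodule.span_induction with
  | mem x hx =>
    obtain ⟨y, hy, rfl⟩ := hx
    obtain ⟨I, hI, h⟩ := hQC y hy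
    exact ⟨I, hI, Ideal.mem_map_of_mem _ h⟩
  | zero => exact ⟨⊥, good_bot, Ideal.zero_mem _⟩
  | add x y _ _ hx hy =>
    obtain ⟨I, hI, h1⟩ := hx
    obtain ⟨J, hJ, h2⟩ := hy
    exact ⟨I ⊔ J, hI.sup hJ, Ideal.add_mem _ (Ideal.map_mono le_sup_left h1) (Ideal.map_mono le_sup_right h2)⟩
  | smul a x _ hx =>
    obtain ⟨I, hI, h⟩ := hx
    exact ⟨I, hI, Ideal.mul_mem_left _ _ h⟩

theorem exists_good (hQC : ∀ x ∈ RingHom.ker X.π.hom, ∃ I, X.Good I ∧ x ∈ I) (F : Finset B')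
    (hF : ∀ x ∈ F, x ∈ RingHom.ker X.π.hom) (Z : Finset C') (hZ : ∀ z ∈ Z, z ∈ (RingHom.ker X.π.hom).map X.s.hom) :
    ∃ I, X.Good I ∧ (∀ x ∈ F, x ∈ I) ∧ ∀ z ∈ Z, z ∈ I.map X.s.hom := by
  classical
  obtain ⟨I, hI, h1⟩ := exists_good_finset hQC F hF
  have H : ∃ J, X.Good J ∧ ∀ z ∈ Z, z ∈ J.map X.s.hom := by
    clear h1
    induction Z using Finset.induction with
    | empty => exact ⟨⊥, good_bot, fun x hx => absurd hx (Finset.notMem_empty x)⟩
    | insert a Z _ ih =>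
      obtain ⟨I, hI, h1⟩ := ih fun x hx => hZ x (Finset.mem_insert_of_mem hx)
      obtain ⟨J, hJ, h2⟩ := exists_good_map hQC a (hZ a (Finset.mem_insert_self a Z))
      refine ⟨I ⊔ J, hI.sup hJ, fun x hx => ?_⟩
      rcases Finset.mem_insert.1 hx with rfl | hx
      · exact Ideal.map_mono le_sup_right h2
      · exact Ideal.map_mono le_sup_left (h1 x hx)
  obtain ⟨J, hJ, h2⟩ := H
  exact ⟨I ⊔ J, hI.sup hJ, fun x hx => (le_sup_left : I ≤ I ⊔ J) (h1 x hx), fun z hz =>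
    Ideal.map_mono le_sup_right (h2 z hz)⟩

theorem surjective_π : Function.Surjective X.π := by
  have h1 : IsClosedImmersion (Spec.map X.π) := X.hπ.1
  have h2 := (Spec.map X.π).app_surjective ⊤ (isAffineOpen_top _)
  have h3 : (Scheme.ΓSpecIso B').inv ≫ (Spec.map X.π).appTop ≫ (Scheme.ΓSpecIso B).hom = X.π := by
    rw [Scheme.ΓSpecIso_naturality, Iso.inv_hom_id_assoc]
  rw [← h3]
  intro x
  obtain ⟨y, hy⟩ := h2 ((Scheme.ΓSpecIso B).inv x)
  refine ⟨(Scheme.ΓSpecIso B').hom y, ?_⟩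
  have e1 : (Scheme.ΓSpecIso B').inv ((Scheme.ΓSpecIso B').hom y) = y :=
    congrArg (fun (f : Γ(Spec B', ⊤) ⟶ Γ(Spec B', ⊤)) => f.hom y) (Scheme.ΓSpecIso B').hom_inv_id
  have e2 : (Scheme.ΓSpecIso B).hom ((Scheme.ΓSpecIso B).inv x) = x :=
    congrArg (fun (f : B ⟶ B) => f.hom x) (Scheme.ΓSpecIso B).inv_hom_id
  change (Scheme.ΓSpecIso B).hom ((Spec.map X.π).appTop ((Scheme.ΓSpecIso B').inv ((Scheme.ΓSpecIso B').hom y))) = x
  rw [e1]
  exact (congrArg (Scheme.ΓSpecIso B).hom hy).trans e2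

theorem ker_π_le : RingHom.ker X.π.hom ≤ nilradical B' := by
  have h2 : Surjective (Spec.map X.π) := X.hπ.2
  intro x hx
  rw [nilradical_eq_sInf, Ideal.mem_sInf]
  intro P hP
  obtain ⟨y, hy⟩ := h2.surj (⟨P, hP⟩ : PrimeSpectrum B')
  have h3 : P = Ideal.comap X.π.hom (y : PrimeSpectrum B).asIdeal :=
    congrArg (fun z : PrimeSpectrum B' => z.asIdeal) hy.symm
  rw [h3, Ideal.mem_comap, show X.π.hom x = 0 from hx]
  exact Ideal.zero_mem _

/-- **Lifting of invariant functions** along a nil thickening of an affine étale groupoid whose reduction has an affine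
quotient, when the ideal is the union of finitely generated invariant ideals. -/
theorem exists_lift (hQC : ∀ x ∈ RingHom.ker X.π.hom, ∃ I, X.Good I ∧ x ∈ I) (a : A) :
    ∃ b' : B', X.π b' = X.j a ∧ X.s b' = X.t b' := by
  classical
  obtain ⟨-, hker⟩ := Groth.Agent.Flat2C.Thick.surjective_and_ker_of_isPushout X.hs surjective_π
  -- the model
  letI : Algebra A B := X.j.hom.toAlgebra
  have hff : Module.FaithfullyFlat A B := X.hjf
  have het : Algebra.Etale A B := (HasRingHomProperty.Spec_iff (P := @Etale)).1 X.hj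
  obtain ⟨A₀, B₀, κ, ι, ψ₀, hA₀, hB₀, hκ, hκf, hB⟩ := EtaleModel.exists_model (A := A) (B := B)
  obtain ⟨k, g, hg⟩ := Algebra.FiniteType.iff_quotient_mvPolynomial''.1 hA₀
  obtain ⟨n, f, hf, ⟨G, hG⟩⟩ := hB₀.out
  choose β hβ using fun i => surjective_π (X := X) (ψ₀ (f (MvPolynomial.X i)))
  let ev : MvPolynomial (Fin n) ℤ →+* B' := MvPolynomial.eval₂Hom (Int.castRingHom B') β
  have hev : ∀ x, X.π (ev x) = ψ₀ (f x) := by
    intro x
    have : X.π.hom.comp ev = ψ₀.hom.comp f.toRingHom := by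
      apply MvPolynomial.ringHom_ext
      · intro r
        simp
      · intro i
        change X.π (ev (MvPolynomial.X i)) = ψ₀ (f (MvPolynomial.X i))
        rw [← hβ, MvPolynomial.eval₂Hom_X']
    exact congrArg (fun φ => φ x) this
  choose h hh using fun i => hf (κ (g (MvPolynomial.X i)))
  have hιj : ∀ x : A₀, X.j (ι x) = ψ₀ (κ x) := fun x =>
    congrArg (fun (φ : A₀ ⟶ B) => φ.hom x) hB.w
  have h0 : ∀ x : A, X.s₀ (X.j x) = X.t₀ (X.j x) := fun x =>
    (congrArg (fun (φ : A ⟶ R₀) => φ.hom x) X.h0.w).symm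
  have hsw : ∀ x : B', X.ρ (X.s x) = X.s₀ (X.π x) := fun x =>
    congrArg (fun (φ : B' ⟶ R₀) => φ.hom x) X.hs.w
  have htw : ∀ x : B', X.ρ (X.t x) = X.t₀ (X.π x) := fun x =>
    congrArg (fun (φ : B' ⟶ R₀) => φ.hom x) X.ht.w
  have hz : ∀ x : A, ∀ y : B', X.π y = X.j x → X.s y - X.t y ∈ (RingHom.ker X.π.hom).map X.s.hom := by
    intro x y hxy
    rw [← hker, RingHom.mem_ker]
    change X.ρ (X.s y - X.t y) = 0
    rw [map_sub, hsw, htw, hxy, h0, sub_self]
  obtain ⟨b₀, hb₀⟩ := surjective_π (X := X) (X.j a)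
  obtain ⟨I, hI, hI1, hI2⟩ := exists_good hQC (G.image ev) (by
      intro x hx
      obtain ⟨y, hy, rfl⟩ := Finset.mem_image.1 hx
      rw [RingHom.mem_ker]
      change X.π (ev y) = 0
      rw [hev]
      have h1 : y ∈ RingHom.ker f.toRingHom := by
        rw [← hG]
        exact Ideal.subset_span hy
      rw [show f y = 0 from h1, map_zero])
    (insert (X.s b₀ - X.t b₀) (Finset.univ.image fun i => X.s (ev (h i)) - X.t (ev (h i)))) (by
      intro z hz'
      rcases Finset.mem_insert.1 hz' with rfl | hz'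
      · exact hz a b₀ hb₀
      · obtain ⟨i, -, rfl⟩ := Finset.mem_image.1 hz'
        refine hz (ι (g (MvPolynomial.X i))) _ ?_
        rw [hev, hh, hιj])
  -- the lift of `ψ₀`
  have hkill : RingHom.ker f.toRingHom ≤ RingHom.ker ((Ideal.Quotient.mk I).comp ev) := by
    rw [← hG, Ideal.span_le]
    intro y hy
    change Ideal.Quotient.mk I (ev y) = 0
    exact Ideal.Quotient.eq_zero_iff_mem.2 (hI1 _ (Finset.mem_image_of_mem _ hy))
  let ψ : B₀ ⟶ CommRingCat.of (B' ⧸ I) := CommRingCat.ofHom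
    (RingHom.liftOfSurjective f.toRingHom hf ⟨(Ideal.Quotient.mk I).comp ev, hkill⟩)
  have hψf : ∀ x, ψ (f x) = Ideal.Quotient.mk I (ev x) := fun x =>
    RingHom.liftOfSurjective_comp_apply f.toRingHom hf ⟨(Ideal.Quotient.mk I).comp ev, hkill⟩ x
  have hψ₀ : ψ ≫ hI.inv.π₁ = ψ₀ := by
    ext x
    obtain ⟨y, rfl⟩ := hf x
    change hI.inv.π₁ (ψ (f y)) = _
    rw [hψf]
    exact hev y
  have hψ : (κ ≫ ψ) ≫ hI.inv.t₁ = κ ≫ ψ ≫ X.s₁ I := by
    have e1 : (((κ ≫ ψ) ≫ hI.inv.t₁).hom.comp g.toRingHom) = ((κ ≫ ψ ≫ X.s₁ I).hom.comp g.toRingHom) := by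
      apply MvPolynomial.ringHom_ext
      · intro r
        simp
      · intro i
        change hI.inv.t₁ (ψ (κ (g (MvPolynomial.X i)))) = X.s₁ I (ψ (κ (g (MvPolynomial.X i))))
        rw [← hh, hψf]
        change Ideal.Quotient.mk _ (X.t (ev (h i))) = Ideal.Quotient.mk _ (X.s (ev (h i)))
        symm
        rw [Ideal.Quotient.eq]
        exact hI2 _ (Finset.mem_insert_of_mem (Finset.mem_image_of_mem _ (Finset.mem_univ i)))
    ext x
    obtain ⟨y, rfl⟩ := hg x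
    exact congrArg (fun φ => φ y) e1
  obtain ⟨A₁, ι₁, h1, h2, h3⟩ := hI.inv.level κ hκ hκf ι ψ hψ (by rw [hψ₀]; exact hB)
  obtain ⟨a₁, ha₁⟩ := h3 (Ideal.Quotient.mk I b₀) (by
    change Ideal.Quotient.mk _ (X.s b₀) = Ideal.Quotient.mk _ (X.t b₀)
    rw [Ideal.Quotient.eq]
    exact hI2 _ (Finset.mem_insert_self _ _))
  obtain ⟨N, hN⟩ := (hI.fg.isNilpotent_iff_le_nilradical).2 (hI.inv.le.trans ker_π_le)
  obtain ⟨b', hb1, hb2⟩ := hI.inv.lift h1 h2 N hN a₁
  refine ⟨b', ?_, hb2⟩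
  have e1 : X.π b' = hI.inv.π₁ (b I b') := rfl
  rw [e1, hb1, ha₁]
  exact hb₀

end K632.NilLevel.Dat
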