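import Groth.Agent.AlgSp.K632.SqZeroAlg
import Groth.Agent.AlgSp.K632.IntThickA
import Mathlib.RingTheory.Smooth.NoetherianDescent
import Mathlib.AlgebraicGeometry.Morphisms.Etale

/-!
# Affine étale groupoids whose reduction modulo a nil ideal has an affine quotient

Ring level: if the groupoid `(B₁ ⇉ C₁ ⇛ D₁)` reduces modulo a nil ideal to the Čech nerve of an étale faithfully flat
`A → B` which comes by base change from `A₀ → B₀`, and `B₀ → B` lifts to `B₀ → B₁` in an invariant way, then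
`(B₁ ⇉ C₁)` is the Čech nerve of a faithfully flat ring map `A₁ → B₁`, `A₁` the ring of invariants.
-/

set_option autoImplicit false
set_option linter.style.haveILetI false
universe u

open CategoryTheory CategoryTheory.Limits AlgebraicGeometry TensorProduct

namespace K632.NilRing

section pushout

/-- A square of rings is a pushout iff the tensor product maps isomorphically. -/
theorem bijective_of_isPushout {R A B P : Type u} [CommRing R] [CommRing A] [CommRing B] [CommRing P] [Algebra R A]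
    [Algebra R B] [Algebra R P] (a : A →ₐ[R] P) (b : B →ₐ[R] P)
    (h : IsPushout (CommRingCat.ofHom (algebraMap R A)) (CommRingCat.ofHom (algebraMap R B))
      (CommRingCat.ofHom a.toRingHom) (CommRingCat.ofHom b.toRingHom)) :
    Function.Bijective (Algebra.TensorProduct.productMap a b) := by
  have h2 := CommRingCat.isPushout_tensorProduct R A B
  have e : (h2.isoIsPushout _ _ h).hom = CommRingCat.ofHom (Algebra.TensorProduct.productMap a b).toRingHom := by
    apply h2.hom_ext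
    · rw [IsPushout.inl_isoIsPushout_hom]
      ext x
      exact (Algebra.TensorProduct.productMap_left_apply a b x).symm
    · rw [IsPushout.inr_isoIsPushout_hom]
      ext x
      exact (Algebra.TensorProduct.productMap_right_apply a b x).symm
  have h3 : Function.Bijective (h2.isoIsPushout _ _ h).hom.hom :=
    ConcreteCategory.bijective_of_isIso (h2.isoIsPushout _ _ h).hom
  rw [e] at h3
  exact h3

theorem isPushout_of_bijective {R A B P : Type u} [CommRing R] [CommRing A] [CommRing B] [CommRing P] [Algebra R A]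
    [Algebra R B] [Algebra R P] (a : A →ₐ[R] P) (b : B →ₐ[R] P)
    (h : Function.Bijective (Algebra.TensorProduct.productMap a b)) :
    IsPushout (CommRingCat.ofHom (algebraMap R A)) (CommRingCat.ofHom (algebraMap R B))
      (CommRingCat.ofHom a.toRingHom) (CommRingCat.ofHom b.toRingHom) := by
  have h2 := CommRingCat.isPushout_tensorProduct R A B
  let e : CommRingCat.of (A ⊗[R] B) ≅ CommRingCat.of P := (RingEquiv.ofBijective
    (Algebra.TensorProduct.productMap a b).toRingHom h).toCommRingCatIso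
  refine IsPushout.of_iso h2 (Iso.refl _) (Iso.refl _) (Iso.refl _) e (by simp) (by simp) ?_ ?_
  · rw [Iso.refl_hom, Category.id_comp]
    ext x
    exact (Algebra.TensorProduct.productMap_left_apply a b x)
  · rw [Iso.refl_hom, Category.id_comp]
    ext x
    exact (Algebra.TensorProduct.productMap_right_apply a b x)

end pushout

/-- The comparison map of the groupoid with the base change of the étale map `A₀ → B₀`. -/
theorem isPushout_of_nil {A B R₀ B₁ C₁ A₀ B₀ : CommRingCat.{u}} {j : A ⟶ B} {s₀ t₀ : B ⟶ R₀}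
    (h0 : IsPushout j j t₀ s₀) {π : B₁ ⟶ B} (hπ : MoreMor.IsThickening (Spec.map π)) {ρ : C₁ ⟶ R₀}
    {s t : B₁ ⟶ C₁} (hs : s ≫ ρ = π ≫ s₀) (ht : IsPushout t π ρ t₀) (htet : Etale (Spec.map t))
    {κ : A₀ ⟶ B₀} (hκ : Etale (Spec.map κ)) {ι : A₀ ⟶ A} {ψ : B₀ ⟶ B₁} (hψ : (κ ≫ ψ) ≫ t = κ ≫ ψ ≫ s)
    (hB : IsPushout ι κ j (ψ ≫ π)) : IsPushout (κ ≫ ψ) κ t (ψ ≫ s) := by
  let E₁ := pushout (κ ≫ ψ) κ
  have hE₁ : IsPushout (κ ≫ ψ) κ (pushout.inl (κ ≫ ψ) κ) (pushout.inr (κ ≫ ψ) κ) := IsPushout.of_hasPushout _ _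
  let θ : E₁ ⟶ C₁ := pushout.desc t (ψ ≫ s) hψ
  have hθ1 : pushout.inl (κ ≫ ψ) κ ≫ θ = t := pushout.inl_desc _ _ _
  have hθ2 : pushout.inr (κ ≫ ψ) κ ≫ θ = ψ ≫ s := pushout.inr_desc _ _ _
  let a : B₁ ⟶ E₁ := pushout.inl (κ ≫ ψ) κ
  have hE : IsPushout a π (pushout.inl a π) (pushout.inr a π) := IsPushout.of_hasPushout _ _
  let θ₀ : pushout a π ⟶ R₀ := pushout.desc (θ ≫ ρ) t₀ (by
    rw [← Category.assoc, hθ1, ht.w])
  have hθ₀1 : pushout.inl a π ≫ θ₀ = θ ≫ ρ := pushout.inl_desc _ _ _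
  have hθ₀2 : pushout.inr a π ≫ θ₀ = t₀ := pushout.inr_desc _ _ _
  have hr : IsPushout θ (pushout.inl a π) ρ θ₀ := by
    refine IsPushout.of_left (h₁₁ := a) (v₁₁ := π) (h₂₁ := pushout.inr a π) ?_ hθ₀1.symm hE
    rw [hθ1, hθ₀2]
    exact ht
  -- `θ₀` is an isomorphism
  have h1 : IsPushout ((κ ≫ ψ) ≫ π) κ (pushout.inr a π) (pushout.inr (κ ≫ ψ) κ ≫ pushout.inl a π) := by
    have := hE₁.paste_horiz hE.flip
    exact this
  have h2 : IsPushout ((κ ≫ ψ) ≫ π) κ t₀ (ψ ≫ π ≫ s₀) := by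
    have h3 := hB.paste_horiz h0
    rw [hB.w] at h3
    simpa only [Category.assoc] using h3
  have hiso : IsIso θ₀ := by
    have e : θ₀ = (h1.isoIsPushout _ _ h2).hom := by
      apply h1.hom_ext
      · rw [IsPushout.inl_isoIsPushout_hom, hθ₀2]
      · rw [IsPushout.inr_isoIsPushout_hom, Category.assoc, hθ₀1, ← Category.assoc, hθ2, Category.assoc, hs]
    rw [e]
    infer_instance
  -- `θ` is an isomorphism
  have hEt : Etale (Spec.map θ) := by
    have e1 : Etale (Spec.map a) :=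
      MorphismProperty.of_isPullback (P := @Etale) (isPullback_SpecMap_of_isPushout _ _ _ _ hE₁).flip hκ
    have e2 : Etale (Spec.map θ ≫ Spec.map a) := by
      rw [← Spec.map_comp, hθ1]
      exact htet
    exact Etale.of_comp (Spec.map θ) (Spec.map a)
  have hth : MoreMor.IsThickening (Spec.map (pushout.inl a π)) :=
    MorphismProperty.of_isPullback (P := AlgSp.thick) (isPullback_SpecMap_of_isPushout _ _ _ _ hE).flip hπ
  have hθ : IsIso (Spec.map θ) := K632.IntThickA.isIso_of_etale (Spec.map ρ) (Spec.map (pushout.inl a π))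
    (Spec.map θ₀) (Spec.map θ) hth (isPullback_SpecMap_of_isPushout _ _ _ _ hr)
  have hθ' : IsIso θ := by
    rw [isIso_SpecMap_iff] at hθ
    exact (ConcreteCategory.isIso_iff_bijective θ).2 hθ
  exact IsPushout.of_iso hE₁ (Iso.refl _) (Iso.refl _) (Iso.refl _) (asIso θ) (by simp) (by simp)
    (by simp [hθ1]) (by simp [hθ2])

/-- If `B₁ ⇉ C₁` becomes split by the faithfully flat `κ : A₀ → B₀`, then it is the Čech nerve of the faithfully flat
inclusion of the ring of invariants. -/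
theorem exists_invariants {B₁ C₁ D₁ A₀ B₀ : CommRingCat.{u}} {s t : B₁ ⟶ C₁} {p q m : C₁ ⟶ D₁}
    (hD : IsPushout t s p q) (hm1 : s ≫ m = s ≫ p) (hm2 : t ≫ m = t ≫ q) (hsi : Function.Injective s)
    {κ : A₀ ⟶ B₀} (hκ : κ.hom.FaithfullyFlat) {ψ : B₀ ⟶ B₁} (hθ : IsPushout (κ ≫ ψ) κ t (ψ ≫ s)) :
    ∃ (A₁ : CommRingCat.{u}) (ι₁ : A₁ ⟶ B₁), ι₁.hom.FaithfullyFlat ∧ IsPushout ι₁ ι₁ t s ∧
      ∀ b : B₁, s b = t b → ∃ a, ι₁ a = b := by
  let A₁ : Subring B₁ := RingHom.eqLocus s.hom t.hom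
  letI i1 : Algebra A₀ B₀ := κ.hom.toAlgebra
  letI i2 : Algebra A₀ B₁ := (κ ≫ ψ).hom.toAlgebra
  letI i3 : Algebra A₀ C₁ := ((κ ≫ ψ) ≫ s).hom.toAlgebra
  letI i4 : Algebra A₀ D₁ := (((κ ≫ ψ) ≫ s) ≫ q).hom.toAlgebra
  have hw : ∀ x : A₀, s (ψ (κ x)) = t (ψ (κ x)) := fun x =>
    (congrArg (fun (f : A₀ ⟶ C₁) => f.hom x) hθ.w).symm
  letI i5 : Algebra A₀ A₁ := ((κ ≫ ψ).hom.codRestrict A₁ hw).toAlgebra
  have hff : Module.FaithfullyFlat A₀ B₀ := hκ
  let tA : B₁ →ₐ[A₀] C₁ := { t.hom with commutes' := fun x => (hw x).symm }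
  let sA : B₁ →ₐ[A₀] C₁ := { s.hom with commutes' := fun x => rfl }
  let ψA : B₀ →ₐ[A₀] B₁ := { ψ.hom with commutes' := fun x => rfl }
  let iA : A₁ →ₐ[A₀] B₁ := { A₁.subtype with commutes' := fun x => rfl }
  have hDw : ∀ x : B₁, p (t x) = q (s x) := fun x => congrArg (fun (f : B₁ ⟶ D₁) => f.hom x) hD.w
  have hm1' : ∀ x : B₁, m (s x) = p (s x) := fun x => congrArg (fun (f : B₁ ⟶ D₁) => f.hom x) hm1
  have hm2' : ∀ x : B₁, m (t x) = q (t x) := fun x => congrArg (fun (f : B₁ ⟶ D₁) => f.hom x) hm2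
  let qA : C₁ →ₐ[A₀] D₁ := { q.hom with commutes' := fun x => rfl }
  let pA : B₀ →ₐ[A₀] D₁ := { (ψ ≫ s ≫ p).hom with
    commutes' := fun x => by
      change p (s (ψ (κ x))) = q (s (ψ (κ x)))
      rw [← hDw, hw] }
  -- the two comparison maps
  let θ : B₁ ⊗[A₀] B₀ →ₐ[A₀] C₁ := Algebra.TensorProduct.productMap tA (sA.comp ψA)
  have hθb : Function.Bijective θ := bijective_of_isPushout tA (sA.comp ψA) hθ
  let θ₂ : C₁ ⊗[A₀] B₀ →ₐ[A₀] D₁ := Algebra.TensorProduct.productMap qA pA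
  have hθ₂b : Function.Bijective θ₂ := by
    refine bijective_of_isPushout qA pA ?_
    have := hθ.paste_horiz hD.flip
    exact this
  let g : A₁ ⊗[A₀] B₀ →ₐ[A₀] B₁ := Algebra.TensorProduct.productMap iA ψA
  have hz1 : ∀ z : B₁ ⊗[A₀] B₀, θ₂ (sA.toLinearMap.rTensor B₀ z) = p (θ z) := by
    intro z
    induction z with
    | zero => simp only [map_zero]
    | add x y hx hy => simp only [map_add, hx, hy]
    | tmul x y =>
      change θ₂ (s x ⊗ₜ y) = p (θ (x ⊗ₜ y))
      rw [Algebra.TensorProduct.productMap_apply_tmul, Algebra.TensorProduct.productMap_apply_tmul, map_mul]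
      change q (s x) * p (s (ψ y)) = p (t x) * p (s (ψ y))
      rw [hDw]
  have hz2 : ∀ z : B₁ ⊗[A₀] B₀, θ₂ (tA.toLinearMap.rTensor B₀ z) = m (θ z) := by
    intro z
    induction z with
    | zero => simp only [map_zero]
    | add x y hx hy => simp only [map_add, hx, hy]
    | tmul x y =>
      change θ₂ (t x ⊗ₜ y) = m (θ (x ⊗ₜ y))
      rw [Algebra.TensorProduct.productMap_apply_tmul, Algebra.TensorProduct.productMap_apply_tmul, map_mul]
      change q (t x) * p (s (ψ y)) = m (t x) * m (s (ψ y))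
      rw [hm1', hm2']
  have hz3 : ∀ w : A₁ ⊗[A₀] B₀, s (g w) = θ (iA.toLinearMap.rTensor B₀ w) := by
    intro w
    induction w with
    | zero => simp only [map_zero]
    | add x y hx hy => simp only [map_add, hx, hy]
    | tmul x y =>
      change s (g (x ⊗ₜ y)) = θ ((x : B₁) ⊗ₜ y)
      rw [Algebra.TensorProduct.productMap_apply_tmul, Algebra.TensorProduct.productMap_apply_tmul, map_mul]
      change s (x : B₁) * s (ψ y) = t (x : B₁) * s (ψ y)
      rw [show s (x : B₁) = t (x : B₁) from x.2]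
  have hex : Function.Exact (iA.toLinearMap.rTensor B₀)
      ((sA.toLinearMap - tA.toLinearMap).rTensor B₀) := by
    refine Module.Flat.rTensor_exact B₀ fun x => ?_
    constructor
    · intro hx
      have : s x - t x = 0 := hx
      exact ⟨⟨x, sub_eq_zero.1 this⟩, rfl⟩
    · rintro ⟨x, rfl⟩
      change s (x : B₁) - t (x : B₁) = 0
      exact sub_eq_zero.2 x.2
  have hinj : Function.Injective (iA.toLinearMap.rTensor B₀) :=
    Module.Flat.rTensor_preserves_injective_linearMap _ Subtype.val_injective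
  have hg : Function.Bijective g := by
    constructor
    · intro w w' h
      apply hinj
      apply hθb.1
      rw [← hz3, ← hz3, h]
    · intro x
      obtain ⟨z, hz⟩ := hθb.2 (s x)
      have h1 : (sA.toLinearMap - tA.toLinearMap).rTensor B₀ z = 0 := by
        rw [LinearMap.rTensor_sub, LinearMap.sub_apply, sub_eq_zero]
        apply hθ₂b.1
        rw [hz1, hz2, hz, hm1']
      obtain ⟨w, hw'⟩ := (hex z).1 h1
      refine ⟨w, hsi ?_⟩
      rw [hz3, hw', hz]
  have hpush := isPushout_of_bijective iA ψA hg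
  refine ⟨CommRingCat.of A₁, CommRingCat.ofHom A₁.subtype, ?_, ?_, fun b hb => ⟨⟨b, hb⟩, rfl⟩⟩
  · have h1 : (algebraMap A₁ (A₁ ⊗[A₀] B₀)).FaithfullyFlat :=
      RingHom.faithfullyFlat_algebraMap_iff.2 inferInstance
    have h2 : (g : A₁ ⊗[A₀] B₀ →+* B₁).FaithfullyFlat := RingHom.FaithfullyFlat.of_bijective hg
    have h3 := RingHom.FaithfullyFlat.stableUnderComposition _ _ h1 h2
    have e : (g : A₁ ⊗[A₀] B₀ →+* B₁).comp (algebraMap A₁ (A₁ ⊗[A₀] B₀)) = A₁.subtype := by
      ext x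
      exact Algebra.TensorProduct.productMap_left_apply iA ψA x
    rwa [e] at h3
  · refine IsPushout.of_left (h₁₁ := CommRingCat.ofHom (algebraMap A₀ A₁)) (v₁₁ := κ) (h₂₁ := ψ) hθ ?_ hpush
    ext x
    exact (x.2 : s (x : B₁) = t (x : B₁)).symm

end K632.NilRing
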