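import Groth.Agent.AlgSp.K632.Chart
import Groth.Agent.AlgSp.K616.DimInv

/-!
# Relative dimension at points and thickenings

For a cartesian square of algebraic spaces over a thickening, the fibre dimensions of `f` and `f'` at corresponding
points agree.
-/

set_option autoImplicit false
universe u
open CategoryTheory CategoryTheory.Limits AlgebraicGeometry Opposite

namespace K632.RelDim

open AlgSp K632.Basic K632.Chart

variable {S : Scheme.{u}}

/-- points `u'` of a chart `U'` of `X'` lift to the chart `U = X ×_{X'} U'`; a point `x` of `X` with `i x = a' u'`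
is the image of a point `u` of `U` over `u'`. -/
theorem exists_point_chart {X X' : Sp S} {i : X ⟶ X'} {U U' : Over S} {a : (yon S).obj U ⟶ X}
    {a' : (yon S).obj U' ⟶ X'} {iU : U ⟶ U'} (sq : IsPullback a ((yon S).map iU) i a') (x : Points X)
    (u' : ↥U'.left) (h : Points.ofPt a' u' = Points.map i x) :
    ∃ u : ↥U.left, Points.ofPt a u = x ∧ iU.left u = u' := by
  obtain ⟨z, h1, h2⟩ := K616.Refine.exists_point_of_isPullback sq x (Points.ofScheme U' u')
    (by rw [← Points.ofPt_eq_map_ofScheme, h])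
  obtain ⟨u, rfl⟩ := K616.Refine.exists_ofPt_of_yon z
  refine ⟨u, ?_, ?_⟩
  · rwa [Points.map_ofPt, Category.id_comp] at h1
  · rw [Points.map_ofPt, Category.id_comp] at h2
    have := congrArg (Points.toScheme U') h2
    rwa [Points.toScheme_ofPt, Points.toScheme_ofScheme] at this

/-- Relative dimension `d` transfers along cartesian squares over a thickening. -/
theorem relDim_iff {X X' Y Y' : Sp S} {i : X ⟶ X'} {j : Y ⟶ Y'} {f : X ⟶ Y} {f' : X' ⟶ Y'}
    (sq : IsPullback i f f' j) (hj : IsThickMor j) (hX' : IsAlgSpace X') (hY' : IsAlgSpace Y')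
    (hf : LocP @LocallyOfFiniteType f) (hf' : LocP @LocallyOfFiniteType f') (R : WithBot ℕ∞ → Prop) :
    (∀ x, HasAtMor (fun _ _ h u => R (FlatMor.fibreDimAt h u)) f x) ↔
      (∀ x', HasAtMor (fun _ _ h u => R (FlatMor.fibreDimAt h u)) f' x') := by
  have key : ∀ (x' : Points X'), ∃ (U U' V V' : Over S) (iU : U ⟶ U') (iV : V ⟶ V')
      (a : (yon S).obj U ⟶ X) (b : (yon S).obj V ⟶ Y) (h : U ⟶ V)
      (a' : (yon S).obj U' ⟶ X') (b' : (yon S).obj V' ⟶ Y') (h' : U' ⟶ V') (u' : ↥U'.left),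
      RepWith @Etale a' ∧ RepWith @Etale b' ∧ a' ≫ f' = (yon S).map h' ≫ b' ∧
      IsPullback a ((yon S).map iU) i a' ∧ IsPullback b ((yon S).map iV) j b' ∧
      a ≫ f = (yon S).map h ≫ b ∧ IsPullback iU.left h.left h'.left iV.left ∧
      Points.ofPt a' u' = x' ∧ Function.Surjective iU.left := by
    intro x'
    obtain ⟨U', V', a', b', h', u', ha, hb, w, hu⟩ := K616.Inv.exists_diagram hX' hY' f' x'
    obtain ⟨U, V, iU, iV, a, b, h, hU, hV, hw, hsq, ht, -⟩ := exists_cartesian_chart sq hj a' b' h' w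
    exact ⟨U, U', V, V', iU, iV, a, b, h, a', b', h', u', ha, hb, w, hU, hV, hw, hsq, hu, ht.2.surj⟩
  have comp : ∀ {U U' V V' : Over S} {iU : U ⟶ U'} {iV : V ⟶ V'}
      {a : (yon S).obj U ⟶ X} {b : (yon S).obj V ⟶ Y} {h : U ⟶ V}
      {a' : (yon S).obj U' ⟶ X'} {b' : (yon S).obj V' ⟶ Y'} {h' : U' ⟶ V'} (u : ↥U.left)
      (_ : RepWith @Etale a') (_ : RepWith @Etale b') (_ : a' ≫ f' = (yon S).map h' ≫ b')
      (_ : IsPullback a ((yon S).map iU) i a') (_ : IsPullback b ((yon S).map iV) j b')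
      (_ : a ≫ f = (yon S).map h ≫ b) (_ : IsPullback iU.left h.left h'.left iV.left),
      HasAtMor (fun _ _ h u => R (FlatMor.fibreDimAt h u)) f (Points.ofPt a u) ↔
      HasAtMor (fun _ _ h u => R (FlatMor.fibreDimAt h u)) f' (Points.ofPt a' (iU.left u)) := by
    intro U U' V V' iU iV a b h a' b' h' u ha hb w hU hV hw hsq
    have ha1 := repWith_of_isPullback hU.flip ha
    have hb1 := repWith_of_isPullback hV.flip hb
    have : LocallyOfFiniteType h'.left := hf' a' b' h' ha hb w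
    rw [K616.Inv.hasAtMor_iff (K616.DimInv.etInvOn_fibreDimAt R) hf a b h ha1 hb1 hw,
      K616.Inv.hasAtMor_iff (K616.DimInv.etInvOn_fibreDimAt R) hf' a' b' h' ha hb w]
    rw [Groth.Agent.Ega4fib.H172.FibDimBC.fibreDimAt_of_isPullback hsq u]
  constructor
  · intro H x'
    obtain ⟨U, U', V, V', iU, iV, a, b, h, a', b', h', u', ha, hb, w, hU, hV, hw, hsq, hu, hs⟩ := key x'
    obtain ⟨u, rfl⟩ := hs u'
    rw [← hu]
    exact (comp u ha hb w hU hV hw hsq).1 (H _)
  · intro H x
    obtain ⟨U, U', V, V', iU, iV, a, b, h, a', b', h', u', ha, hb, w, hU, hV, hw, hsq, hu, hs⟩ :=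
      key (Points.map i x)
    obtain ⟨u, hu1, hu2⟩ := exists_point_chart hU x u' hu
    rw [← hu1]
    exact (comp u ha hb w hU hV hw hsq).2 (H _)

end K632.RelDim
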