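import Mathlib.RingTheory.RingHom.FaithfullyFlat
import Mathlib.RingTheory.TensorProduct.Basic
import Mathlib.Algebra.Module.Torsion.Basic
import Mathlib.LinearAlgebra.TensorProduct.RightExactness
import Mathlib.RingTheory.Flat.FaithfullyFlat.Basic

/-!
# Lifting invariant functions along nilpotent thickenings of affine étale groupoids

Ring theoretic form of the vanishing of the first Čech cohomology with coefficients in the graded pieces of a
nilpotent ideal on a groupoid `(B' ⇉ C' ⇛ D')` whose reduction modulo the ideal is the Čech nerve of a faithfully flat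
ring map `A → B`.
-/

set_option autoImplicit false
set_option linter.style.haveILetI false
universe u

open TensorProduct

namespace K632.SqZeroAlg

theorem exists_of_cocycle {A B R₀ B' C' D' : Type u} [CommRing A] [CommRing B] [CommRing R₀] [CommRing B']
    [CommRing C'] [CommRing D'] [Algebra A B] [Module.FaithfullyFlat A B] [Algebra A R₀]
    (π : B' →+* B) (hπ : Function.Surjective π) (ρ : C' →+* R₀) (hρ : Function.Surjective ρ)
    (s t : B' →+* C') (s₀ t₀ : B →ₐ[A] R₀) (hs : ∀ b, ρ (s b) = s₀ (π b)) (ht : ∀ b, ρ (t b) = t₀ (π b))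
    (hgen : Function.Surjective (Algebra.TensorProduct.productMap s₀ t₀))
    (p q m : C' →+* D') (e1 : ∀ b, p (s b) = m (s b)) (e2 : ∀ b, p (t b) = q (s b))
    (e3 : ∀ b, m (t b) = q (t b)) (hp : p.Flat)
    (σ : D' →+* B ⊗[A] R₀) (hσ1 : ∀ c, σ (p c) = 1 ⊗ₜ ρ c) (hσ2 : ∀ b, σ (q (t b)) = π b ⊗ₜ 1)
    (N N₂ : Ideal B') (M M₂ : Ideal C') (hMs : M = N.map s) (hMt : M = N.map t)
    (hM₂s : M₂ = N₂.map s) (hM₂t : M₂ = N₂.map t) (hJ : RingHom.ker ρ * M ≤ M₂)
    (c : C') (hc : c ∈ M) (hcoc : q c - m c + p c = 0) :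
    ∃ n ∈ N, c - (t n - s n) ∈ M₂ := by
  letI : Algebra C' D' := p.toAlgebra
  have hflat : Module.Flat C' D' := hp
  let mk : C' →ₗ[C'] C' ⧸ M₂ := Submodule.mkQ (M₂ : Submodule C' C')
  have hmk : ∀ x, mk x = 0 ↔ x ∈ M₂ := fun x => Submodule.Quotient.mk_eq_zero _
  let G : Submodule C' (C' ⧸ M₂) := Submodule.map mk M
  have mkG : ∀ x : C', x ∈ M → mk x ∈ G := fun x hx => ⟨x, hx, rfl⟩
  -- `G` is a module over `R₀`
  have htors : Module.IsTorsionBySet C' G (RingHom.ker ρ : Set C') := by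
    rintro ⟨_, ⟨x, hx, rfl⟩⟩ ⟨a, ha⟩
    apply Subtype.ext
    change a • mk x = 0
    rw [← map_smul, hmk]
    exact hJ (Ideal.mul_mem_mul ha hx)
  letI : Module (C' ⧸ RingHom.ker ρ) G := htors.module
  let e : (C' ⧸ RingHom.ker ρ) ≃+* R₀ := RingHom.quotientKerEquivOfSurjective hρ
  letI : Module R₀ G := Module.compHom G (e.symm : R₀ →+* C' ⧸ RingHom.ker ρ)
  have hsm : ∀ (x : C') (g : G), ρ x • g = x • g := by
    intro x g
    have h1 : e.symm (ρ x) = Ideal.Quotient.mk _ x := by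
      rw [RingEquiv.symm_apply_eq]
      rfl
    change (e.symm (ρ x)) • g = x • g
    rw [h1]
    rfl
  letI : Module A G := Module.compHom G (algebraMap A R₀)
  have hst : IsScalarTower A R₀ G := ⟨fun a r g => by
    rw [Algebra.smul_def, mul_smul]
    rfl⟩
  -- the coboundaries
  have hsA : ∀ (a : A) (b' : B') (_ : π b' = algebraMap A B a), ρ (s b') = algebraMap A R₀ a := by
    intro a b' h
    rw [hs, h, AlgHom.commutes]
  have htA : ∀ (a : A) (b' : B') (_ : π b' = algebraMap A B a), ρ (t b') = algebraMap A R₀ a := by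
    intro a b' h
    rw [ht, h, AlgHom.commutes]
  have hNs : ∀ n ∈ N, s n ∈ M := fun n hn => hMs ▸ Ideal.mem_map_of_mem s hn
  have hNt : ∀ n ∈ N, t n ∈ M := fun n hn => hMt ▸ Ideal.mem_map_of_mem t hn
  let Δ : Submodule A G :=
    { carrier := {g | ∃ n ∈ N, (g : C' ⧸ M₂) = mk (t n - s n)}
      add_mem' := by
        rintro a b ⟨n, hn, h1⟩ ⟨k, hk, h2⟩
        refine ⟨n + k, add_mem hn hk, ?_⟩
        rw [Submodule.coe_add, h1, h2, ← map_add]
        congr 1
        rw [map_add, map_add]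
        ring
      zero_mem' := ⟨0, zero_mem _, by simp⟩
      smul_mem' := by
        rintro a g ⟨n, hn, h⟩
        obtain ⟨b', hb'⟩ := hπ (algebraMap A B a)
        refine ⟨b' * n, Ideal.mul_mem_left _ _ hn, ?_⟩
        have hg : g = ⟨mk (t n), mkG _ (hNt n hn)⟩ - ⟨mk (s n), mkG _ (hNs n hn)⟩ := by
          apply Subtype.ext
          rw [h, map_sub]
          rfl
        have h1 : a • (⟨mk (t n), mkG _ (hNt n hn)⟩ : G) = t b' • (⟨mk (t n), mkG _ (hNt n hn)⟩ : G) := by
          rw [← hsm, htA a b' hb']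
          rfl
        have h2 : a • (⟨mk (s n), mkG _ (hNs n hn)⟩ : G) = s b' • (⟨mk (s n), mkG _ (hNs n hn)⟩ : G) := by
          rw [← hsm, hsA a b' hb']
          rfl
        rw [hg, smul_sub, h1, h2]
        change t b' • mk (t n) - s b' • mk (s n) = _
        rw [← map_smul mk, ← map_smul mk, ← map_sub, map_mul, map_mul]
        rfl }
  -- `κ : G ⊗ D' → B ⊗ G`
  let sp : G → (R₀ →ₗ[A] G) := fun g => (LinearMap.toSpanSingleton R₀ G g).restrictScalars A
  have hsp : ∀ g r, sp g r = r • g := fun g r => rfl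
  let f : G →+ D' →+ B ⊗[A] G :=
    { toFun := fun g => ((sp g).lTensor B).toAddMonoidHom.comp σ.toAddMonoidHom
      map_zero' := by
        ext d
        change (sp 0).lTensor B (σ d) = 0
        have : sp 0 = 0 := by
          ext r
          simp [hsp]
        rw [this]
        simp
      map_add' := fun g g' => by
        ext d
        change (sp (g + g')).lTensor B (σ d) = (sp g).lTensor B (σ d) + (sp g').lTensor B (σ d)
        have : sp (g + g') = sp g + sp g' := by
          ext r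
          simp [hsp]
        rw [this, LinearMap.lTensor_add]
        rfl }
  have hf : ∀ g d, f g d = (sp g).lTensor B (σ d) := fun g d => rfl
  let κ : G ⊗[C'] D' →+ B ⊗[A] G := TensorProduct.liftAddHom f (by
    intro x g d
    rw [hf, hf]
    have h1 : x • d = p x * d := rfl
    rw [h1, map_mul, hσ1]
    generalize σ d = z
    induction z with
    | zero => simp
    | add z z' h h' => rw [mul_add, map_add, map_add, h, h']
    | tmul b r =>
      rw [Algebra.TensorProduct.tmul_mul_tmul, one_mul, LinearMap.lTensor_tmul, LinearMap.lTensor_tmul, hsp, hsp,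
        ← hsm, smul_smul, mul_comm])
  have hκ : ∀ g d, κ (g ⊗ₜ d) = (sp g).lTensor B (σ d) := fun g d => rfl
  let incl : G ⊗[C'] D' →ₗ[C'] (C' ⧸ M₂) ⊗[C'] D' := G.subtype.rTensor D'
  have hincl : Function.Injective incl :=
    Module.Flat.rTensor_preserves_injective_linearMap _ G.injective_subtype
  have htm : ∀ (x : C') (d : D'), mk x ⊗ₜ[C'] d = mk 1 ⊗ₜ[C'] (p x * d) := by
    intro x d
    have h1 : mk x = x • mk 1 := by rw [← map_smul mk, smul_eq_mul, mul_one]
    rw [h1, TensorProduct.smul_tmul]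
    rfl
  -- `M₂ D'` goes to zero
  have hK : ∀ d ∈ M₂.map p, mk 1 ⊗ₜ[C'] d = 0 := by
    intro d hd
    induction hd using Submodule.span_induction with
    | mem x hx =>
      obtain ⟨y, hy, rfl⟩ := hx
      have := htm y 1
      rw [mul_one] at this
      rw [← this, (hmk y).2 hy, TensorProduct.zero_tmul]
    | zero => rw [TensorProduct.tmul_zero]
    | add x y _ _ h1 h2 => rw [TensorProduct.tmul_add, h1, h2, add_zero]
    | smul a x _ h =>
      have h3 : ∀ z : (C' ⧸ M₂) ⊗[C'] D', z = 0 → (LinearMap.mulLeft C' a).lTensor _ z = 0 := by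
        rintro _ rfl
        simp
      have := h3 _ h
      rwa [LinearMap.lTensor_tmul] at this
  have hq : M₂.map q ≤ M₂.map p := by
    have h1 : M₂.map q = N₂.map (q.comp s) := by rw [hM₂s, Ideal.map_map]
    have h2 : M₂.map p = N₂.map (p.comp t) := by rw [hM₂t, Ideal.map_map]
    have h3 : q.comp s = p.comp t := RingHom.ext fun b => (e2 b).symm
    rw [h1, h2, h3]
  have hm : M₂.map m ≤ M₂.map p := by
    have h1 : M₂.map m = N₂.map (m.comp s) := by rw [hM₂s, Ideal.map_map]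
    have h2 : M₂.map p = N₂.map (p.comp s) := by rw [hM₂s, Ideal.map_map]
    have h3 : m.comp s = p.comp s := RingHom.ext fun b => (e1 b).symm
    rw [h1, h2, h3]
  -- decomposition
  let P : C' → Prop := fun x => ∃ ζ : G ⊗[C'] D', incl ζ = mk 1 ⊗ₜ[C'] (q x - m x) ∧
    (Δ.mkQ).lTensor B (κ ζ) = 0
  have Padd : ∀ x y, P x → P y → P (x + y) := by
    rintro x y ⟨ζ, h1, h2⟩ ⟨ξ, h3, h4⟩
    refine ⟨ζ + ξ, ?_, ?_⟩
    · rw [map_add, h1, h3, ← TensorProduct.tmul_add, map_add, map_add]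
      congr 1
      ring
    · rw [map_add, map_add, h2, h4, add_zero]
  have Pzero : P 0 := ⟨0, by simp, by simp⟩
  have PM : ∀ x ∈ M₂, P x := by
    intro x hx
    refine ⟨0, ?_, by simp⟩
    rw [map_zero, hK _ (sub_mem (hq (Ideal.mem_map_of_mem q hx)) (hm (Ideal.mem_map_of_mem m hx)))]
  have Pst : ∀ n ∈ N, ∀ b, P (s n * t b) := by
    intro n hn b
    refine ⟨⟨mk (t n - s n), mkG _ (sub_mem (hNt n hn) (hNs n hn))⟩ ⊗ₜ q (t b), ?_, ?_⟩
    · change mk (t n - s n) ⊗ₜ[C'] q (t b) = _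
      rw [htm, map_sub, e2, e1, map_mul, map_mul, e3]
      congr 1
      ring
    · rw [hκ, hσ2, LinearMap.lTensor_tmul, LinearMap.lTensor_tmul]
      have : Δ.mkQ (sp ⟨mk (t n - s n), mkG _ (sub_mem (hNt n hn) (hNs n hn))⟩ 1) = 0 := by
        rw [hsp, one_smul, Submodule.mkQ_apply, Submodule.Quotient.mk_eq_zero]
        exact ⟨n, hn, rfl⟩
      rw [this, TensorProduct.tmul_zero]
  have Psc : ∀ n ∈ N, ∀ x : C', P (s n * x) := by
    intro n hn x
    -- `x = Σ s b₁ t b₂ + j`
    obtain ⟨z, hz⟩ := hgen (ρ x)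
    have hz2 : ∀ z : B ⊗[A] B, ∃ y : C', ρ y = Algebra.TensorProduct.productMap s₀ t₀ z ∧ P (s n * y) := by
      intro z
      induction z with
      | zero => exact ⟨0, by simp, by simpa using Pzero⟩
      | add z w h1 h2 =>
        obtain ⟨y, h3, h4⟩ := h1
        obtain ⟨v, h5, h6⟩ := h2
        exact ⟨y + v, by rw [map_add, h3, h5, map_add], by rw [mul_add]; exact Padd _ _ h4 h6⟩
      | tmul b₁ b₂ =>
        obtain ⟨b₁, rfl⟩ := hπ b₁
        obtain ⟨b₂, rfl⟩ := hπ b₂
        refine ⟨s b₁ * t b₂, ?_, ?_⟩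
        · rw [map_mul, hs, ht, Algebra.TensorProduct.productMap_apply_tmul]
        · rw [← mul_assoc, ← map_mul]
          exact Pst _ (Ideal.mul_mem_right _ _ hn) _
    obtain ⟨y, h1, h2⟩ := hz2 z
    have h3 : x - y ∈ RingHom.ker ρ := by
      rw [RingHom.mem_ker, map_sub, h1, hz, sub_self]
    have h4 : s n * (x - y) ∈ M₂ := by
      rw [mul_comm]
      exact hJ (Ideal.mul_mem_mul h3 (hNs n hn))
    have h5 := Padd _ _ h2 (PM _ h4)
    rwa [← mul_add, add_sub_cancel] at h5
  have Pc : P c := by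
    rw [hMs] at hc
    have h : ∀ x ∈ N.map s, ∀ y : C', P (x * y) := by
      intro x hx
      induction hx using Submodule.span_induction with
      | mem x hx =>
        obtain ⟨n, hn, rfl⟩ := hx
        exact fun y => Psc n hn y
      | zero => exact fun y => by rw [zero_mul]; exact Pzero
      | add x y _ _ h1 h2 => exact fun z => by rw [add_mul]; exact Padd _ _ (h1 z) (h2 z)
      | smul a x _ h =>
        intro y
        rw [smul_eq_mul, mul_comm a x, mul_assoc]
        exact h _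
    simpa using h c hc 1
  obtain ⟨ζ, h1, h2⟩ := Pc
  have hcG : mk c ∈ G := mkG c hc
  have h3 : ζ + (⟨mk c, hcG⟩ : G) ⊗ₜ[C'] (1 : D') = 0 := by
    apply hincl
    rw [map_add, h1, map_zero]
    change _ + mk c ⊗ₜ[C'] (1 : D') = 0
    rw [htm c 1, mul_one, ← TensorProduct.tmul_add, hcoc, TensorProduct.tmul_zero]
  have h4 : (Δ.mkQ).lTensor B (κ ((⟨mk c, hcG⟩ : G) ⊗ₜ[C'] (1 : D'))) = 0 := by
    have := congrArg (fun z => (Δ.mkQ).lTensor B (κ z)) h3
    simp only [map_add, map_zero, h2, zero_add] at this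
    exact this
  rw [hκ, map_one, Algebra.TensorProduct.one_def, LinearMap.lTensor_tmul, LinearMap.lTensor_tmul, hsp,
    one_smul, Module.FaithfullyFlat.one_tmul_eq_zero_iff, Submodule.mkQ_apply,
    Submodule.Quotient.mk_eq_zero] at h4
  obtain ⟨n, hn, h5⟩ := h4
  refine ⟨n, hn, ?_⟩
  rw [← hmk, map_sub, ← h5, sub_self]

/-- Invariant functions lift along nilpotent thickenings of the groupoid. -/
theorem exists_equalizer_lift {A B R₀ B' C' D' : Type u} [CommRing A] [CommRing B] [CommRing R₀] [CommRing B']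
    [CommRing C'] [CommRing D'] [Algebra A B] [Module.FaithfullyFlat A B] [Algebra A R₀]
    (π : B' →+* B) (hπ : Function.Surjective π) (ρ : C' →+* R₀) (hρ : Function.Surjective ρ)
    (s t : B' →+* C') (s₀ t₀ : B →ₐ[A] R₀) (hs : ∀ b, ρ (s b) = s₀ (π b)) (ht : ∀ b, ρ (t b) = t₀ (π b))
    (hgen : Function.Surjective (Algebra.TensorProduct.productMap s₀ t₀))
    (p q m : C' →+* D') (e1 : ∀ b, p (s b) = m (s b)) (e2 : ∀ b, p (t b) = q (s b))
    (e3 : ∀ b, m (t b) = q (t b)) (hp : p.Flat)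
    (σ : D' →+* B ⊗[A] R₀) (hσ1 : ∀ c, σ (p c) = 1 ⊗ₜ ρ c) (hσ2 : ∀ b, σ (q (t b)) = π b ⊗ₜ 1)
    (hJs : RingHom.ker ρ = (RingHom.ker π).map s) (hJt : RingHom.ker ρ = (RingHom.ker π).map t)
    (n : ℕ) (hn : RingHom.ker π ^ n = ⊥) (a : A) :
    ∃ b : B', π b = algebraMap A B a ∧ s b = t b := by
  have H : ∀ k : ℕ, ∃ b : B', π b = algebraMap A B a ∧ s b - t b ∈ (RingHom.ker π ^ (k + 1)).map s := by
    intro k
    induction k with
    | zero =>
      obtain ⟨b, hb⟩ := hπ (algebraMap A B a)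
      refine ⟨b, hb, ?_⟩
      rw [zero_add, pow_one, ← hJs, RingHom.mem_ker, map_sub, hs, ht, hb, AlgHom.commutes, AlgHom.commutes,
        sub_self]
    | succ k ih =>
      obtain ⟨b, hb, hc⟩ := ih
      obtain ⟨x, hx, h⟩ := exists_of_cocycle π hπ ρ hρ s t s₀ t₀ hs ht hgen p q m e1 e2 e3 hp σ hσ1 hσ2
        (RingHom.ker π ^ (k + 1)) (RingHom.ker π ^ (k + 2)) ((RingHom.ker π ^ (k + 1)).map s)
        ((RingHom.ker π ^ (k + 2)).map s) rfl
        (by rw [Ideal.map_pow, Ideal.map_pow, ← hJs, ← hJt]) rfl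
        (by rw [Ideal.map_pow, Ideal.map_pow, ← hJs, ← hJt])
        (by rw [hJs, ← Ideal.map_mul, ← pow_succ']) (s b - t b) hc
        (by rw [map_sub, map_sub, map_sub, e1, e2, e3]; ring)
      refine ⟨b + x, ?_, ?_⟩
      · rw [map_add, hb, (Ideal.pow_le_self (Nat.succ_ne_zero k) hx : x ∈ RingHom.ker π), add_zero]
      · rw [map_add, map_add]
        convert h using 1
        ring
  rcases n with _ | n
  · have h1 : (1 : B') ∈ (⊥ : Ideal B') := by
      rw [← hn, pow_zero, Ideal.one_eq_top]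
      exact Submodule.mem_top
    have h2 : Subsingleton B' := by
      rw [Ideal.mem_bot] at h1
      exact subsingleton_of_zero_eq_one h1.symm
    obtain ⟨b, hb⟩ := hπ (algebraMap A B a)
    refine ⟨b, hb, ?_⟩
    rw [Subsingleton.elim b 0, map_zero, map_zero]
  · obtain ⟨b, hb, h⟩ := H n
    refine ⟨b, hb, ?_⟩
    rwa [hn, Ideal.map_bot, Ideal.mem_bot, sub_eq_zero] at h

end K632.SqZeroAlg
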