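import Groth.Agent.AlgSp.K632.SqZeroAlg
import Groth.Agent.Flat2C.Thick
import Mathlib.AlgebraicGeometry.Morphisms.Flat
import Mathlib.AlgebraicGeometry.Morphisms.Affine

/-!
# Lifting invariant functions along nilpotent thickenings of affine groupoid schemes
-/

set_option autoImplicit false
set_option linter.style.haveILetI false
universe u
open CategoryTheory CategoryTheory.Limits AlgebraicGeometry TensorProduct

namespace K632.SqZeroSch

/-- The kernel on global sections of a closed immersion with nilpotent ideal into an affine scheme. -/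
theorem ker_appTop_pow {X X' : Scheme.{u}} (i : X ⟶ X') [IsClosedImmersion i] [IsAffine X'] (n : ℕ)
    (hn : i.ker ^ n = ⊥) : RingHom.ker i.appTop.hom ^ n = ⊥ := by
  have h2 : (i.ker ^ n).ideal ⟨⊤, isAffineOpen_top X'⟩ = ⊥ := by rw [hn]; rfl
  rwa [Scheme.IdealSheafData.ideal_pow, Pi.pow_apply, Scheme.Hom.ker_apply] at h2

/-- The kernel on global sections of the base change of a closed immersion (affine schemes). -/
theorem surj_and_ker_appTop {X X' S S' : Scheme.{u}} {iX : X ⟶ X'} {iS : S ⟶ S'} {f : X ⟶ S}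
    {f' : X' ⟶ S'} (hc : IsPullback iX f f' iS) [IsClosedImmersion iS] [IsAffine S'] [IsAffine X'] :
    Function.Surjective iX.appTop ∧
      RingHom.ker iX.appTop.hom = (RingHom.ker iS.appTop.hom).map f'.appTop.hom := by
  have h := Groth.Agent.Flat2C.Thick.surjective_app_and_ker_app hc (isAffineOpen_top S') (isAffineOpen_top X')
    (le_refl _)
  have e : f'.appLE ⊤ ⊤ (le_refl _) = f'.appTop := (Scheme.Hom.app_eq_appLE (f := f') (U := ⊤)).symm
  rw [e] at h
  exact h

theorem exists_lift_sections {P U U' R R' : Scheme.{u}} [IsAffine P] [IsAffine U] [IsAffine U'] [IsAffine R]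
    [IsAffine R'] (u : U ⟶ P) [Flat u] [Surjective u] (iU : U ⟶ U') [IsClosedImmersion iU]
    (s' t' : R' ⟶ U') [Flat s'] [Flat t'] (s t : R ⟶ U) (iR : R ⟶ R')
    (h0 : IsPullback s t u u) (hs : IsPullback iR s s' iU) (ht : IsPullback iR t t' iU)
    (m : pullback t' s' ⟶ R') (hm1 : m ≫ s' = pullback.fst t' s' ≫ s')
    (hm2 : m ≫ t' = pullback.snd t' s' ≫ t') (n : ℕ) (hn : iU.ker ^ n = ⊥) (a : Γ(P, ⊤)) :
    ∃ b : Γ(U', ⊤), iU.appTop b = u.appTop a ∧ s'.appTop b = t'.appTop b := by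
  have : IsClosedImmersion iR := MorphismProperty.of_isPullback hs.flip ‹_›
  let A := Γ(P, ⊤)
  let B := Γ(U, ⊤)
  let R₀ := Γ(R, ⊤)
  letI algB : Algebra A B := u.appTop.hom.toAlgebra
  letI algR : Algebra A R₀ := (s ≫ u).appTop.hom.toAlgebra
  have hff : Module.FaithfullyFlat A B :=
    (Flat.flat_and_surjective_iff_faithfullyFlat_of_isAffine u).1 ⟨‹_›, ‹_›⟩
  let s₀ : B →ₐ[A] R₀ := { s.appTop.hom with
    commutes' := fun x => by
      change s.appTop (u.appTop x) = (s ≫ u).appTop x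
      rw [Scheme.Hom.comp_appTop]; rfl }
  let t₀ : B →ₐ[A] R₀ := { t.appTop.hom with
    commutes' := fun x => by
      change t.appTop (u.appTop x) = (s ≫ u).appTop x
      rw [h0.w, Scheme.Hom.comp_appTop]; rfl }
  obtain ⟨hρ, hJs⟩ := surj_and_ker_appTop hs
  obtain ⟨-, hJt⟩ := surj_and_ker_appTop ht
  have hgen : Function.Surjective (Algebra.TensorProduct.productMap s₀ t₀) := by
    have h1 := CommRingCat.closure_range_union_range_eq_top_of_isPushout (isPushout_appTop_of_isPullback h0)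
    refine (RingHom.range_eq_top (f := (Algebra.TensorProduct.productMap s₀ t₀).toRingHom)).1 ?_
    rw [eq_top_iff, ← h1, Subring.closure_le]
    rintro _ (⟨x, rfl⟩ | ⟨x, rfl⟩)
    · exact ⟨x ⊗ₜ 1, Algebra.TensorProduct.productMap_left_apply s₀ t₀ x⟩
    · exact ⟨1 ⊗ₜ x, Algebra.TensorProduct.productMap_right_apply s₀ t₀ x⟩
  -- the auxiliary map `σ`
  let W := pullback u (s ≫ u)
  let l : W ⟶ R := h0.lift (pullback.snd u (s ≫ u) ≫ t) (pullback.fst u (s ≫ u)) (by
    rw [Category.assoc, ← h0.w, ← pullback.condition])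
  have hl1 : l ≫ s = pullback.snd u (s ≫ u) ≫ t := h0.lift_fst _ _ _
  have hl2 : l ≫ t = pullback.fst u (s ≫ u) := h0.lift_snd _ _ _
  let σ : W ⟶ pullback t' s' := pullback.lift (pullback.snd u (s ≫ u) ≫ iR) (l ≫ iR) (by
    rw [Category.assoc, ht.w, Category.assoc, hs.w, ← Category.assoc, ← Category.assoc, hl1])
  have hσ1 : σ ≫ pullback.fst t' s' = pullback.snd u (s ≫ u) ≫ iR := pullback.lift_fst _ _ _
  have hσ2 : σ ≫ pullback.snd t' s' = l ≫ iR := pullback.lift_snd _ _ _
  have hW : IsPushout u.appTop (s ≫ u).appTop (pullback.fst u (s ≫ u)).appTop (pullback.snd u (s ≫ u)).appTop :=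
    isPushout_appTop_of_isPullback (IsPullback.of_hasPullback u (s ≫ u))
  let d : Γ(W, ⊤) ⟶ CommRingCat.of (B ⊗[A] R₀) := hW.desc
    (CommRingCat.ofHom (Algebra.TensorProduct.includeLeftRingHom (R := A) (A := B) (B := R₀)))
    (CommRingCat.ofHom (Algebra.TensorProduct.includeRight (R := A) (A := B) (B := R₀)).toRingHom) (by
      ext x
      change (algebraMap A B x) ⊗ₜ[A] (1 : R₀) = (1 : B) ⊗ₜ[A] (algebraMap A R₀ x)
      rw [Algebra.algebraMap_eq_smul_one, Algebra.algebraMap_eq_smul_one, TensorProduct.smul_tmul])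
  have hd1' : (pullback.fst u (s ≫ u)).appTop ≫ d = CommRingCat.ofHom
      (Algebra.TensorProduct.includeLeftRingHom (R := A) (A := B) (B := R₀)) := hW.inl_desc _ _ _
  have hd2' : (pullback.snd u (s ≫ u)).appTop ≫ d = CommRingCat.ofHom
      (Algebra.TensorProduct.includeRight (R := A) (A := B) (B := R₀)).toRingHom := hW.inr_desc _ _ _
  have hd1 : ∀ x, d ((pullback.fst u (s ≫ u)).appTop x) = x ⊗ₜ[A] 1 := fun x =>
    congrArg (fun (f : Γ(U, ⊤) ⟶ CommRingCat.of (B ⊗[A] R₀)) => f.hom x) hd1'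
  have hd2 : ∀ x, d ((pullback.snd u (s ≫ u)).appTop x) = 1 ⊗ₜ[A] x := fun x =>
    congrArg (fun (f : Γ(R, ⊤) ⟶ CommRingCat.of (B ⊗[A] R₀)) => f.hom x) hd2'
  have hfl : (pullback.fst t' s').appTop.hom.Flat := by
    exact HasRingHomProperty.appTop (P := @Flat) _ inferInstance
  have := SqZeroAlg.exists_equalizer_lift (A := A) (B := B) (R₀ := R₀) iU.appTop.hom
    (iU.app_surjective ⊤ (isAffineOpen_top U')) iR.appTop.hom hρ s'.appTop.hom t'.appTop.hom s₀ t₀
    (fun b => by
      change (s'.appTop ≫ iR.appTop) b = (iU.appTop ≫ s.appTop) b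
      rw [← Scheme.Hom.comp_appTop, ← Scheme.Hom.comp_appTop, hs.w])
    (fun b => by
      change (t'.appTop ≫ iR.appTop) b = (iU.appTop ≫ t.appTop) b
      rw [← Scheme.Hom.comp_appTop, ← Scheme.Hom.comp_appTop, ht.w])
    hgen (pullback.fst t' s').appTop.hom (pullback.snd t' s').appTop.hom m.appTop.hom
    (fun b => by
      change (s'.appTop ≫ (pullback.fst t' s').appTop) b = (s'.appTop ≫ m.appTop) b
      rw [← Scheme.Hom.comp_appTop, ← Scheme.Hom.comp_appTop, hm1])
    (fun b => by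
      change (t'.appTop ≫ (pullback.fst t' s').appTop) b = (s'.appTop ≫ (pullback.snd t' s').appTop) b
      rw [← Scheme.Hom.comp_appTop, ← Scheme.Hom.comp_appTop, pullback.condition])
    (fun b => by
      change (t'.appTop ≫ m.appTop) b = (t'.appTop ≫ (pullback.snd t' s').appTop) b
      rw [← Scheme.Hom.comp_appTop, ← Scheme.Hom.comp_appTop, hm2])
    hfl (d.hom.comp σ.appTop.hom)
    (fun c => by
      change d (((pullback.fst t' s').appTop ≫ σ.appTop) c) = _
      rw [← Scheme.Hom.comp_appTop, hσ1, Scheme.Hom.comp_appTop]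
      exact hd2 _)
    (fun b => by
      change d ((t'.appTop ≫ (pullback.snd t' s').appTop ≫ σ.appTop) b) = _
      rw [← Scheme.Hom.comp_appTop, ← Scheme.Hom.comp_appTop, hσ2, Category.assoc, ht.w, ← Category.assoc, hl2,
        Scheme.Hom.comp_appTop]
      exact hd1 _)
    hJs hJt n (ker_appTop_pow iU n hn) a
  exact this

end K632.SqZeroSch
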