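import Groth.Agent.AlgSp.K632.FinThickSch
import Groth.Agent.AlgSp.K632.NilLift

/-!
# Thickenings of affine schemes are affine schemes, granted that invariant functions lift
-/

set_option autoImplicit false
set_option linter.style.haveILetI false
universe u
open CategoryTheory CategoryTheory.Limits AlgebraicGeometry Opposite

namespace K632.ThickAffine

open AlgSp K632.Basic K632.Chart K632.FinThickAffine

variable {S : Scheme.{u}}

/-- A thickening of an affine scheme over an affine open of the base, such that functions on the thin part lift to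
invariant functions on an affine étale chart, is an affine scheme. -/
theorem exists_affine_of_lift {X' : Sp S} (hX' : IsAlgSpace X') {P : Over S} [IsAffine P.left]
    (S₀ : S.Opens) (hS₀ : IsAffineOpen S₀) (hPS : ∀ x, P.hom x ∈ S₀) {i : (yon S).obj P ⟶ X'}
    (hi : IsThickMor i) {U U' R' : Over S} [IsAffine U'.left] {a : (yon S).obj U' ⟶ X'} (ha : RepWith @Etale a)
    (has : RepWith @Surjective a) {u : U ⟶ P} {iU : U ⟶ U'}
    (hU : IsPullback ((yon S).map u) ((yon S).map iU) i a) {s' t' : R' ⟶ U'}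
    (hR' : IsPullback ((yon S).map s') ((yon S).map t') a a)
    (key : ∀ x : Γ(P.left, ⊤), ∃ b : Γ(U'.left, ⊤), iU.left.appTop b = u.left.appTop x ∧
      s'.left.appTop b = t'.left.appTop b) :
    ∃ Q : Over S, IsAffine Q.left ∧ Nonempty ((yon S).obj Q ≅ X') := by
  have hiU := hi.2 _ _ _ hU
  have hiU1 : IsClosedImmersion iU.left := hiU.1
  have hiU2 : Surjective iU.left := hiU.2
  have hUaff : IsAffine U.left := isAffine_of_isAffineHom iU.left
  have hue : Etale u.left := (repWith_yon_map_iff @Etale u).1 (repWith_of_isPullback hU.flip ha)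
  have hus : Surjective u.left := (repWith_yon_map_iff @Surjective u).1 (repWith_of_isPullback hU.flip has)
  obtain ⟨T, q, hT, hq, hq'⟩ := exists_quotient_affine s' t' S₀ hS₀ (fun x => by
    obtain ⟨y, rfl⟩ := iU.left.surjective x
    have e1 : iU.left ≫ U'.hom = u.left ≫ P.hom := by rw [Over.w, Over.w]
    rw [← Scheme.Hom.comp_apply, e1, Scheme.Hom.comp_apply]
    exact hPS _)
  have hF : K613.Cover.FSurj a := (K613.Cover.ESurj.of_repWith ha has).fSurj
  obtain ⟨f', hf', -⟩ := hF.desc ((yon S).map q) (fun Z v w hvw => by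
    have h1 : v = hR'.lift v w hvw ≫ (yon S).map s' := (hR'.lift_fst _ _ _).symm
    have h2 : w = hR'.lift v w hvw ≫ (yon S).map t' := (hR'.lift_snd _ _ _).symm
    rw [h1]
    conv_rhs => rw [h2]
    rw [Category.assoc, Category.assoc, ← Functor.map_comp, ← Functor.map_comp, hq])
  obtain ⟨f, hf⟩ := (yon S).map_surjective (i ≫ f')
  have huf : u ≫ f = iU ≫ q := (yon S).map_injective (by
    rw [Functor.map_comp, Functor.map_comp, hf, ← hf', ← Category.assoc, hU.w, Category.assoc])
  have huf' : u.left ≫ f.left = iU.left ≫ q.left := congrArg (·.left) huf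
  have hcl : IsClosedImmersion f.left := by
    refine IsClosedImmersion.of_surjective_of_isAffine f.left fun x => ?_
    obtain ⟨b, hb1, hb2⟩ := key x
    obtain ⟨c, hc⟩ := hq' b hb2
    refine ⟨c, ?_⟩
    have hinj : Function.Injective u.left.appTop.hom :=
      RingHom.FaithfullyFlat.injective ((Flat.flat_and_surjective_iff_faithfullyFlat_of_isAffine u.left).1
        ⟨inferInstance, hus⟩)
    apply hinj
    change u.left.appTop (f.left.appTop c) = u.left.appTop x
    rw [← hb1, ← hc]
    change (f.left.appTop ≫ u.left.appTop) c = (q.left.appTop ≫ iU.left.appTop) c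
    rw [← Scheme.Hom.comp_appTop, ← Scheme.Hom.comp_appTop, huf']
  have hint : RepWith @IsIntegralHom ((yon S).map f) := (repWith_yon_map_iff _ _).2 inferInstance
  have hfin := K632.IntThick.repWith_isIntegralHom hX' (IsAlgSpace.yon_obj T) hi (K631.ThickMor.isThickMor_id _)
    (f := (yon S).map f) (f' := f') (by rw [hf, Category.comp_id]) hint
  obtain ⟨Q, π, e, hQ⟩ := hfin.1 (𝟙 _)
  have hπ : IsIntegralHom π.left := hfin.2 _ _ _ hQ
  have he : IsIso e := hQ.isIso_fst_of_isIso
  exact ⟨Q, isAffine_of_isAffineHom π.left, ⟨asIso e⟩⟩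

/-- A chart of a thickening of an affine scheme. -/
structure ThChart {X' : Sp S} {P : Over S} (i : (yon S).obj P ⟶ X') (U U' R R' : Over S) where
  a : (yon S).obj U' ⟶ X'
  ha : RepWith @Etale a
  has : RepWith @Surjective a
  hU' : IsAffine U'.left
  u : U ⟶ P
  iU : U ⟶ U'
  hU : IsPullback ((yon S).map u) ((yon S).map iU) i a
  s' : R' ⟶ U'
  t' : R' ⟶ U'
  hR' : IsPullback ((yon S).map s') ((yon S).map t') a a
  s : R ⟶ U
  t : R ⟶ U
  h0 : IsPullback s t u u
  iR : R ⟶ R'
  hiR1 : IsPullback iR s s' iU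
  hiR2 : IsPullback iR t t' iU

theorem exists_thChart {X' : Sp S} (hX' : IsAlgSpace X') {P : Over S} [IsAffine P.left]
    {i : (yon S).obj P ⟶ X'} (hi : IsThickMor i) : ∃ (U U' R R' : Over S), Nonempty (ThChart i U U' R R') := by
  have hmono : Mono i := mono_of_isThickMor hi
  obtain ⟨U', a, hU', ha, has⟩ := K609.QC.exists_affine_chart
    ((K631.ThickMor.isQuasiCompactSp_iff_of_thick hi hX').1 (K596.QC.isQuasiCompactSp_yon P))
  obtain ⟨U, iU, a₀, hU⟩ := hi.1 a
  obtain ⟨u, rfl⟩ := (yon S).map_surjective a₀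
  obtain ⟨R', t', s₀, hR'⟩ := ha.1 a
  obtain ⟨s', rfl⟩ := (yon S).map_surjective s₀
  let R : Over S := pullback u u
  let s : R ⟶ U := pullback.fst u u
  let t : R ⟶ U := pullback.snd u u
  have h0 : IsPullback s t u u := IsPullback.of_hasPullback u u
  obtain ⟨iR, hiR⟩ := (yon S).map_surjective (hR'.lift ((yon S).map (s ≫ iU)) ((yon S).map (t ≫ iU)) (by
    rw [Functor.map_comp, Functor.map_comp, Category.assoc, Category.assoc, ← hU.w, ← Category.assoc,
      ← Category.assoc, ← Functor.map_comp, ← Functor.map_comp, h0.w]))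
  have hiR1 : iR ≫ s' = s ≫ iU := (yon S).map_injective (by
    rw [Functor.map_comp, hiR]; exact hR'.lift_fst _ _ _)
  have hiR2 : iR ≫ t' = t ≫ iU := (yon S).map_injective (by
    rw [Functor.map_comp, hiR]; exact hR'.lift_snd _ _ _)
  have hY0 : IsPullback ((yon S).map s) ((yon S).map t) ((yon S).map u) ((yon S).map u) := h0.map (yon S)
  have hs : IsPullback iR s s' iU := by
    refine IsPullback.of_map (yon S) hiR1 (IsPullback.of_right (h₁₂ := (yon S).map t') (h₂₂ := a) (v₁₃ := a) ?_
      (by rw [← Functor.map_comp, ← Functor.map_comp, hiR1]) hR'.flip)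
    rw [← Functor.map_comp, hiR2, Functor.map_comp, ← hU.w]
    exact hY0.flip.paste_horiz hU.flip
  have ht : IsPullback iR t t' iU := by
    refine IsPullback.of_map (yon S) hiR2 (IsPullback.of_right (h₁₂ := (yon S).map s') (h₂₂ := a) (v₁₃ := a) ?_
      (by rw [← Functor.map_comp, ← Functor.map_comp, hiR2]) hR')
    rw [← Functor.map_comp, hiR1, Functor.map_comp, ← hU.w]
    exact hY0.paste_horiz hU.flip
  exact ⟨U, U', R, R', ⟨⟨a, ha, has, hU', u, iU, hU, s', t', hR', s, t, h0, iR, hs, ht⟩⟩⟩

section dat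

variable {X' : Sp S} {P : Over S} {i : (yon S).obj P ⟶ X'} {U U' R R' : Over S}

theorem SpecMap_appTop {Q : MorphismProperty Scheme.{u}} [Q.RespectsIso] {X Y : Scheme.{u}} [IsAffine X] [IsAffine Y]
    (f : X ⟶ Y) : Q (Spec.map f.appTop) ↔ Q f :=
  (MorphismProperty.arrow_mk_iso_iff Q (arrowIsoSpecΓOfIsAffine f)).symm

/-- The groupoid of rings of a chart. -/
theorem ThChart.exists_dat (c : ThChart i U U' R R') [IsAffine P.left] (hi : IsThickMor i) :
    IsAffine R'.left ∧ ∃ (D' : CommRingCat.{u})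
      (X : NilLevel.Dat Γ(P.left, ⊤) Γ(U.left, ⊤) Γ(R.left, ⊤) Γ(U'.left, ⊤) Γ(R'.left, ⊤) D'),
      X.j = c.u.left.appTop ∧ X.π = c.iU.left.appTop ∧ X.s = c.s'.left.appTop ∧ X.t = c.t'.left.appTop := by
  obtain ⟨a, ha, has, hU', u, iU, hU, s', t', hR', s, t, h0, iR, hs, ht⟩ := c
  have hiU := hi.2 _ _ _ hU
  have hiU1 : IsClosedImmersion iU.left := hiU.1
  have hiU2 : Surjective iU.left := hiU.2
  have hUaff : IsAffine U.left := isAffine_of_isAffineHom iU.left
  have hue : Etale u.left := (repWith_yon_map_iff @Etale u).1 (repWith_of_isPullback hU.flip ha)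
  have hus : Surjective u.left := (repWith_yon_map_iff @Surjective u).1 (repWith_of_isPullback hU.flip has)
  have hse : Etale s'.left := (repWith_yon_map_iff @Etale s').1 (repWith_of_isPullback hR'.flip ha)
  have hte : Etale t'.left := ha.2 _ _ _ hR'
  have h0' := h0.map (Over.forget S)
  have hs' := hs.map (Over.forget S)
  have ht' := ht.map (Over.forget S)
  have hRaff : IsAffine R.left := by
    have : IsAffineHom s.left := MorphismProperty.of_isPullback (P := @IsAffineHom) h0'.flip
      (inferInstance : IsAffineHom u.left)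
    exact isAffine_of_isAffineHom s.left
  have hiRt : thick iR.left := MorphismProperty.of_isPullback (P := thick) hs'.flip hiU
  have hR'aff : IsAffine R'.left := isAffine_of_thick hiRt
  refine ⟨hR'aff, ?_⟩
  -- the triple fibre product
  let R2 : Over S := Over.mk (pullback.fst t'.left s'.left ≫ R'.hom)
  let p₁ : R2 ⟶ R' := Over.homMk (pullback.fst t'.left s'.left) rfl
  let p₂ : R2 ⟶ R' := Over.homMk (pullback.snd t'.left s'.left) (by
    change pullback.snd t'.left s'.left ≫ R'.hom = pullback.fst t'.left s'.left ≫ R'.hom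
    rw [← Over.w s', ← Category.assoc, ← pullback.condition, Category.assoc, Over.w s', Over.w t'])
  have hp : p₁ ≫ t' = p₂ ≫ s' := Over.OverMorphism.ext pullback.condition
  obtain ⟨m, hm⟩ := (yon S).map_surjective (hR'.lift ((yon S).map (p₁ ≫ s')) ((yon S).map (p₂ ≫ t')) (by
    rw [Functor.map_comp, Functor.map_comp, Category.assoc, Category.assoc, hR'.w, ← hR'.w, ← Category.assoc,
      ← Category.assoc, ← Functor.map_comp, ← Functor.map_comp, ← hp, Functor.map_comp, Functor.map_comp,
      Category.assoc, Category.assoc, hR'.w]))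
  have hm1 : m ≫ s' = p₁ ≫ s' := (yon S).map_injective (by
    rw [Functor.map_comp, hm]; exact hR'.lift_fst _ _ _)
  have hm2 : m ≫ t' = p₂ ≫ t' := (yon S).map_injective (by
    rw [Functor.map_comp, hm]; exact hR'.lift_snd _ _ _)
  obtain ⟨δ, hδ⟩ := (yon S).map_surjective (hR'.lift (𝟙 _) (𝟙 _) rfl)
  have hδ1 : δ ≫ s' = 𝟙 U' := (yon S).map_injective (by
    rw [Functor.map_comp, hδ, (yon S).map_id]; exact hR'.lift_fst _ _ _)
  have hD := IsPullback.of_hasPullback t'.left s'.left
  refine ⟨Γ(R2.left, ⊤), ⟨u.left.appTop, ?_, ?_, iU.left.appTop, ?_, iR.left.appTop, s'.left.appTop, t'.left.appTop,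
    s.left.appTop, t.left.appTop, isPushout_appTop_of_isPullback hs', isPushout_appTop_of_isPullback ht',
    isPushout_appTop_of_isPullback h0'.flip, ?_, ?_, (pullback.fst t'.left s'.left).appTop,
    (pullback.snd t'.left s'.left).appTop, m.left.appTop, isPushout_appTop_of_isPullback hD, ?_, ?_, δ.left.appTop, ?_⟩,
    rfl, rfl, rfl, rfl⟩
  · exact (SpecMap_appTop (Q := @Etale) u.left).2 hue
  · exact (Flat.flat_and_surjective_iff_faithfullyFlat_of_isAffine u.left).1 ⟨inferInstance, hus⟩
  · exact (SpecMap_appTop (Q := thick) iU.left).2 hiU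
  · exact (SpecMap_appTop (Q := @Etale) s'.left).2 hse
  · exact (SpecMap_appTop (Q := @Etale) t'.left).2 hte
  · rw [← Scheme.Hom.comp_appTop, ← Scheme.Hom.comp_appTop]
    exact congrArg (fun f => f.left.appTop) hm1
  · rw [← Scheme.Hom.comp_appTop, ← Scheme.Hom.comp_appTop]
    exact congrArg (fun f => f.left.appTop) hm2
  · rw [← Scheme.Hom.comp_appTop]
    exact (congrArg (fun f => f.left.appTop) hδ1).trans Scheme.Hom.id_appTop

/-- **Affineness of nil thickenings**, granted that the ideal of the thin part is on the chart the union of finitely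
generated invariant ideals. -/
theorem ThChart.exists_affine (c : ThChart i U U' R R') (hX' : IsAlgSpace X') (hP : IsAffine P.left)
    (S₀ : S.Opens) (hS₀ : IsAffineOpen S₀) (hPS : ∀ x, P.hom x ∈ S₀) (hi : IsThickMor i)
    (hQC : ∀ x ∈ RingHom.ker c.iU.left.appTop.hom, ∃ I : Ideal Γ(U'.left, ⊤), I.FG ∧
      I ≤ RingHom.ker c.iU.left.appTop.hom ∧ I.map c.s'.left.appTop.hom = I.map c.t'.left.appTop.hom ∧ x ∈ I) :
    ∃ Q : Over S, IsAffine Q.left ∧ Nonempty ((yon S).obj Q ≅ X') := by
  obtain ⟨hR', D', X, h1, h2, h3, h4⟩ := c.exists_dat hi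
  have := c.hU'
  refine exists_affine_of_lift hX' S₀ hS₀ hPS hi c.ha c.has c.hU c.hR' fun x => ?_
  rw [← h1, ← h2, ← h3, ← h4]
  refine X.exists_lift (fun y hy => ?_) x
  rw [h2] at hy
  obtain ⟨I, hI1, hI2, hI3, hI4⟩ := hQC y hy
  exact ⟨I, ⟨hI1, ⟨by rw [h2]; exact hI2, by rw [h3, h4]; exact hI3⟩⟩, hI4⟩

end dat

end K632.ThickAffine
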