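import Groth.Agent.AlgSp.K632.ThickAffine
import Groth.Agent.AlgSp.K647.QcIdl
import Groth.Agent.AlgSp.K631.HomeoSch
import Groth.Agent.AlgSp.K631.BaseZ
import Groth.Agent.AlgSp.K631.FpThick
import Groth.Agent.Divis.IdealComap

/-!
# Thickenings of schemes are schemes

`exists_affine`: a thickening of an affine scheme is an affine scheme; `exists_rep`: a thickening of a scheme is a
scheme (no finiteness assumptions on the thickening).
-/

set_option autoImplicit false
universe u
open CategoryTheory CategoryTheory.Limits AlgebraicGeometry Opposite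

namespace K632.ThickSch

open AlgSp K632.Basic K632.Chart K632.ThickAffine K598.ClFam K647.FamOps K647.QcIdl BlowUp
  Groth.Agent.Divis.IdealComap

theorem isQuasiSeparatedSp_of_affine {S : Scheme.{u}} {W : Over S} (hW : IsAffine W.left) :
    IsQuasiSeparatedSp ((yon S).obj W) := by
  refine (repWith_diag_yon_iff _ W).2 ?_
  have h1 : IsSeparated (W.hom ≫ terminal.from S) := by
    have : W.hom ≫ terminal.from S = terminal.from W.left := Subsingleton.elim _ _
    rw [this]
    infer_instance
  have h2 : IsSeparated W.hom := IsSeparated.of_comp W.hom (terminal.from S)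
  have h3 : IsClosedImmersion (pullback.diagonal W.hom) := inferInstance
  exact (inferInstance : QuasiCompact (pullback.diagonal W.hom))

section scheme

variable {X Y : Scheme.{u}}

theorem ker_ideal_top [IsAffine Y] (f : X ⟶ Y) [QuasiCompact f] :
    f.ker.ideal ⟨⊤, isAffineOpen_top Y⟩ = RingHom.ker f.appTop.hom :=
  Scheme.Hom.ker_apply f ⟨⊤, isAffineOpen_top Y⟩

theorem ofIdealTop_ideal_top [IsAffine Y] (I : Ideal Γ(Y, ⊤)) :
    (Scheme.IdealSheafData.ofIdealTop I).ideal ⟨⊤, isAffineOpen_top Y⟩ = I := by simp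

end scheme

/-- Thickenings of affine schemes over an affine base are affine. -/
theorem exists_affine_base {S : Scheme.{u}} [IsAffine S] {X' : Space S} {P : Over S} (hP : IsAffine P.left)
    (i : (yon S).obj P ⟶ X'.obj) (hi : IsThickMor i) :
    ∃ Q : Over S, IsAffine Q.left ∧ Nonempty ((yon S).obj Q ≅ X'.obj) := by
  have hqc : IsQuasiCompactSp X'.obj :=
    (K631.ThickMor.isQuasiCompactSp_iff_of_thick hi X'.property).1 (K596.QC.isQuasiCompactSp_yon _)
  have hqs : IsQuasiSeparatedSp X'.obj := K631.FpThick.isQuasiSeparatedSp_of_thick X'.property hi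
    (isQuasiSeparatedSp_of_affine hP)
  obtain ⟨U, U', R, R', ⟨c⟩⟩ := exists_thChart X'.property hi
  have hU' := c.hU'
  have hR' : IsAffine R'.left := (c.exists_dat hi).1
  have hiU := hi.2 _ _ _ c.hU
  have hiU1 : IsClosedImmersion c.iU.left := hiU.1
  let A : Fam X'.obj := ofClosed i (K631.Thick.repWith_isClosedImmersion hi)
  have hA : A.I c.a = c.iU.left.ker := ofClosed_eq _ c.hU
  refine c.exists_affine X'.property hP ⊤ (isAffineOpen_top S) (fun _ => trivial) hi fun x hx => ?_
  obtain ⟨B, hBA, hB, hKB⟩ := qc_of_qcqs X' hqc hqs A U' c.a (Scheme.IdealSheafData.ofIdealTop (Ideal.span {x}))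
    (Groth.Agent.Flat2C.Admissible.isFT_of_cover _ fun y => ⟨⟨⊤, isAffineOpen_top _⟩, trivial, by
      rw [ofIdealTop_ideal_top]
      exact ⟨{x}, by simp⟩⟩)
    (Scheme.IdealSheafData.le_of_isAffine (by
      rw [ofIdealTop_ideal_top, hA, ker_ideal_top, Ideal.span_le]
      exact Set.singleton_subset_iff.2 hx))
  refine ⟨(B.I c.a).ideal ⟨⊤, isAffineOpen_top _⟩, hB c.a _, ?_, ?_, ?_⟩
  · have h := hBA U' c.a ⟨⊤, isAffineOpen_top _⟩
    rwa [hA, ker_ideal_top] at h
  · rw [← ideal_comap_top, ← ideal_comap_top, ← B.comap, ← B.comap, c.hR'.w]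
  · have h := hKB ⟨⊤, isAffineOpen_top _⟩
    rw [ofIdealTop_ideal_top] at h
    exact h (Ideal.subset_span rfl)

/-- **Thickenings of affine schemes are affine schemes.** -/
theorem exists_affine {S : Scheme.{u}} {X' : Space S} {P : Over S} (hP : IsAffine P.left)
    (i : (yon S).obj P ⟶ X'.obj) (hi : IsThickMor i) :
    ∃ Q : Over S, IsAffine Q.left ∧ Nonempty ((yon S).obj Q ≅ X'.obj) := by
  let g : S ⟶ ⊤_ Scheme.{u} := terminal.from S
  have : IsAffine (⊤_ Scheme.{u}) := inferInstance
  let Y' : Space (⊤_ Scheme.{u}) := ⟨(K595.ChBase.L g).obj X'.obj, K595.ChBase.isAlgSpace_L X'.property⟩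
  have hi' : IsThickMor ((K595.ChBase.L g).map i) := (K631.BaseZ.isThickMor_L_iff i).2 hi
  let e := K595.ChBase.yonIso (g := g) P
  obtain ⟨T', hT', ⟨e'⟩⟩ := exists_affine_base (X' := Y') (P := (Over.map g).obj P) hP
    (e.hom ≫ (K595.ChBase.L g).map i) (by
      have : thick.{u}.RespectsIso := inferInstance
      exact MorphismProperty.RespectsIso.precomp (RepWith thick) e.hom _ hi')
  obtain ⟨T, ⟨ε⟩, h⟩ := K631.BaseZ.exists_rep_of_L e'
  exact ⟨T, IsAffine.of_isIso ε.hom, h⟩

/-- **A thickening of a scheme is a scheme.** -/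
theorem exists_rep {S : Scheme.{u}} {X Y : Space S} (i : X ⟶ Y)
    (hi : IsThickMor i.hom) (hX : ∃ T : Over S, Nonempty ((yon S).obj T ≅ X.obj)) :
    ∃ T : Over S, Nonempty ((yon S).obj T ≅ Y.obj) :=
  K631.HomeoSch.exists_rep_of_thick i hi hX fun V W g hW hg => by
    obtain ⟨T, -, h⟩ := exists_affine hW g hg
    exact ⟨T, h⟩

end K632.ThickSch
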